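import Cfsg.Agent.Lib.Classical.FrameMax.Basic
import Cfsg.Agent.Lib.Classical.Dickson.Types

/-!
# A finite rotation group of the three-space with two generators has an element of order `p`
-/

set_option autoImplicit false
set_option linter.unusedSectionVars false
set_option linter.style.haveILetI false

namespace CfsgLib.Classical.FrameMax

open Module QuadraticMap Matrix CfsgLib.Orth CfsgLib.Classical.Dickson

noncomputable section

variable {F : Type*} [Field F] [Fintype F]

/-- The bilinear form `diag(1, 1, A)`. -/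
def b3 (A : F) (x y : Fin 3 → F) : F := x 0 * y 0 + x 1 * y 1 + A * (x 2 * y 2)

/-- The quadratic form `diag(1, 1, A)`. -/
def q3 (A : F) : QuadraticForm F (Fin 3 → F) :=
  QuadraticMap.linMulLin (LinearMap.proj 0) (LinearMap.proj 0) +
    QuadraticMap.linMulLin (LinearMap.proj 1) (LinearMap.proj 1) +
    A • QuadraticMap.linMulLin (LinearMap.proj 2) (LinearMap.proj 2)

theorem q3_apply (A : F) (x : Fin 3 → F) : q3 A x = b3 A x x := by
  simp [q3, b3]

theorem polar_q3 (A : F) (x y : Fin 3 → F) : polar (q3 A) x y = 2 * b3 A x y := by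
  simp only [polar, q3_apply, b3, Pi.add_apply]; ring

variable {A : F}

theorem b3_comm (x y : Fin 3 → F) : b3 A x y = b3 A y x := by simp only [b3]; ring

theorem b3_add (x y z : Fin 3 → F) : b3 A (x + y) z = b3 A x z + b3 A y z := by
  simp only [b3, Pi.add_apply]; ring

theorem b3_smul (c : F) (x z : Fin 3 → F) : b3 A (c • x) z = c * b3 A x z := by
  simp only [b3, Pi.smul_apply, smul_eq_mul]; ring

theorem b3_add_right (x y z : Fin 3 → F) : b3 A z (x + y) = b3 A z x + b3 A z y := by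
  simp only [b3, Pi.add_apply]; ring

theorem b3_smul_right (c : F) (x z : Fin 3 → F) : b3 A z (c • x) = c * b3 A z x := by
  simp only [b3, Pi.smul_apply, smul_eq_mul]; ring

theorem b3_isom (h2 : (2 : F) ≠ 0) (g : orthGroup (q3 A)) (x y : Fin 3 → F) :
    b3 A (g.1 x) (g.1 y) = b3 A x y := by
  have h := polar_isom g x y
  rw [polar_q3, polar_q3] at h
  exact mul_left_cancel₀ h2 h

/-- Any vector orthogonal to all vectors is zero. -/
theorem b3_eq_zero (hA : A ≠ 0) {x : Fin 3 → F} (h : ∀ z, b3 A x z = 0) : x = 0 := by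
  funext i
  fin_cases i
  · simpa [b3] using h ![1, 0, 0]
  · simpa [b3] using h ![0, 1, 0]
  · simpa [b3, hA] using h ![0, 0, 1]

/-- The rotations: the kernel of the determinant. -/
def det3 : orthGroup (q3 A) →* Fˣ := (LinearEquiv.det).comp (orthGroup (q3 A)).subtype

theorem exists_fixed_of_det (h2 : (2 : F) ≠ 0) (hA : A ≠ 0) (g : orthGroup (q3 A)) (hg : det3 g = 1) :
    ∃ w : Fin 3 → F, w ≠ 0 ∧ g.1 w = w := by
  classical
  set G : Matrix (Fin 3) (Fin 3) F := LinearMap.toMatrix' (g.1 : (Fin 3 → F) →ₗ[F] (Fin 3 → F)) with hG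
  set D : Matrix (Fin 3) (Fin 3) F := Matrix.diagonal ![1, 1, A] with hD
  have hb : ∀ x y, b3 A x y = x ⬝ᵥ D *ᵥ y := fun x y => by
    simp [b3, hD, Matrix.mulVec_diagonal, dotProduct, Fin.sum_univ_three]; ring
  have hGv : ∀ x, G *ᵥ x = g.1 x := fun x => by rw [hG, LinearMap.toMatrix'_mulVec]; rfl
  have hGDG : Gᵀ * D * G = D := by
    ext k l
    have h := b3_isom h2 g (Pi.single l 1) (Pi.single k 1)
    rw [hb, hb, ← hGv, ← hGv, Matrix.mulVec_mulVec, Matrix.dotProduct_mulVec, ← Matrix.mulVec_transpose,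
      Matrix.mulVec_mulVec] at h
    simp [Matrix.transpose_mul, Matrix.mul_assoc, Matrix.mulVec_single, hD] at h ⊢
    rw [h, Matrix.diagonal_apply]
    rcases eq_or_ne k l with rfl | hkl <;> simp [*, Pi.single_apply]
  have hdetG : G.det = 1 := by
    rw [hG, LinearMap.det_toMatrix']
    have := congrArg Units.val hg
    rwa [det3, MonoidHom.comp_apply, LinearEquiv.coe_det, Units.val_one] at this
  have hdetD : D.det ≠ 0 := by
    rw [hD, Matrix.det_diagonal]; simp [Fin.prod_univ_three, hA]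
  have h0 : (G - 1).det = 0 := by
    have e1 : (G - 1)ᵀ * D * G = -(D * (G - 1)) := by
      rw [Matrix.transpose_sub, Matrix.transpose_one, Matrix.sub_mul, Matrix.sub_mul, hGDG, Matrix.one_mul,
        Matrix.mul_sub, Matrix.mul_one, neg_sub]
    have e2 := congrArg Matrix.det e1
    rw [Matrix.det_mul, Matrix.det_mul, Matrix.det_transpose, hdetG, Matrix.det_neg, Fintype.card_fin,
      Matrix.det_mul] at e2
    exact (mul_eq_zero.1 (show (2 * D.det) * (G - 1).det = 0 by linear_combination e2)).resolve_left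
      (mul_ne_zero h2 hdetD)
  obtain ⟨w, hw0, hw⟩ := Matrix.exists_mulVec_eq_zero_iff.2 h0
  refine ⟨w, hw0, ?_⟩
  rw [Matrix.sub_mulVec, Matrix.one_mulVec, sub_eq_zero] at hw
  rw [← hGv, hw]

/-- A rotation fixing the vectors of a non-degenerate plane is trivial. -/
theorem eq_one_of_fix_two (h2 : (2 : F) ≠ 0) (hA : A ≠ 0) (g : orthGroup (q3 A)) (hg : det3 g = 1)
    {u w : Fin 3 → F} (hu : g.1 u = u) (hw : g.1 w = w)
    (hgram : b3 A u u * b3 A w w - b3 A u w * b3 A u w ≠ 0) : g = 1 := by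
  classical
  let f : (Fin 3 → F) →ₗ[F] (Fin 2 → F) :=
  { toFun := fun z => ![b3 A u z, b3 A w z]
    map_add' := fun a b => by ext i; fin_cases i <;> simp [b3_add_right]
    map_smul' := fun c a => by ext i; fin_cases i <;> simp [b3_smul_right] }
  obtain ⟨t, ht, ht0⟩ : ∃ t ∈ LinearMap.ker f, t ≠ 0 := by
    refine Submodule.exists_mem_ne_zero_of_ne_bot fun hk => ?_
    have := LinearMap.finrank_le_finrank_of_injective (LinearMap.ker_eq_bot.1 hk)
    simp [Module.finrank_fin_fun] at this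
  have htu : b3 A u t = 0 := congrFun (LinearMap.mem_ker.1 ht) 0
  have htw : b3 A w t = 0 := congrFun (LinearMap.mem_ker.1 ht) 1
  have hind : LinearIndependent F ![u, w, t] := by
    rw [Fintype.linearIndependent_iff]
    intro c hc
    simp only [Fin.sum_univ_three, Matrix.cons_val_zero, Matrix.cons_val_one, Matrix.cons_val] at hc
    have a1 := congrArg (b3 A u) hc
    have a2 := congrArg (b3 A w) hc
    rw [b3_add_right, b3_add_right, b3_smul_right, b3_smul_right, b3_smul_right, htu] at a1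
    rw [b3_add_right, b3_add_right, b3_smul_right, b3_smul_right, b3_smul_right, htw, b3_comm w u] at a2
    have z0 : b3 A u (0 : Fin 3 → F) = 0 ∧ b3 A w (0 : Fin 3 → F) = 0 := by simp [b3]
    rw [z0.1] at a1
    rw [z0.2] at a2
    have c0 : c 0 = 0 := (mul_eq_zero.1 (show c 0 * (b3 A u u * b3 A w w - b3 A u w * b3 A u w) = 0 by
      linear_combination b3 A w w * a1 - b3 A u w * a2)).resolve_right hgram
    have c1 : c 1 = 0 := (mul_eq_zero.1 (show c 1 * (b3 A u u * b3 A w w - b3 A u w * b3 A u w) = 0 by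
      linear_combination b3 A u u * a2 - b3 A u w * a1)).resolve_right hgram
    rw [c0, c1, zero_smul, zero_smul, zero_add, zero_add] at hc
    intro i
    fin_cases i
    exacts [c0, c1, (smul_eq_zero.1 hc).resolve_right ht0]
  let B := basisOfLinearIndependentOfCardEqFinrank hind (by simp)
  have hB : ∀ i, B i = ![u, w, t] i := fun i => by simp [B]
  obtain ⟨α, β, γ, hgt⟩ : ∃ α β γ : F, g.1 t = α • u + β • w + γ • t := by
    refine ⟨B.repr (g.1 t) 0, B.repr (g.1 t) 1, B.repr (g.1 t) 2, ?_⟩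
    conv_lhs => rw [← B.sum_repr (g.1 t)]
    simp [Fin.sum_univ_three, hB]
  have a1 : b3 A u (g.1 t) = 0 := by rw [← hu, b3_isom h2, htu]
  have a2 : b3 A w (g.1 t) = 0 := by rw [← hw, b3_isom h2, htw]
  rw [hgt, b3_add_right, b3_add_right, b3_smul_right, b3_smul_right, b3_smul_right, htu] at a1
  rw [hgt, b3_add_right, b3_add_right, b3_smul_right, b3_smul_right, b3_smul_right, htw, b3_comm w u] at a2
  have hα : α = 0 := (mul_eq_zero.1 (show α * (b3 A u u * b3 A w w - b3 A u w * b3 A u w) = 0 by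
    linear_combination b3 A w w * a1 - b3 A u w * a2)).resolve_right hgram
  have hβ : β = 0 := (mul_eq_zero.1 (show β * (b3 A u u * b3 A w w - b3 A u w * b3 A u w) = 0 by
    linear_combination b3 A u u * a2 - b3 A u w * a1)).resolve_right hgram
  rw [hα, hβ, zero_smul, zero_smul, zero_add, zero_add] at hgt
  have hM : LinearMap.toMatrix B B (g.1 : (Fin 3 → F) →ₗ[F] (Fin 3 → F)) = Matrix.diagonal ![1, 1, γ] := by
    have e0 : ∀ j, g.1 (B j) = (![1, 1, γ] : Fin 3 → F) j • B j := by
      intro j; fin_cases j <;> simp [hB, hu, hw, hgt]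
    ext i j
    rw [LinearMap.toMatrix_apply, Matrix.diagonal_apply]
    show B.repr (g.1 (B j)) i = _
    rw [e0, map_smul, B.repr_self, Finsupp.smul_apply, smul_eq_mul, Finsupp.single_apply]
    rcases eq_or_ne i j with rfl | h <;> simp [*, Ne.symm]
  have hdet := congrArg Units.val hg
  rw [det3, MonoidHom.comp_apply, LinearEquiv.coe_det, ← LinearMap.det_toMatrix B, Units.val_one] at hdet
  change (LinearMap.toMatrix B B (g.1 : (Fin 3 → F) →ₗ[F] (Fin 3 → F))).det = 1 at hdet
  rw [hM, Matrix.det_diagonal] at hdet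
  simp [Fin.prod_univ_three] at hdet
  refine Subtype.ext (LinearEquiv.toLinearMap_injective (B.ext fun i => ?_))
  fin_cases i <;> simp [hB, hu, hw, hgt, hdet]

/-- The fixed vectors of a rotation of order prime to `p` form one anisotropic line. -/
theorem axis (h2 : (2 : F) ≠ 0) (hA : A ≠ 0) (g : orthGroup (q3 A)) (hg : det3 g = 1) (hg1 : g ≠ 1)
    (hord : ((orderOf g : ℕ) : F) ≠ 0) :
    ∃ w0 : Fin 3 → F, b3 A w0 w0 ≠ 0 ∧ g.1 w0 = w0 ∧ ∀ z, g.1 z = z → ∃ c : F, z = c • w0 := by
  classical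
  obtain ⟨w0, hw0, hfix⟩ := exists_fixed_of_det h2 hA g hg
  have haniso : ∀ w : Fin 3 → F, w ≠ 0 → g.1 w = w → b3 A w w ≠ 0 := by
    intro w hw0 hfix h0
    obtain ⟨z, hz⟩ : ∃ z, b3 A w z ≠ 0 := by
      by_contra h
      push Not at h
      exact hw0 (b3_eq_zero hA h)
    set e' := orderOf g
    set S := ∑ k ∈ Finset.range e', (g ^ k).1 z with hS
    have hgS : g.1 S = S := by
      have : g.1 S = ∑ k ∈ Finset.range e', (g ^ (k + 1)).1 z := by
        rw [hS, map_sum]
        refine Finset.sum_congr rfl fun k _ => ?_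
        rw [pow_succ']; rfl
      rw [this, hS]
      have h1 := Finset.sum_range_succ' (fun k => (g ^ k).1 z) e'
      have h3 := Finset.sum_range_succ (fun k => (g ^ k).1 z) e'
      rw [pow_orderOf_eq_one] at h3
      rw [pow_zero] at h1
      exact add_right_cancel (h1.symm.trans h3)
    have hwk : ∀ k : ℕ, (g ^ k).1 w = w := by
      intro k
      induction k with
      | zero => simp [one_apply']
      | succ k ih => rw [pow_succ, mul_apply', hfix, ih]
    have hwS : b3 A w S = (e' : F) * b3 A w z := by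
      rw [hS]
      have : ∀ k ∈ Finset.range e', b3 A w ((g ^ k).1 z) = b3 A w z := fun k _ => by
        conv_lhs => rw [← hwk k]
        rw [b3_isom h2]
      let L : (Fin 3 → F) →ₗ[F] F :=
        { toFun := b3 A w, map_add' := fun a b => b3_add_right a b w, map_smul' := fun c a => b3_smul_right c a w }
      show L (∑ k ∈ Finset.range e', (g ^ k).1 z) = _
      rw [map_sum]
      refine (Finset.sum_congr rfl this).trans ?_
      rw [Finset.sum_const, Finset.card_range, nsmul_eq_mul]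
    refine hg1 (eq_one_of_fix_two h2 hA g hg hfix hgS ?_)
    rw [h0, zero_mul, zero_sub, neg_ne_zero, hwS]
    exact mul_ne_zero (mul_ne_zero hord hz) (mul_ne_zero hord hz)
  refine ⟨w0, haniso w0 hw0 hfix, hfix, fun z hz => ?_⟩
  by_contra hno
  push Not at hno
  set y := b3 A w0 z • w0 + (-b3 A w0 w0) • z with hy
  have hy0 : y ≠ 0 := fun h => by
    refine hno (b3 A w0 z / b3 A w0 w0) ?_
    funext i
    have := congrFun h i
    simp [hy] at this
    have hne := haniso w0 hw0 hfix
    simp only [Pi.smul_apply, smul_eq_mul]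
    field_simp
    linear_combination -this
  have hgy : g.1 y = y := by rw [hy, map_add, map_smul, map_smul, hfix, hz]
  have hyy := haniso y hy0 hgy
  refine hg1 (eq_one_of_fix_two h2 hA g hg hfix hz fun hgram => hyy ?_)
  rw [hy]
  simp only [b3_add, b3_smul, b3_add_right, b3_smul_right, b3_comm z w0]
  linear_combination b3 A w0 w0 * hgram

instance : Finite (orthGroup (q3 A)) :=
  Finite.of_injective (fun g => (g.1 : (Fin 3 → F) → (Fin 3 → F)))
    fun _ _ e => Subtype.ext (LinearEquiv.ext (congrFun e))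

theorem alt4_no_four : ∀ g : alternatingGroup (Fin 4), g * g * (g * g) = 1 → g * g = 1 := by decide +kernel

theorem alt5_no_four : ∀ g : alternatingGroup (Fin 5), g * g * (g * g) = 1 → g * g = 1 := by decide +kernel

theorem perm4_four_squares :
    (((Finset.univ : Finset (Equiv.Perm (Fin 4))).image fun g => g * g).filter
      fun x => x * x = 1 ∧ x ≠ 1).card = 3 := by
  decide +kernel

theorem perm4_card_squares (S : Finset (Equiv.Perm (Fin 4)))
    (h : ∀ z ∈ S, ∃ g, g * g = z ∧ z * z = 1 ∧ z ≠ 1) : S.card ≤ 3 := by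
  refine (Finset.card_le_card fun z hz => ?_).trans perm4_four_squares.le
  obtain ⟨g, hg, h1, h2⟩ := h z hz
  exact Finset.mem_filter.2 ⟨Finset.mem_image.2 ⟨g, Finset.mem_univ _, hg⟩, h1, h2⟩

/-- The vectors of two given norms. -/
abbrev Sph (A ν : F) : Type _ := {w : Fin 3 → F // b3 A w w = 1 ∨ b3 A w w = ν}

instance sphAction (G : Subgroup (orthGroup (q3 A))) {ν : F} : MulAction G (Sph A ν) where
  smul g w := ⟨g.1.1 w.1, by rw [← q3_apply, apply_quad, q3_apply]; exact w.2⟩
  one_smul w := Subtype.ext rfl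
  mul_smul g h w := Subtype.ext rfl

theorem smul_sph_iff {G : Subgroup (orthGroup (q3 A))} {ν : F} (g : G) (w : Sph A ν) :
    g • w = w ↔ g.1.1 w.1 = w.1 :=
  ⟨fun h => congrArg Subtype.val h, fun h => Subtype.ext h⟩

theorem orderOf_cast_ne (hp : (Fintype.card F).Prime) (G : Subgroup (orthGroup (q3 A)))
    (hno : ∀ g ∈ G, g ≠ 1 → g ^ Fintype.card F ≠ 1) (g : orthGroup (q3 A)) (hgG : g ∈ G) :
    ((orderOf g : ℕ) : F) ≠ 0 := by
  haveI : Fact (Fintype.card F).Prime := ⟨hp⟩
  haveI : CharP F (Fintype.card F) := charP_of_card_eq_prime rfl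
  intro h0
  obtain ⟨k, hk⟩ := (CharP.cast_eq_zero_iff F (Fintype.card F) _).1 h0
  have ho := orderOf_pos g
  have hk0 : 0 < k := by
    rcases Nat.eq_zero_or_pos k with rfl | h
    · omega
    · exact h
  refine hno (g ^ k) (pow_mem hgG k) (fun h => ?_) ?_
  · have := orderOf_le_of_pow_eq_one hk0 h
    have : 2 * k ≤ Fintype.card F * k := Nat.mul_le_mul_right _ hp.two_le
    omega
  · rw [← pow_mul, mul_comm k, ← hk, pow_orderOf_eq_one]

/-- A rotation group without elements of order `p` has two fixed vectors per element. -/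
def twoFixed (h2 : (2 : F) ≠ 0) {ν : F} (hν : ¬IsSquare ν) (G : Subgroup (orthGroup (q3 A)))
    (haxis : ∀ g : orthGroup (q3 A), g ∈ G → g ≠ 1 → ∃ w0 : Fin 3 → F, b3 A w0 w0 ≠ 0 ∧ g.1 w0 = w0 ∧
      ∀ z, g.1 z = z → ∃ c : F, z = c • w0) : TwoFixed G (Sph A ν) where
    Q := fun _ => ⊥
    le_stab := fun _ => bot_le
    conj := fun _ _ => rfl
    dvd := fun _ h => absurd (Subgroup.card_bot) h
    two := fun g hg => by
      classical
      have hν0 : ν ≠ 0 := fun h => hν (h ▸ IsSquare.zero)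
      obtain ⟨w0, hw0, hfix, hline⟩ := haxis g.1 g.2 (fun h => hg (Subtype.ext h))
      have h0 : Nat.card {w : Sph A ν // g ∈ (⊥ : Subgroup G)} = 0 := by
        rw [Nat.card_eq_zero]; exact Or.inl ⟨fun w => hg (Subgroup.mem_bot.1 w.2)⟩
      rw [h0, add_zero]
      obtain ⟨t, ht⟩ : ∃ t : F, t * t * b3 A w0 w0 = 1 ∨ t * t * b3 A w0 w0 = ν := by
        by_cases hs : IsSquare (b3 A w0 w0)
        · obtain ⟨r, hr⟩ := hs
          have hr0 : r ≠ 0 := fun h => hw0 (by rw [hr, h, mul_zero])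
          exact ⟨1 / r, Or.inl (by rw [hr]; field_simp)⟩
        · obtain ⟨r, hr⟩ : IsSquare (ν / b3 A w0 w0) := by
            by_contra h'
            have := (quadraticChar_neg_one_iff_not_isSquare (F := F)).2 h'
            have hν' := (quadraticChar_neg_one_iff_not_isSquare (F := F)).2 hν
            have hq := (quadraticChar_neg_one_iff_not_isSquare (F := F)).2 hs
            rw [show ν / b3 A w0 w0 = ν * (b3 A w0 w0)⁻¹ from div_eq_mul_inv _ _, map_mul, hν'] at this
            have hinv : quadraticChar F (b3 A w0 w0)⁻¹ = -1 := by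
              rw [quadraticChar_neg_one_iff_not_isSquare, isSquare_inv]; exact hs
            rw [hinv] at this
            norm_num at this
          exact ⟨r, Or.inr (by rw [← hr]; field_simp)⟩
      have ht0 : t ≠ 0 := fun h => by rcases ht with ht | ht <;> simp [h] at ht; exact hν0 ht.symm
      have hX : ∀ κ : F, κ * κ = t * t → b3 A (κ • w0) (κ • w0) = 1 ∨ b3 A (κ • w0) (κ • w0) = ν :=
        fun κ hκ => by rw [b3_smul, b3_smul_right, ← mul_assoc, hκ]; exact ht
      rw [Nat.card_eq_two_iff]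
      refine ⟨⟨⟨t • w0, hX t rfl⟩, (smul_sph_iff g _).2 (by rw [map_smul, hfix])⟩,
        ⟨⟨(-t) • w0, hX (-t) (by ring)⟩, (smul_sph_iff g _).2 (by rw [map_smul, hfix])⟩, ?_, ?_⟩
      · intro h
        have h' : t • w0 = (-t) • w0 := congrArg (fun z => z.1.1) h
        have hne : w0 ≠ 0 := fun h => hw0 (by simp [h, b3])
        exact ht0 ((mul_eq_zero.1 (show 2 * t = 0 by
          linear_combination smul_left_injective F hne h')).resolve_left h2)
      · refine Set.eq_univ_of_forall fun ⟨⟨z, hzX⟩, hz⟩ => ?_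
        obtain ⟨c, rfl⟩ := hline z ((smul_sph_iff g _).1 hz)
        rw [b3_smul, b3_smul_right, ← mul_assoc] at hzX
        have hcc : c * c = t * t := by
          have hsq : ∀ a b : F, a * a * b3 A w0 w0 = 1 → b * b * b3 A w0 w0 = ν → False := by
            intro a b ha hb
            have ha0 : a ≠ 0 := fun h => by simp [h] at ha
            exact hν ⟨b / a, by field_simp; linear_combination b ^ 2 * ha - a ^ 2 * hb⟩
          rcases hzX with hz1 | hz1 <;> rcases ht with ht1 | ht1
          · exact mul_right_cancel₀ hw0 (hz1.trans ht1.symm)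
          · exact (hsq c t hz1 ht1).elim
          · exact (hsq t c ht1 hz1).elim
          · exact mul_right_cancel₀ hw0 (hz1.trans ht1.symm)
        rcases mul_self_eq_mul_self_iff.1 hcc with rfl | rfl
        · exact Set.mem_insert _ _
        · exact Set.mem_insert_of_mem _ (Set.mem_singleton _)

/-- A rotation group containing a quarter turn about `(0,0,1)` and a rotation `ρ` about `(0,1,0)` of
order not dividing `4` contains an element of order `p`. -/
theorem exists_unipotent (hp : (Fintype.card F).Prime) (h2 : (2 : F) ≠ 0) (hA : A ≠ 0) {x : F}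
    (hx : x ≠ 0) (hxh : 2 * (x * x) ≠ 1) (hAx : A = 1 - x * x) (G : Subgroup (orthGroup (q3 A)))
    (hdet : ∀ g ∈ G, det3 g = 1) {σ ρ : orthGroup (q3 A)} (hσ : σ ∈ G) (hρ : ρ ∈ G)
    (hσv : ∀ y, σ.1 y = ![-y 1, y 0, y 2])
    (hρv : ∀ y, ρ.1 y = ![(2 * (x * x) - 1) * y 0 + 2 * x * A * y 2, y 1,
      -2 * x * y 0 + (2 * (x * x) - 1) * y 2]) :
    ∃ u ∈ G, u ≠ 1 ∧ u ^ Fintype.card F = 1 := by
  classical
  haveI : Fact (Fintype.card F).Prime := ⟨hp⟩
  haveI : CharP F (Fintype.card F) := charP_of_card_eq_prime rfl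
  by_contra hno
  push Not at hno
  have hndvd := orderOf_cast_ne hp G hno
  have haxis : ∀ g : orthGroup (q3 A), g ∈ G → g ≠ 1 → ∃ w0 : Fin 3 → F, b3 A w0 w0 ≠ 0 ∧ g.1 w0 = w0 ∧
      ∀ z, g.1 z = z → ∃ c : F, z = c • w0 := fun g hg hg1 =>
    axis h2 hA g (hdet g hg) hg1 (hndvd g hg)
  obtain ⟨ν, hν⟩ := FiniteField.exists_nonsquare (F := F)
    (by intro h; haveI := ringChar.of_eq h; exact h2 (CharP.cast_eq_zero F 2))
  have hν0 : ν ≠ 0 := fun h => hν (h ▸ IsSquare.zero)
  let D := twoFixed (A := A) h2 hν G haxis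
  set C := 2 * (x * x) - 1 with hC
  have hC0 : C ≠ 0 := sub_ne_zero.2 hxh
  let σ' : G := ⟨σ, hσ⟩
  let ρ' : G := ⟨ρ, hρ⟩
  have hσ2 : ∀ y, σ.1 (σ.1 y) = ![-y 0, -y 1, y 2] := fun y => by
    rw [hσv, hσv]; funext i; fin_cases i <;> simp
  have hfixσ2 : ∀ y, σ.1 (σ.1 y) = y → y 0 = 0 ∧ y 1 = 0 := fun y h => by
    rw [hσ2] at h
    have h0 := congrFun h 0
    have h1 := congrFun h 1
    simp at h0 h1
    exact ⟨(mul_eq_zero.1 (show 2 * y 0 = 0 by linear_combination -h0)).resolve_left h2,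
      (mul_eq_zero.1 (show 2 * y 1 = 0 by linear_combination -h1)).resolve_left h2⟩
  have hσσ : σ' * σ' ≠ 1 := fun h => by
    have h' : σ.1 (σ.1 ![1, 0, 0]) = ![1, 0, 0] :=
      congrArg (fun g : G => g.1.1 ![1, 0, 0]) h
    have := (hfixσ2 _ h').1
    simp at this
  have hσ4 : σ' * σ' * (σ' * σ') = 1 := Subtype.ext (Subtype.ext (LinearEquiv.ext fun y => by
    show σ.1 (σ.1 (σ.1 (σ.1 y))) = y
    rw [hσ2, hσ2]; funext i; fin_cases i <;> simp))
  have hcard : 1 < Nat.card G := by
    haveI : Nontrivial G := ⟨⟨σ' * σ', 1, hσσ⟩⟩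
    exact Finite.one_lt_card
  have hρfix : ∀ y, y 0 = 0 → y 1 = 0 → ρ.1 y = y → y = 0 := fun y h0 h1 h => by
    rw [hρv] at h
    have h3 := congrFun h 0
    simp [h0] at h3
    funext i; fin_cases i
    exacts [h0, h1, h3.resolve_left (by simp [hx, hA, h2])]
  have hne0 : ∀ w : Sph A ν, w.1 ≠ 0 := fun w h => by
    rcases w.2 with h' | h' <;> simp [h, b3] at h'
    exact hν0 h'.symm
  cases D.shape hcard with
  | fixed w he =>
    have hst : MulAction.stabilizer G w = ⊤ := Subgroup.eq_top_of_card_eq _ he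
    have hfix : ∀ g : G, g.1.1 w.1 = w.1 := fun g =>
      (smul_sph_iff g w).1 (MulAction.mem_stabilizer_iff.1 (hst ▸ Subgroup.mem_top g))
    obtain ⟨h0, h1⟩ := hfixσ2 w.1 (by rw [hfix σ', hfix σ'])
    exact hne0 w (hρfix _ h0 h1 (hfix ρ'))
  | half hU w _ he =>
    have hidx : (MulAction.stabilizer G w).index = 2 := by
      have h := (MulAction.stabilizer G w).index_mul_card
      have he' : 2 * Nat.card (MulAction.stabilizer G w) = Nat.card G := he
      rw [← he'] at h
      exact Nat.eq_of_mul_eq_mul_right Nat.card_pos h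
    have hsq : ∀ g : G, g.1.1 (g.1.1 w.1) = w.1 := fun g =>
      (smul_sph_iff (g * g) w).1 (MulAction.mem_stabilizer_iff.1 (Subgroup.mul_self_mem_of_index_two hidx g))
    obtain ⟨h0, h1⟩ := hfixσ2 w.1 (hsq σ')
    have h3 := congrFun (hsq ρ') 0
    show False
    rw [show (ρ' : G).1 = ρ from rfl, hρv, hρv] at h3
    simp [h0] at h3
    have : 4 * x * A * C * w.1 2 = 0 := by rw [hC]; linear_combination h3
    have h4 : (4 : F) ≠ 0 := by intro h; exact mul_ne_zero h2 h2 (by linear_combination h)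
    exact hne0 w (funext fun i => by
      fin_cases i
      exacts [h0, h1, (mul_eq_zero.1 this).resolve_left (mul_ne_zero (mul_ne_zero (mul_ne_zero h4 hx) hA) hC0)])
  | twelve y hn he _ =>
    obtain ⟨f⟩ := D.twelve hn he
    have := alt4_no_four (f σ') (by rw [← map_mul, ← map_mul, hσ4, map_one])
    exact hσσ (f.injective (by rw [map_mul, this, map_one]))
  | sixty y hn he _ =>
    obtain ⟨f⟩ := D.sixty hn he
    have := alt5_no_four (f σ') (by rw [← map_mul, ← map_mul, hσ4, map_one])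
    exact hσσ (f.injective (by rw [map_mul, this, map_one]))
  | affineLine w P t hP hP2 =>
    have : Nat.card (D.Q w) = 1 := Subgroup.card_bot
    omega
  | octahedral y hn he hmin _ _ =>
    obtain ⟨f⟩ := D.octahedral hn hmin
    set a : Fin 3 → F := ![0, 0, 1] with ha
    have hone : ∀ y, (1 : orthGroup (q3 A)).1 y = y := fun _ => rfl
    let cj : G → Equiv.Perm (Fin 4) := fun h => f (h * (σ' * σ') * h⁻¹)
    have hsame : ∀ h k : G, cj h = cj k → ∃ γ : F, h.1.1 a = γ • k.1.1 a := by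
      intro h k e
      have e' := f.injective e
      have hga : σ.1 (σ.1 a) = a := by rw [hσ2, ha]; funext i; fin_cases i <;> simp
      have e2 := congrArg (fun g : G => (k⁻¹).1.1 (g.1.1 (h.1.1 a))) e'
      change (k.1⁻¹).1 (h.1.1 (σ.1 (σ.1 ((h.1⁻¹).1 (h.1.1 a))))) =
        (k.1⁻¹).1 (k.1.1 (σ.1 (σ.1 ((k.1⁻¹).1 (h.1.1 a))))) at e2
      rw [inv_apply', inv_apply', hga] at e2
      obtain ⟨z0, z1⟩ := hfixσ2 _ e2.symm
      set z := (k.1⁻¹).1 (h.1.1 a) with hz
      refine ⟨z 2, ?_⟩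
      have hz' : z = z 2 • a := funext fun i => by fin_cases i <;> simp [ha, z0, z1]
      rw [← map_smul, ← hz', hz, apply_inv']
    have va : ρ.1 a = ![2 * x * A, 0, C] := by rw [hρv, ha]; simp [hC]
    have hmem : ∀ h : G, ∃ g : Equiv.Perm (Fin 4), g * g = cj h ∧ cj h * cj h = 1 ∧ cj h ≠ 1 := fun h => by
      refine ⟨f (h * σ' * h⁻¹), ?_, ?_, ?_⟩
      · show f _ * f _ = f _
        rw [← map_mul]; congr 1; group
      · show f _ * f _ = 1
        rw [← map_mul, show h * (σ' * σ') * h⁻¹ * (h * (σ' * σ') * h⁻¹) = h * (σ' * σ' * (σ' * σ')) * h⁻¹ by group,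
          hσ4, mul_one, mul_inv_cancel, map_one]
      · show f _ ≠ 1
        rw [Ne, EmbeddingLike.map_eq_one_iff]
        intro h0
        exact hσσ (conj_eq_one_iff.1 h0)
    have v1 : (1 : G).1.1 a = a := rfl
    have v2 : (ρ' * ρ').1.1 a = ρ.1 (ρ.1 a) := rfl
    have v3 : (σ' * ρ').1.1 a = ![0, 2 * x * A, C] := by
      show σ.1 (ρ.1 a) = _
      rw [va, hσv]; simp
    have v2' : ρ.1 (ρ.1 a) = ![4 * x * A * C, 0, C * C - 4 * (x * x) * A] := by
      rw [va, hρv, hC]; funext i; fin_cases i <;> simp <;> ring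
    have hxA : 2 * x * A ≠ 0 := mul_ne_zero (mul_ne_zero h2 hx) hA
    have h4x : 4 * x * A * C ≠ 0 := by
      have h4 : (4 : F) ≠ 0 := by intro h; exact mul_ne_zero h2 h2 (by linear_combination h)
      exact mul_ne_zero (mul_ne_zero (mul_ne_zero h4 hx) hA) hC0
    have n1 : cj ρ' ≠ cj 1 := fun e => by
      obtain ⟨γ, hγ⟩ := hsame _ _ e
      rw [v1, show (ρ' : G).1 = ρ from rfl, va] at hγ
      exact hxA (by simpa [ha] using congrFun hγ 0)
    have n2 : cj (ρ' * ρ') ≠ cj 1 := fun e => by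
      obtain ⟨γ, hγ⟩ := hsame _ _ e
      rw [v1, v2, v2'] at hγ
      exact h4x (by simpa [ha] using congrFun hγ 0)
    have n3 : cj (σ' * ρ') ≠ cj 1 := fun e => by
      obtain ⟨γ, hγ⟩ := hsame _ _ e
      rw [v1, v3] at hγ
      exact hxA (by simpa [ha] using congrFun hγ 1)
    have n4 : cj (σ' * ρ') ≠ cj ρ' := fun e => by
      obtain ⟨γ, hγ⟩ := hsame _ _ e
      rw [v3, show (ρ' : G).1 = ρ from rfl, va] at hγ
      exact hxA (by simpa using congrFun hγ 1)
    have n5 : cj (σ' * ρ') ≠ cj (ρ' * ρ') := fun e => by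
      obtain ⟨γ, hγ⟩ := hsame _ _ e
      rw [v3, v2, v2'] at hγ
      exact hxA (by simpa using congrFun hγ 1)
    have n6 : cj (ρ' * ρ') ≠ cj ρ' := fun e => by
      obtain ⟨γ, hγ⟩ := hsame _ _ e
      rw [v2, show (ρ' : G).1 = ρ from rfl] at hγ
      rw [← map_smul] at hγ
      have := ρ.1.injective hγ
      rw [va] at this
      exact hxA (by simpa [ha] using congrFun this 0)
    have h := perm4_card_squares {cj 1, cj ρ', cj (ρ' * ρ'), cj (σ' * ρ')} fun z hz => by
      simp only [Finset.mem_insert, Finset.mem_singleton] at hz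
      rcases hz with rfl | rfl | rfl | rfl <;> exact hmem _
    have h4 : ({cj 1, cj ρ', cj (ρ' * ρ'), cj (σ' * ρ')} : Finset (Equiv.Perm (Fin 4))).card = 4 := by
      rw [Finset.card_insert_of_notMem, Finset.card_insert_of_notMem, Finset.card_insert_of_notMem,
        Finset.card_singleton]
      · simpa using n5.symm
      · simp [n6.symm, n4.symm]
      · simp [n1.symm, n2.symm, n3.symm]
    omega


theorem alt4_orders : ∀ g : alternatingGroup (Fin 4), g ^ 2 = 1 ∨ g ^ 3 = 1 := by decide +kernel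

theorem alt5_orders : ∀ g : alternatingGroup (Fin 5), g ^ 2 = 1 ∨ g ^ 3 = 1 ∨ g ^ 5 = 1 := by
  decide +kernel

theorem perm4_orders : ∀ g : Equiv.Perm (Fin 4), g ^ 3 = 1 ∨ g ^ 4 = 1 := by decide +kernel

/-- The rotation group generated by a half turn about `(0,0,1)` and the product of the reflections of
`(1,0,0)` and `(x,y,1)` contains an element of order `p`, unless `x` is exceptional. -/
theorem exists_unipotent_pair (hp : (Fintype.card F).Prime) (h2 : (2 : F) ≠ 0) (hA : A ≠ 0) {x y : F}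
    (hx : x ≠ 0) (hy : y ≠ 0) (hxh : 2 * (x * x) ≠ 1) (hxq : 4 * (x * x) ≠ 1)
    (hxp : 16 * (x * x * (x * x)) - 12 * (x * x) + 1 ≠ 0) (G : Subgroup (orthGroup (q3 A)))
    (hdet : ∀ g ∈ G, det3 g = 1) {h r : orthGroup (q3 A)} (hh : h ∈ G) (hr : r ∈ G)
    (hhv : ∀ z, h.1 z = ![-z 0, -z 1, z 2])
    (hrv : ∀ z, r.1 z = ![-(z 0 - 2 * (x * z 0 + y * z 1 + A * z 2) * x),
      z 1 - 2 * (x * z 0 + y * z 1 + A * z 2) * y, z 2 - 2 * (x * z 0 + y * z 1 + A * z 2)])
    (hxy : A = 1 - x * x - y * y) :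
    ∃ u ∈ G, u ≠ 1 ∧ u ^ Fintype.card F = 1 := by
  classical
  haveI : Fact (Fintype.card F).Prime := ⟨hp⟩
  haveI : CharP F (Fintype.card F) := charP_of_card_eq_prime rfl
  by_contra hno
  push Not at hno
  have hndvd := orderOf_cast_ne hp G hno
  have haxis : ∀ g : orthGroup (q3 A), g ∈ G → g ≠ 1 → ∃ w0 : Fin 3 → F, b3 A w0 w0 ≠ 0 ∧ g.1 w0 = w0 ∧
      ∀ z, g.1 z = z → ∃ c : F, z = c • w0 := fun g hg hg1 =>
    axis h2 hA g (hdet g hg) hg1 (hndvd g hg)
  -- no power up to the fifth of `r` is trivial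
  set C := 2 * (x * x) - 1 with hC
  have hC0 : C ≠ 0 := sub_ne_zero.2 hxh
  set e0 : Fin 3 → F := ![1, 0, 0] with he0
  set f : Fin 3 → F := ![C, -2 * x * y, -2 * x] with hf
  have hr0 : r.1 e0 = f := by
    rw [hrv, he0, hf, hC]; funext i; fin_cases i <;> simp <;> ring
  have hr1 : r.1 f = (2 * C) • f - e0 := by
    rw [hrv, he0, hf, hC]; funext i; fin_cases i <;> simp [hxy] <;> ring
  have hlin : ∀ a b : F, a • f + b • e0 = e0 → a = 0 ∧ b = 1 := by
    intro a b h
    have c2 := congrFun h 2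
    have c0 := congrFun h 0
    simp [he0, hf, h2, hx] at c2 c0
    exact ⟨c2, by simpa [c2] using c0⟩
  have hstep : ∀ a b : F, r.1 (a • f + b • e0) = (2 * C * a + b) • f + (-a) • e0 := by
    intro a b
    rw [map_add, map_smul, map_smul, hr0, hr1]; module
  have hp1 : r.1 e0 = (1 : F) • f + (0 : F) • e0 := by rw [hr0]; module
  have hp2 : r.1 (r.1 e0) = (2 * C * 1 + 0) • f + (-(1 : F)) • e0 := by rw [hp1, hstep]
  have hp3 : r.1 (r.1 (r.1 e0)) = (2 * C * (2 * C * 1 + 0) + -(1 : F)) • f + (-(2 * C * 1 + 0)) • e0 := by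
    rw [hp2, hstep]
  have hp4 : r.1 (r.1 (r.1 (r.1 e0))) = (2 * C * (2 * C * (2 * C * 1 + 0) + -(1 : F)) + -(2 * C * 1 + 0)) • f +
      (-(2 * C * (2 * C * 1 + 0) + -(1 : F))) • e0 := by rw [hp3, hstep]
  have hp5 : r.1 (r.1 (r.1 (r.1 (r.1 e0)))) =
      (2 * C * (2 * C * (2 * C * (2 * C * 1 + 0) + -(1 : F)) + -(2 * C * 1 + 0)) +
        -(2 * C * (2 * C * 1 + 0) + -(1 : F))) • f +
      (-(2 * C * (2 * C * (2 * C * 1 + 0) + -(1 : F)) + -(2 * C * 1 + 0))) • e0 := by rw [hp4, hstep]
  have hne2 : r ^ 2 ≠ 1 := fun e => by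
    have e' := congrArg (fun q : orthGroup (q3 A) => q.1 e0) e
    simp only [pow_succ, pow_zero, one_mul, mul_apply', one_apply'] at e'
    rw [hp2] at e'
    exact hC0 ((mul_eq_zero.1 (show 2 * C = 0 by linear_combination (hlin _ _ e').1)).resolve_left h2)
  have hne3 : r ^ 3 ≠ 1 := fun e => by
    have e' := congrArg (fun q : orthGroup (q3 A) => q.1 e0) e
    simp only [pow_succ, pow_zero, one_mul, mul_apply', one_apply'] at e'
    rw [hp3] at e'
    have h1 := (hlin _ _ e').2
    rw [hC] at h1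
    exact hxq (by linear_combination -h1)
  have hne4 : r ^ 4 ≠ 1 := fun e => by
    have e' := congrArg (fun q : orthGroup (q3 A) => q.1 e0) e
    simp only [pow_succ, pow_zero, one_mul, mul_apply', one_apply'] at e'
    rw [hp4] at e'
    have h1 := (hlin _ _ e').2
    have h4 : C * C = 0 := (mul_eq_zero.1 (show (2 * 2) * (C * C) = 0 by linear_combination -h1)).resolve_left
      (mul_ne_zero h2 h2)
    exact hC0 (mul_self_eq_zero.1 h4)
  have hne5 : r ^ 5 ≠ 1 := fun e => by
    have e' := congrArg (fun q : orthGroup (q3 A) => q.1 e0) e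
    simp only [pow_succ, pow_zero, one_mul, mul_apply', one_apply'] at e'
    rw [hp5] at e'
    obtain ⟨h1, h1'⟩ := hlin _ _ e'
    refine hxp ?_
    have hq : 4 * (C * C) + 2 * C - 1 = 0 := by linear_combination -(2 * C) * h1' - h1
    rw [hC] at hq
    linear_combination hq
  obtain ⟨ν, hν⟩ := FiniteField.exists_nonsquare (F := F)
    (by intro h; haveI := ringChar.of_eq h; exact h2 (CharP.cast_eq_zero F 2))
  have hν0 : ν ≠ 0 := fun h => hν (h ▸ IsSquare.zero)
  let D := twoFixed (A := A) h2 hν G haxis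
  let h' : G := ⟨h, hh⟩
  let r' : G := ⟨r, hr⟩
  have hr1' : r' ≠ 1 := fun e => hne2 (by
    rw [show r = 1 from congrArg Subtype.val e, one_pow])
  have hcard : 1 < Nat.card G := by
    haveI : Nontrivial G := ⟨⟨r', 1, hr1'⟩⟩
    exact Finite.one_lt_card
  have hne0 : ∀ w : Sph A ν, w.1 ≠ 0 := fun w h => by
    rcases w.2 with h' | h' <;> simp [h, b3] at h'
    exact hν0 h'.symm
  cases D.shape hcard with
  | fixed w he =>
    have hst : MulAction.stabilizer G w = ⊤ := Subgroup.eq_top_of_card_eq _ he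
    have hfix : ∀ g : G, g.1.1 w.1 = w.1 := fun g =>
      (smul_sph_iff g w).1 (MulAction.mem_stabilizer_iff.1 (hst ▸ Subgroup.mem_top g))
    have hh1 : h.1 w.1 = w.1 := hfix h'
    have hr2 : r.1 w.1 = w.1 := hfix r'
    rw [hhv] at hh1
    have a0 := congrFun hh1 0
    have a1 := congrFun hh1 1
    simp at a0 a1
    have z0 : w.1 0 = 0 := (mul_eq_zero.1 (show 2 * w.1 0 = 0 by linear_combination -a0)).resolve_left h2
    have z1 : w.1 1 = 0 := (mul_eq_zero.1 (show 2 * w.1 1 = 0 by linear_combination -a1)).resolve_left h2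
    rw [hrv] at hr2
    have c0 := congrFun hr2 0
    simp [z0, z1, h2, hA, hx] at c0
    refine hne0 w (funext fun i => ?_)
    fin_cases i
    exacts [z0, z1, c0]
  | half hU w _ he =>
    have hidx : (MulAction.stabilizer G w).index = 2 := by
      have h := (MulAction.stabilizer G w).index_mul_card
      have he' : 2 * Nat.card (MulAction.stabilizer G w) = Nat.card G := he
      rw [← he'] at h
      exact Nat.eq_of_mul_eq_mul_right Nat.card_pos h
    have hsq : ∀ g : G, g.1.1 (g.1.1 w.1) = w.1 := fun g =>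
      (smul_sph_iff (g * g) w).1 (MulAction.mem_stabilizer_iff.1 (Subgroup.mul_self_mem_of_index_two hidx g))
    set ax : Fin 3 → F := ![0, A, -y] with hax
    have hrax : r.1 ax = ax := by
      have hB : x * ax 0 + y * ax 1 + A * ax 2 = 0 := by simp [hax]; ring
      rw [hrv, hB]; funext i; fin_cases i <;> simp [hax]
    obtain ⟨w0, -, -, hline⟩ := haxis (r ^ 2) (pow_mem hr 2) hne2
    obtain ⟨c, hc⟩ := hline ax (by rw [pow_two, mul_apply', hrax, hrax])
    obtain ⟨d, hd⟩ := hline w.1 (by rw [pow_two, mul_apply']; exact hsq r')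
    have hinv : (h⁻¹).1 (h.1 w.1) = w.1 := inv_apply' h _
    have hh2 : ∀ z, h.1 (h.1 z) = z := fun z => by rw [hhv, hhv]; funext i; fin_cases i <;> simp
    obtain ⟨d', hd'⟩ := hline (h.1 w.1) (by
      have h3 := hsq (h' * r' * h'⁻¹)
      change h.1 (r.1 ((h⁻¹).1 (h.1 (r.1 ((h⁻¹).1 w.1))))) = w.1 at h3
      rw [inv_apply'] at h3
      have hw : (h⁻¹).1 w.1 = h.1 w.1 := by conv_lhs => rw [← hh2 w.1, inv_apply']
      rw [hw] at h3
      rw [pow_two, mul_apply']
      conv_rhs => rw [← h3, hh2])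
    have hc0 : c ≠ 0 := fun e => by
      rw [e, zero_smul] at hc
      have := congrFun hc 1
      simp [hax, hA] at this
    have hwa : w.1 = (d / c) • ax := by rw [hc, smul_smul, div_mul_cancel₀ _ hc0, ← hd]
    have hwa' : h.1 w.1 = (d' / c) • ax := by rw [hc, smul_smul, div_mul_cancel₀ _ hc0, ← hd']
    rw [hwa, hhv] at hwa'
    have c1 := congrFun hwa' 1
    have c2 := congrFun hwa' 2
    simp [hax, hy] at c1 c2
    have h0 : d / c = 0 := by
      have e1 : d' / c = -(d / c) := mul_right_cancel₀ hA (by linear_combination -c1)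
      rw [e1] at c2
      exact (mul_eq_zero.1 (show d / c * 2 = 0 by linear_combination c2)).resolve_right h2
    exact hne0 w (by rw [hwa, h0, zero_smul])
  | twelve y' hn he _ =>
    obtain ⟨φ⟩ := D.twelve hn he
    have hpow : ∀ k, φ r' ^ k = 1 → r ^ k = 1 := fun k e => by
      rw [← map_pow, EmbeddingLike.map_eq_one_iff] at e
      exact congrArg Subtype.val e
    rcases alt4_orders (φ r') with e | e
    exacts [hne2 (hpow 2 e), hne3 (hpow 3 e)]
  | sixty y' hn he _ =>
    obtain ⟨φ⟩ := D.sixty hn he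
    have hpow : ∀ k, φ r' ^ k = 1 → r ^ k = 1 := fun k e => by
      rw [← map_pow, EmbeddingLike.map_eq_one_iff] at e
      exact congrArg Subtype.val e
    rcases alt5_orders (φ r') with e | e | e
    exacts [hne2 (hpow 2 e), hne3 (hpow 3 e), hne5 (hpow 5 e)]
  | affineLine w P t hP hP2 =>
    have : Nat.card (D.Q w) = 1 := Subgroup.card_bot
    omega
  | octahedral y' hn he hmin _ _ =>
    obtain ⟨φ⟩ := D.octahedral hn hmin
    have hpow : ∀ k, φ r' ^ k = 1 → r ^ k = 1 := fun k e => by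
      rw [← map_pow, EmbeddingLike.map_eq_one_iff] at e
      exact congrArg Subtype.val e
    rcases perm4_orders (φ r') with e | e
    exacts [hne3 (hpow 3 e), hne4 (hpow 4 e)]

end

end CfsgLib.Classical.FrameMax
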