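import Cfsg.Agent.Lib.Classical.FrameMax.Sphere
import Cfsg.Agent.Lib.Classical.FrameMax.ThreeSpace

/-!
# A first three-space whose spheres are orbits
-/

set_option autoImplicit false
set_option linter.unusedSectionVars false
set_option linter.style.haveILetI false

namespace CfsgLib.Classical.FrameMax

open Module QuadraticMap Matrix CfsgLib.Orth

noncomputable section

variable {F : Type*} [Field F] [Fintype F] {n : ℕ}

theorem full_of_isotropic (hp : (Fintype.card F).Prime) (h2 : (2 : F) ≠ 0) {R : Set (Fin n → F)}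
    (hR : RSet R) {v : Fin n → F} (hv : v ∈ R) {i : Fin n} (hx : v i * v i = 1) {k : Fin n} (hki : k ≠ i)
    (hk : v k ≠ 0) : ∃ U : Submodule F (Fin n → F), Full R U := by
  set x := v i with hxdef
  set a := v - x • e i with ha
  have hvv := hR.unit v hv
  have hai : a ⬝ᵥ e i = 0 := by rw [dot_e, ha]; simp [e_same, hxdef]
  have hia : e i ⬝ᵥ a = 0 := by rw [dotProduct_comm, hai]
  have hva : v = x • e i + a := by rw [ha]; abel
  have hee : ∀ j : Fin n, (e j : Fin n → F) ⬝ᵥ e j = 1 := fun j => by simp [e_dot, e_same]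
  have haa : a ⬝ᵥ a = 0 := by
    have h := hvv
    rw [hva] at h
    simp only [add_dotProduct, dotProduct_add, smul_dotProduct, dotProduct_smul, smul_eq_mul, hee, hia, hai] at h
    linear_combination h - hx
  set κ := a k with hκ
  have hκ0 : κ ≠ 0 := by simpa [hκ, ha, e_ne hki] using hk
  set dn := -2 * (κ * κ) with hdn
  have hdn0 : dn ≠ 0 := mul_ne_zero (neg_ne_zero.2 h2) (mul_ne_zero hκ0 hκ0)
  set r := refl (std F n) (e k) with hr
  set a' := r.1 a with ha'
  have ha'v : a' = a - (2 * κ) • e k := by rw [ha', hr, refl_unit h2 (hee k), e_dot, hκ]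
  set d' := dn⁻¹ • a' with hd'
  have hek : e k ⬝ᵥ e i = (0 : F) := by rw [dot_e, e_ne (Ne.symm hki)]
  have hei : r.1 (e i) = e i := by rw [hr, refl_unit h2 (hee k), hek]; simp
  have haa' : a' ⬝ᵥ a' = 0 := by rw [ha', std_map, haa]
  have haa'' : a ⬝ᵥ a' = dn := by
    rw [ha'v, dotProduct_sub, haa, dotProduct_smul, dot_e, ← hκ, hdn, smul_eq_mul]; ring
  have ha'i : a' ⬝ᵥ e i = 0 := by rw [ha', ← hei, dot_isom h2, hai]
  have hdd' : d' ⬝ᵥ d' = 0 := by rw [hd', smul_dotProduct, dotProduct_smul, haa', smul_zero, smul_zero]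
  have h1 : a ⬝ᵥ d' = 1 := by rw [hd', dotProduct_smul, haa'', smul_eq_mul, inv_mul_cancel₀ hdn0]
  have hd'w : d' ⬝ᵥ e i = 0 := by rw [hd', smul_dotProduct, ha'i, smul_zero]
  set U := LinearMap.range (vec a d' (e i)) with hU
  have hmem : ∀ α β γ : F, α • a + β • d' + γ • e i ∈ U := fun α β γ => ⟨![α, β, γ], vec_mk α β γ⟩
  have hvU : v ∈ U := by
    have h := hmem 1 0 x
    rwa [one_smul, zero_smul, add_zero, add_comm a, ← hva] at h
  have heU : e i ∈ U := by simpa using hmem 0 0 1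
  set v'' := r.1 v with hv''
  have hv''R : v'' ∈ R := hR.closed _ (hR.frame k) v hv
  have hv''e : v'' = x • e i + a' := by rw [hv'', hva, map_add, map_smul, hei]
  have hv''U : v'' ∈ U := by
    have h := hmem 0 dn x
    rw [hd', smul_smul, mul_inv_cancel₀ hdn0, one_smul, zero_smul, zero_add, add_comm a'] at h
    rwa [← hv''e] at h
  have hu : ∀ (w : Fin n → F) (b : Fin n → F), b ⬝ᵥ e i = 0 → b ⬝ᵥ b = 0 → w = x • e i + b → w ⬝ᵥ w = 1 →
      (refl (std F n) (e i) * refl (std F n) w).1 b = b ∧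
      (refl (std F n) (e i) * refl (std F n) w).1 (e i) = e i + (-2 * x) • b := by
    intro w b hbi hbb hw hww
    have hib : e i ⬝ᵥ b = 0 := by rw [dotProduct_comm, hbi]
    have hwb : w ⬝ᵥ b = 0 := by rw [hw, add_dotProduct, smul_dotProduct, hib, hbb, smul_zero, add_zero]
    have hwi : w ⬝ᵥ e i = x := by
      rw [hw, add_dotProduct, smul_dotProduct, hee, hbi, smul_eq_mul, mul_one, add_zero]
    refine ⟨?_, ?_⟩
    · rw [mul_apply', refl_unit h2 hww, hwb, refl_unit h2 (hee i)]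
      simp [hib]
    · rw [mul_apply', refl_unit h2 hww, hwi, hw]
      have : e i - (2 * x) • (x • e i + b) = (-1 : F) • e i + (-2 * x) • b := by
        funext j
        simp only [Pi.sub_apply, Pi.add_apply, Pi.smul_apply, smul_eq_mul]
        linear_combination (-2 * e i j) * hx
      rw [this, map_add, map_smul, map_smul, refl_self (std F n) (by rw [std_e]; exact one_ne_zero),
        refl_unit h2 (hee i), hib]
      simp
  obtain ⟨hu1, hu2⟩ := hu v a hai haa hva hvv
  obtain ⟨hu1', hu2'⟩ := hu v'' a' ha'i haa' hv''e (by rw [hv'', std_map, hvv])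
  have hx0 : x ≠ 0 := fun h => by rw [h, mul_zero] at hx; exact zero_ne_one hx
  refine ⟨U, full_of_unipotents haa hdd' h1 hai hd'w (hee i) one_ne_zero hp h2 hR
    (mul_mem (refl_mem_Ks (hR.frame i) heU) (refl_mem_Ks hv hvU))
    (mul_mem (refl_mem_Ks (hR.frame i) heU) (refl_mem_Ks hv''R hv''U))
    hu1 (mul_ne_zero (neg_ne_zero.2 h2) hx0) hu2 ?_ (s' := -2 * x * dn)
    (mul_ne_zero (mul_ne_zero (neg_ne_zero.2 h2) hx0) hdn0) ?_ (hR.frame i) heU⟩
  · rw [hd', map_smul, hu1']
  · rw [hu2', hd', smul_smul, mul_assoc (-2 * x), mul_inv_cancel₀ hdn0, mul_one]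

/-- The group generated by the reflections lifting to `R`. -/
def liftT {A : F} (R : Set (Fin n → F)) (ι : (Fin 3 → F) →ₗ[F] (Fin n → F)) : Subgroup (orthGroup (q3 A)) :=
  Subgroup.closure (refl (q3 A) '' {y | ι y ∈ R})

theorem full_of_three (hp : (Fintype.card F).Prime) (h2 : (2 : F) ≠ 0) {R : Set (Fin n → F)} (hR : RSet R)
    {A : F} (hA0 : A ≠ 0) (ι : (Fin 3 → F) →ₗ[F] (Fin n → F)) (hιdot : ∀ y z, ι y ⬝ᵥ ι z = b3 A y z)
    {i : Fin n} (hi : e i ∈ LinearMap.range ι)
    (G : Subgroup (orthGroup (q3 A))) (hdet : ∀ g ∈ G, det3 g = 1)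
    (hsq : ∀ g ∈ G, g * g ∈ liftT (A := A) R ι)
    {u₁ : orthGroup (q3 A)} (hu1G : u₁ ∈ G) (hu1 : u₁ ≠ 1) (hu1p : u₁ ^ Fintype.card F = 1)
    (hmove : ∀ d : Fin 3 → F, d ≠ 0 → b3 A d d = 0 → ∃ g ∈ G, ∀ r : F, g.1 d ≠ r • d) :
    ∃ U : Submodule F (Fin n → F), Full R U := by
  classical
  haveI : Fact (Fintype.card F).Prime := ⟨hp⟩
  haveI : CharP F (Fintype.card F) := charP_of_card_eq_prime rfl
  have hrefl : ∀ y z, ι ((refl (q3 A) y).1 z) = (refl (std F n) (ι y)).1 (ι z) := fun y z => by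
    rw [refl_apply, refl_apply, std_apply, polar_std, hιdot, hιdot, q3_apply, polar_q3, map_sub, map_smul]
  set T := liftT (A := A) R ι with hTdef
  set U := LinearMap.range ι with hU
  have hlift : ∀ g ∈ T, ∃ H ∈ Ks R U, ∀ y, H.1 (ι y) = ι (g.1 y) := by
    intro g hg
    rw [hTdef, liftT] at hg
    induction hg using Subgroup.closure_induction with
    | mem z hz =>
      obtain ⟨y, hy, rfl⟩ := hz
      exact ⟨_, refl_mem_Ks hy ⟨y, rfl⟩, fun z => (hrefl y z).symm⟩
    | one => exact ⟨1, one_mem _, fun y => rfl⟩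
    | mul p q _ _ hp hq =>
      obtain ⟨P, hP, hP'⟩ := hp; obtain ⟨Q, hQ, hQ'⟩ := hq
      exact ⟨P * Q, mul_mem hP hQ, fun y => by rw [mul_apply', mul_apply', hQ', hP']⟩
    | inv p _ hp =>
      obtain ⟨P, hP, hP'⟩ := hp
      refine ⟨P⁻¹, inv_mem hP, fun y => ?_⟩
      conv_lhs => rw [show y = p.1 ((p⁻¹).1 y) from (apply_inv' p y).symm, ← hP', inv_apply']
  have hodd : 2 < Fintype.card F := by
    rcases lt_or_ge 2 (Fintype.card F) with h | h
    · exact h
    · exfalso
      have h' : Fintype.card F = 2 := le_antisymm h hp.two_le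
      exact h2 (by rw [← Nat.cast_two, ← h', FiniteField.cast_card_eq_zero])
  set u := u₁ * u₁ with hu
  have huG : u ∈ G := mul_mem hu1G hu1G
  have hup : u ^ Fintype.card F = 1 := by
    rw [hu, ← pow_two, ← pow_mul, mul_comm, pow_mul, hu1p, one_pow]
  have hune : u ≠ 1 := fun h => by
    have hd : orderOf u₁ ∣ 2 := orderOf_dvd_of_pow_eq_one (by rw [pow_two]; exact h)
    rw [orderOf_eq_prime hu1p hu1] at hd
    have := Nat.le_of_dvd (by norm_num) hd
    omega
  have huT : u ∈ T := hsq _ hu1G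
  -- a fixed isotropic vector
  obtain ⟨d, hd0, hud, hdd⟩ : ∃ d : Fin 3 → F, d ≠ 0 ∧ u.1 d = d ∧ b3 A d d = 0 := by
    let N : Module.End F (Fin 3 → F) := (u.1 : (Fin 3 → F) →ₗ[F] (Fin 3 → F)) - 1
    haveI : CharP (Module.End F (Fin 3 → F)) (Fintype.card F) :=
      charP_of_injective_algebraMap (RingHom.injective (algebraMap F _)) _
    have hpow : ∀ k : ℕ, ∀ y, ((u.1 : (Fin 3 → F) →ₗ[F] (Fin 3 → F)) ^ k) y = (u ^ k).1 y := by
      intro k
      induction k with
      | zero => intro y; rfl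
      | succ k ih => intro y; rw [pow_succ, pow_succ, Module.End.mul_apply, mul_apply', ← ih]; rfl
    have hNp : N ^ Fintype.card F = 0 := by
      have h := sub_pow_char_of_commute (R := Module.End F (Fin 3 → F)) (Fintype.card F)
        (Commute.one_right (u.1 : (Fin 3 → F) →ₗ[F] (Fin 3 → F)))
      show ((u.1 : (Fin 3 → F) →ₗ[F] (Fin 3 → F)) - 1) ^ Fintype.card F = 0
      rw [h, one_pow, sub_eq_zero]
      exact LinearMap.ext fun y => by rw [hpow, hup]; rfl
    have hN : ∀ y, N y = u.1 y - y := fun y => rfl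
    have hex : ∃ k, N ^ (k + 1) = 0 := ⟨Fintype.card F - 1, by
      rwa [Nat.sub_add_cancel (le_of_lt (lt_trans one_lt_two hodd))]⟩
    obtain ⟨k, hk1, hk2⟩ : ∃ k, N ^ (k + 1) = 0 ∧ ∀ j < k, N ^ (j + 1) ≠ 0 :=
      ⟨Nat.find hex, Nat.find_spec hex, fun j hj => Nat.find_min hex hj⟩
    rcases Nat.eq_zero_or_pos k with rfl | hkpos
    · rw [pow_one] at hk1
      exact absurd (Subtype.ext (LinearEquiv.ext fun y => sub_eq_zero.1 (LinearMap.congr_fun hk1 y))) hune
    obtain ⟨z, hz⟩ : ∃ z, (N ^ k) z ≠ 0 := by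
      by_contra h
      push Not at h
      exact hk2 (k - 1) (by omega) (by rw [Nat.sub_add_cancel hkpos]; exact LinearMap.ext h)
    set d' := (N ^ k) z with hd'
    have hNd' : u.1 d' = d' := by
      have := LinearMap.congr_fun hk1 z
      rw [pow_succ', Module.End.mul_apply, ← hd', hN] at this
      exact sub_eq_zero.1 this
    have hperp : ∀ y, b3 A (N y) d' = 0 := fun y => by
      rw [hN, sub_eq_add_neg, b3_add, ← neg_one_smul F y, b3_smul]
      have h := b3_isom h2 u y d'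
      rw [hNd'] at h
      rw [h]; ring
    refine ⟨d', hz, hNd', ?_⟩
    have h := hperp ((N ^ (k - 1)) z)
    rwa [← Module.End.mul_apply, ← pow_succ', Nat.sub_add_cancel hkpos, ← hd'] at h
  -- an element moving its line
  obtain ⟨g, hgG, hgd⟩ := hmove d hd0 hdd
  set u' := g * u * g⁻¹ with hu'
  have hu'T : u' ∈ T := by
    rw [hu', show g * u * g⁻¹ = (g * u₁ * g⁻¹) * (g * u₁ * g⁻¹) by rw [hu]; group]
    exact hsq _ (mul_mem (mul_mem hgG hu1G) (inv_mem hgG))
  set d₁ := g.1 d with hd₁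
  have hd1d1 : b3 A d₁ d₁ = 0 := by rw [hd₁, b3_isom h2, hdd]
  have hbb : b3 A d d₁ ≠ 0 := by
    intro h0
    obtain ⟨z, hz⟩ : ∃ z, b3 A d z ≠ 0 := by
      by_contra h
      push Not at h
      exact hd0 (b3_eq_zero hA0 h)
    set y := d₁ - (b3 A d₁ z / b3 A d z) • d with hy
    have hy0 : y ≠ 0 := fun h => hgd _ (sub_eq_zero.1 h)
    have hbsub : ∀ p q r : Fin 3 → F, b3 A p (q - r) = b3 A p q - b3 A p r := fun p q r => by
      simp only [b3, Pi.sub_apply]; ring
    have hyd : b3 A d y = 0 := by rw [hy, hbsub, b3_smul_right, h0, hdd]; ring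
    have hbsub' : ∀ p q r : Fin 3 → F, b3 A (q - r) p = b3 A q p - b3 A r p := fun p q r => by
      simp only [b3, Pi.sub_apply]; ring
    have hyy : b3 A y y = 0 := by
      simp only [hy, hbsub, hbsub', b3_smul, b3_smul_right, h0, hdd, hd1d1, b3_comm d₁ d]; ring
    have hyz : b3 A z y = 0 := by
      rw [hy, hbsub, b3_smul_right, b3_comm z d, b3_comm z d₁, div_mul_cancel₀ _ hz, sub_self]
    have hind : LinearIndependent F ![d, z, y] := by
      rw [Fintype.linearIndependent_iff]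
      intro r hr
      simp only [Fin.sum_univ_three, Matrix.cons_val_zero, Matrix.cons_val_one, Matrix.cons_val] at hr
      have e1' := congrArg (b3 A d) hr
      have e2' := congrArg (b3 A z) hr
      have z0 : b3 A d (0 : Fin 3 → F) = 0 ∧ b3 A z (0 : Fin 3 → F) = 0 := by simp [b3]
      simp only [b3_add_right, b3_smul_right, hdd, hyd, hyz, z0.1, z0.2, mul_zero, add_zero, zero_add] at e1' e2'
      have r1 : r 1 = 0 := (mul_eq_zero.1 e1').resolve_right hz
      have r0 : r 0 = 0 := by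
        rw [r1, zero_mul, add_zero, b3_comm z d] at e2'
        exact (mul_eq_zero.1 e2').resolve_right hz
      rw [r0, r1, zero_smul, zero_smul, zero_add, zero_add] at hr
      intro j; fin_cases j
      exacts [r0, r1, (smul_eq_zero.1 hr).resolve_right hy0]
    let B := basisOfLinearIndependentOfCardEqFinrank hind (by simp)
    refine hy0 (b3_eq_zero hA0 fun p => ?_)
    rw [← B.sum_repr p]
    simp only [Fin.sum_univ_three, B, coe_basisOfLinearIndependentOfCardEqFinrank, Matrix.cons_val_zero,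
      Matrix.cons_val_one, Matrix.cons_val, b3_add_right, b3_smul_right, b3_comm y d, b3_comm y z, hyd, hyz, hyy]
    ring
  set d₂ := (b3 A d d₁)⁻¹ • d₁ with hd₂
  have hd2d2 : b3 A d₂ d₂ = 0 := by rw [hd₂, b3_smul, b3_smul_right, hd1d1, mul_zero, mul_zero]
  have hdd2 : b3 A d d₂ = 1 := by rw [hd₂, b3_smul_right, inv_mul_cancel₀ hbb]
  let f : (Fin 3 → F) →ₗ[F] (Fin 2 → F) :=
  { toFun := fun z => ![b3 A d z, b3 A d₂ z]
    map_add' := fun a b => by ext j; fin_cases j <;> simp [b3_add_right]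
    map_smul' := fun r a => by ext j; fin_cases j <;> simp [b3_smul_right] }
  obtain ⟨w, hwk, hw0⟩ : ∃ w ∈ LinearMap.ker f, w ≠ 0 := by
    refine Submodule.exists_mem_ne_zero_of_ne_bot fun hk => ?_
    have := LinearMap.finrank_le_finrank_of_injective (LinearMap.ker_eq_bot.1 hk)
    simp at this
  have hdw : b3 A d w = 0 := congrFun (LinearMap.mem_ker.1 hwk) 0
  have hd2w : b3 A d₂ w = 0 := congrFun (LinearMap.mem_ker.1 hwk) 1
  have hind : LinearIndependent F ![d, d₂, w] := by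
    rw [Fintype.linearIndependent_iff]
    intro r hr
    simp only [Fin.sum_univ_three, Matrix.cons_val_zero, Matrix.cons_val_one, Matrix.cons_val] at hr
    have e1' := congrArg (b3 A d) hr
    have e2' := congrArg (b3 A d₂) hr
    have z0 : b3 A d (0 : Fin 3 → F) = 0 ∧ b3 A d₂ (0 : Fin 3 → F) = 0 := by simp [b3]
    simp only [b3_add_right, b3_smul_right, hdd, hd2d2, hdd2, b3_comm d₂ d, hdw, hd2w, z0.1, z0.2, mul_zero,
      mul_one, add_zero, zero_add] at e1' e2'
    rw [e1', e2', zero_smul, zero_smul, zero_add, zero_add] at hr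
    intro j; fin_cases j
    exacts [e2', e1', (smul_eq_zero.1 hr).resolve_right hw0]
  let B := basisOfLinearIndependentOfCardEqFinrank hind (by simp)
  have hB : ∀ p, ∃ α β γ : F, p = α • d + β • d₂ + γ • w := fun p => ⟨B.repr p 0, B.repr p 1, B.repr p 2, by
    conv_lhs => rw [← B.sum_repr p]
    simp [Fin.sum_univ_three, B]⟩
  have hww : b3 A w w ≠ 0 := fun h0 => hw0 (b3_eq_zero hA0 fun p => by
    obtain ⟨α, β, γ, rfl⟩ := hB p
    rw [b3_add_right, b3_add_right, b3_smul_right α d w, b3_smul_right β d₂ w, b3_smul_right γ w w, b3_comm w d, b3_comm w d₂,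
      hdw, hd2w, h0]
    ring)
  -- the shape of an element of order `p` fixing an isotropic vector
  have hshape : ∀ (q : orthGroup (q3 A)) (a b : Fin 3 → F), det3 q = 1 → q ≠ 1 → q ^ Fintype.card F = 1 → q.1 a = a →
      b3 A a a = 0 → b3 A b b = 0 → b3 A a b = 1 → b3 A a w = 0 → b3 A b w = 0 →
      (∀ p, ∃ α β γ : F, p = α • a + β • b + γ • w) → ∃ s : F, s ≠ 0 ∧ q.1 w = w + s • a := by
    intro q a b hqdet hq hqp hqa haa' hbb' hab haw hbw hspan
    obtain ⟨α, β, γ, hqw⟩ := hspan (q.1 w)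
    have e1' := b3_isom h2 q a w
    rw [hqa, hqw, haw] at e1'
    simp only [b3_add_right, b3_smul_right, haa', hab, haw] at e1'
    have hβ : β = 0 := by linear_combination e1'
    rw [hβ, zero_smul, add_zero] at hqw
    have hk : ∀ k : ℕ, ∃ r : F, (q ^ k).1 w = r • a + γ ^ k • w := by
      intro k
      induction k with
      | zero => exact ⟨0, by simp [one_apply']⟩
      | succ k ih =>
        obtain ⟨r, hr⟩ := ih
        refine ⟨r + γ ^ k * α, ?_⟩
        rw [pow_succ', mul_apply', hr, map_add, map_smul, map_smul, hqa, hqw, pow_succ]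
        module
    obtain ⟨r, hr⟩ := hk (Fintype.card F)
    rw [hqp, one_apply', FiniteField.pow_card] at hr
    have hγ : γ = 1 := by
      have := congrArg (b3 A w) hr
      rw [b3_add_right, b3_smul_right, b3_smul_right, b3_comm w a, haw] at this
      exact ((mul_eq_zero.1 (show (1 - γ) * b3 A w w = 0 by linear_combination this)).resolve_right hww
        |> sub_eq_zero.1).symm
    rw [hγ, one_smul, add_comm] at hqw
    refine ⟨α, fun hα => hq ?_, hqw⟩
    rw [hα, zero_smul, add_zero] at hqw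
    obtain ⟨α', β', γ', hqb⟩ := hspan (q.1 b)
    have f1 := b3_isom h2 q a b
    have f2 := b3_isom h2 q w b
    have f3 := b3_isom h2 q b b
    rw [hqa, hqb, hab] at f1
    rw [hqw, hqb, b3_comm w b, hbw] at f2
    rw [hqb, hbb'] at f3
    simp only [b3_add, b3_add_right, b3_smul, b3_smul_right, haa', hbb', hab, haw, hbw, b3_comm b a,
      b3_comm w a, b3_comm w b] at f1 f2 f3
    have g1 : β' = 1 := by linear_combination f1
    have g2 : γ' = 0 := (mul_eq_zero.1 (show γ' * b3 A w w = 0 by linear_combination f2)).resolve_right hww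
    rw [g1, g2] at f3
    have g0 : α' = 0 := (mul_eq_zero.1 (show 2 * α' = 0 by linear_combination f3)).resolve_left h2
    rw [g0, g1, g2, zero_smul, zero_smul, one_smul, zero_add, add_zero] at hqb
    exact eq_one_of_fix_two h2 hA0 q hqdet hqa hqb (by
      rw [haa', hbb', hab, mul_zero, mul_one, zero_sub]; exact neg_ne_zero.2 one_ne_zero)
  have hu'G : u' ∈ G := mul_mem (mul_mem hgG huG) (inv_mem hgG)
  obtain ⟨s, hs, hsw⟩ := hshape u d d₂ (hdet u huG) hune hup hud hdd hd2d2 hdd2 hdw hd2w hB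
  obtain ⟨s', hs', hsw'⟩ := hshape u' d₂ d (hdet u' hu'G) (fun h => hune (conj_eq_one_iff.1 h))
    (by rw [hu', conj_pow, hup, mul_one, mul_inv_cancel])
    (by rw [hd₂, map_smul, hd₁, hu', mul_apply', mul_apply', inv_apply', hud])
    hd2d2 hdd ((b3_comm d₂ d).trans hdd2) hd2w hdw fun p => by
      obtain ⟨α, β, γ, hp'⟩ := hB p
      exact ⟨β, α, γ, by rw [hp', add_comm (β • d₂) (α • d)]⟩
  obtain ⟨H, hH, hH'⟩ := hlift u huT
  obtain ⟨H', hH2, hH2'⟩ := hlift u' hu'T
  clear_value d₂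
  have hv2 : ∀ p : Fin 3 → F, vec (ι d) (ι d₂) (ι w) p = ι (p 0 • d + p 1 • d₂ + p 2 • w) := fun p => by
    rw [map_add, map_add, map_smul, map_smul, map_smul]
    exact vec_apply p
  have hr : U = LinearMap.range (vec (ι d) (ι d₂) (ι w)) := by
    refine le_antisymm ?_ ?_
    · rintro _ ⟨p, rfl⟩
      obtain ⟨α, β, γ, rfl⟩ := hB p
      exact ⟨![α, β, γ], by rw [hv2]; simp⟩
    · rintro _ ⟨p, rfl⟩
      exact ⟨p 0 • d + p 1 • d₂ + p 2 • w, (hv2 p).symm⟩
  refine ⟨U, ?_⟩
  rw [hr] at hH hH2 ⊢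
  refine full_of_unipotents (by rw [hιdot, hdd]) (by rw [hιdot, hd2d2]) (by rw [hιdot, hdd2])
    (by rw [hιdot, hdw]) (by rw [hιdot, hd2w]) (hιdot w w) hww hp h2 hR hH hH2
    (by rw [hH', hud]) hs (by rw [hH', hsw, map_add, map_smul])
    (by rw [hH2', hd₂, map_smul, hd₁, hu', mul_apply', mul_apply', inv_apply', hud]) hs'
    (by rw [hH2', hsw', map_add, map_smul]) (hR.frame i) ?_
  rw [← hr]; exact hi


theorem full_of_general (hp : (Fintype.card F).Prime) (h2 : (2 : F) ≠ 0) {R : Set (Fin n → F)}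
    (hR : RSet R) {v : Fin n → F} (hv : v ∈ R) {i c l m : Fin n} (hx0 : v i ≠ 0)
    (hxh : 2 * (v i * v i) ≠ 1) (hx1 : v i * v i ≠ 1) (hc : v c = 0)
    (hlm2 : v l * v l = v m * v m) (hli : l ≠ i) (hmi : m ≠ i)
    (hcl : c ≠ l) (hcm : c ≠ m) (hlm : l ≠ m) : ∃ U : Submodule F (Fin n → F), Full R U := by
  classical
  haveI : Fact (Fintype.card F).Prime := ⟨hp⟩
  haveI : CharP F (Fintype.card F) := charP_of_card_eq_prime rfl
  set x := v i with hxdef
  have hci : c ≠ i := fun h => hx0 (by rw [hxdef, ← h, hc])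
  set a := v - x • e i with ha
  set A := 1 - x * x with hA
  have hA0 : A ≠ 0 := sub_ne_zero.2 (Ne.symm hx1)
  have hvv := hR.unit v hv
  have hee : ∀ j : Fin n, (e j : Fin n → F) ⬝ᵥ e j = 1 := fun j => by simp [e_dot, e_same]
  have hai : a i = 0 := by simp [ha, e_same, hxdef]
  have hac : a c = 0 := by simp [ha, e_ne hci, hc]
  have hal : a l = v l := by simp [ha, e_ne hli]
  have ham : a m = v m := by simp [ha, e_ne hmi]
  have hva : v = x • e i + a := by rw [ha]; abel
  have haa : a ⬝ᵥ a = A := by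
    have h := hvv
    rw [hva] at h
    simp only [add_dotProduct, dotProduct_add, smul_dotProduct, dotProduct_smul, smul_eq_mul, hee, dot_e,
      e_dot, hai] at h
    rw [hA]; linear_combination h
  let ι : (Fin 3 → F) →ₗ[F] (Fin n → F) := vec (e i) (e c) a
  have hι : ∀ y, ι y = y 0 • e i + y 1 • e c + y 2 • a := vec_apply
  have hιdot : ∀ y z, ι y ⬝ᵥ ι z = b3 A y z := fun y z => by
    simp only [hι, add_dotProduct, dotProduct_add, smul_dotProduct, dotProduct_smul, smul_eq_mul, haa, dot_e,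
      e_dot, hai, hac, e_same, e_ne hci, e_ne hci.symm, b3]
    ring
  have hrefl : ∀ y z, ι ((refl (q3 A) y).1 z) = (refl (std F n) (ι y)).1 (ι z) := fun y z => by
    rw [refl_apply, refl_apply, std_apply, polar_std, hιdot, hιdot, q3_apply, polar_q3, map_sub, map_smul]
  set U := LinearMap.range ι with hU
  let T : Subgroup (orthGroup (q3 A)) := liftT R ι
  let e0 : Fin 3 → F := ![1, 0, 0]
  let e1 : Fin 3 → F := ![0, 1, 0]
  let v3 : Fin 3 → F := ![x, 0, 1]
  have he0 : ι e0 = e i := by simp [hι, e0]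
  have he1 : ι e1 = e c := by simp [hι, e1]
  have hv3 : ι v3 = v := by simp [hι, v3, hva]
  have hTe0 : refl (q3 A) e0 ∈ T :=
    Subgroup.subset_closure ⟨e0, show ι e0 ∈ R from he0 ▸ hR.frame i, rfl⟩
  have hTe1 : refl (q3 A) e1 ∈ T :=
    Subgroup.subset_closure ⟨e1, show ι e1 ∈ R from he1 ▸ hR.frame c, rfl⟩
  have hTv : refl (q3 A) v3 ∈ T := Subgroup.subset_closure ⟨v3, show ι v3 ∈ R from hv3.symm ▸ hv, rfl⟩
  set σ := refl (q3 A) e0 * refl (q3 A) (e0 - e1) with hσ
  set ρ := refl (q3 A) e0 * refl (q3 A) v3 with hρ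
  have hq0 : q3 A e0 = 1 := by simp [q3_apply, b3, e0]
  have hq01 : q3 A (e0 - e1) = 2 := by simp [q3_apply, b3, e0, e1]; norm_num
  have hqv : q3 A v3 = 1 := by simp [q3_apply, b3, v3, hA]
  have hr0 : ∀ y, (refl (q3 A) e0).1 y = ![-y 0, y 1, y 2] := fun y => by
    rw [refl_apply, hq0, polar_q3]; funext j; fin_cases j <;> simp [b3, e0]; ring
  have hσv : ∀ y, σ.1 y = ![-y 1, y 0, y 2] := fun y => by
    rw [hσ, mul_apply', hr0, refl_apply, hq01, polar_q3]
    funext j; fin_cases j <;> simp [b3, e0, e1] <;> field_simp <;> ring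
  have hρv : ∀ y, ρ.1 y = ![(2 * (x * x) - 1) * y 0 + 2 * x * A * y 2, y 1,
      -2 * x * y 0 + (2 * (x * x) - 1) * y 2] := fun y => by
    rw [hρ, mul_apply', hr0, refl_apply, hqv, polar_q3]
    funext j; fin_cases j <;> simp [b3, v3, hA] <;> ring
  let G : Subgroup (orthGroup (q3 A)) := Subgroup.closure {σ, ρ}
  have hσG : σ ∈ G := Subgroup.subset_closure (Set.mem_insert _ _)
  have hρG : ρ ∈ G := Subgroup.subset_closure (Set.mem_insert_of_mem _ rfl)
  have hdetr : ∀ y, q3 A y ≠ 0 → (det3 (refl (q3 A) y) : F) = -1 := fun y hy => by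
    rw [det3, MonoidHom.comp_apply, LinearEquiv.coe_det]; exact det_refl (q3 A) hy
  have hdet : ∀ g ∈ G, det3 g = 1 := by
    intro g hg
    refine MonoidHom.mem_ker.1 ((Subgroup.closure_le _).2 ?_ hg)
    rintro z (rfl | rfl) <;> refine MonoidHom.mem_ker.2 (Units.ext ?_) <;>
      rw [map_mul, Units.val_mul, hdetr _ (by rw [hq0]; exact one_ne_zero), hdetr _ ?_] <;> simp
    · rw [hq01]; exact h2
    · rw [hqv]; exact one_ne_zero
  -- the quarter turn normalises `T`
  have hσR : ∀ y, ι y ∈ R → ι (σ.1 y) ∈ R := by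
    intro y hy
    let π : Equiv.Perm (Fin n) := Equiv.swap i c * Equiv.swap l m
    have hπ : Equiv.Perm.sign π = 1 := by
      rw [map_mul, Equiv.Perm.sign_swap hci.symm, Equiv.Perm.sign_swap hlm]; rfl
    obtain ⟨S, hiS, hS, hSlm, hsl, hsm⟩ : ∃ S : Finset (Fin n), i ∈ S ∧ c ∉ S ∧
        (∀ j, j ≠ i → j ≠ l → j ≠ m → j ∉ S) ∧ (if l ∈ S then -v m else v m) = v l ∧
        (if m ∈ S then -v l else v l) = v m := by
      rcases mul_self_eq_mul_self_iff.1 hlm2 with h' | h'
      · exact ⟨{i}, by simp, by simp [hci], fun j hj _ _ => by simp [hj], by simp [hli, h'], by simp [hmi, h']⟩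
      · exact ⟨{i, l, m}, by simp, by simp [hci, hcl, hcm], fun j hj hjl hjm => by simp [hj, hjl, hjm],
          by simp [h'], by simp [h']⟩
    have hP := hR.flip h2 S (hR.perm π hπ _ hy)
    have hπi : π i = c := by
      simp [π, Equiv.swap_apply_of_ne_of_ne hli.symm hmi.symm]
    have hπc : π c = i := by
      simp [π, Equiv.swap_apply_of_ne_of_ne hcl hcm]
    have hPa : (flips S : O F n).1 ((permO π : O F n).1 a) = a := by
      funext j
      rw [flips_apply, permO_apply]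
      have hsym : π.symm j = (Equiv.swap l m) ((Equiv.swap i c) j) := rfl
      rw [hsym]
      rcases eq_or_ne j i with rfl | hj
      · rw [Equiv.swap_apply_left, Equiv.swap_apply_of_ne_of_ne hcl hcm, hac, hai]; simp
      rcases eq_or_ne j c with rfl | hjc
      · rw [Equiv.swap_apply_right, Equiv.swap_apply_of_ne_of_ne hli.symm hmi.symm, hac, hai]; simp
      rw [Equiv.swap_apply_of_ne_of_ne hj hjc]
      rcases eq_or_ne j l with rfl | hjl
      · rw [Equiv.swap_apply_left, hal, ham]; exact hsl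
      rcases eq_or_ne j m with rfl | hjm
      · rw [Equiv.swap_apply_right, hal, ham]; exact hsm
      rw [Equiv.swap_apply_of_ne_of_ne hjl hjm, if_neg (hSlm j hj hjl hjm)]
    convert hP using 1
    rw [hι, hι, hσv]
    simp only [map_add, map_smul, permO_e, hπi, hπc, hPa, flips_e, hiS, hS, if_true,
      if_false, one_smul, Matrix.cons_val_zero, Matrix.cons_val_one, Matrix.cons_val]
    module
  have hσT : ∀ t ∈ T, σ * t * σ⁻¹ ∈ T := by
    intro t ht
    induction ht using Subgroup.closure_induction with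
    | mem z hz =>
      obtain ⟨y, hy, rfl⟩ := hz
      rw [conj_refl]
      exact Subgroup.subset_closure ⟨σ.1 y, hσR y hy, rfl⟩
    | one => simp
    | mul p q _ _ hp hq => rw [show σ * (p * q) * σ⁻¹ = σ * p * σ⁻¹ * (σ * q * σ⁻¹) by group]; exact mul_mem hp hq
    | inv p _ hp => rw [show σ * p⁻¹ * σ⁻¹ = (σ * p * σ⁻¹)⁻¹ by group]; exact inv_mem hp
  have hσ2 : σ * σ = refl (q3 A) e0 * refl (q3 A) e1 := Subtype.ext (LinearEquiv.ext fun y => by
    show σ.1 (σ.1 y) = (refl (q3 A) e0).1 ((refl (q3 A) e1).1 y)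
    rw [hσv, hσv, hr0, refl_apply, polar_q3, q3_apply]
    funext j; fin_cases j <;> simp [b3, e1]
    ring)
  have hσ2T : σ * σ ∈ T := hσ2 ▸ mul_mem hTe0 hTe1
  have hσi : ∀ t ∈ T, σ⁻¹ * t * σ ∈ T := by
    intro t ht
    have e' : σ⁻¹ * t * σ = (σ * σ)⁻¹ * (σ * t * σ⁻¹) * (σ * σ) := by group
    rw [e']; exact mul_mem (mul_mem (inv_mem hσ2T) (hσT t ht)) hσ2T
  let GS : Submonoid (orthGroup (q3 A)) :=
  { carrier := {g | g ∈ T ∨ g * σ ∈ T}
    one_mem' := Or.inl T.one_mem
    mul_mem' := by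
      rintro g h (hg | hg) (hh | hh)
      · exact Or.inl (mul_mem hg hh)
      · exact Or.inr (by rw [mul_assoc]; exact mul_mem hg hh)
      · refine Or.inr ?_
        have := mul_mem hg (hσi h hh)
        rwa [show g * σ * (σ⁻¹ * h * σ) = g * h * σ by group] at this
      · refine Or.inl ?_
        have := mul_mem (mul_mem hg (hσi _ hh)) (inv_mem hσ2T)
        rwa [show g * σ * (σ⁻¹ * (h * σ) * σ) * (σ * σ)⁻¹ = g * h by group] at this }
  have hGS : ∀ g ∈ G, g ∈ T ∨ g * σ ∈ T := by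
    intro g hg
    have hle : Submonoid.closure ({σ, ρ} : Set (orthGroup (q3 A))) ≤ GS := by
      rw [Submonoid.closure_le]
      rintro z (rfl | rfl)
      · exact Or.inr hσ2T
      · exact Or.inl (mul_mem hTe0 hTv)
    refine hle ?_
    rw [← Subgroup.closure_toSubmonoid_of_finite]
    exact hg
  have hsq : ∀ g ∈ G, g * g ∈ T := by
    intro g hg
    rcases hGS g hg with h | h
    · exact mul_mem h h
    · have := mul_mem (mul_mem h (hσi _ h)) (inv_mem hσ2T)
      rwa [show g * σ * (σ⁻¹ * (g * σ) * σ) * (σ * σ)⁻¹ = g * g by group] at this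
  obtain ⟨u₁, hu1G, hu1, hu1p⟩ := exists_unipotent hp h2 hA0 hx0 hxh hA G hdet hσG hρG hσv hρv
  refine full_of_three hp h2 hR hA0 ι hιdot ⟨e0, he0⟩ G hdet hsq hu1G hu1 hu1p fun d hd0 hdd => ?_
  by_contra h
  push Not at h
  obtain ⟨r, hr⟩ := h σ hσG
  obtain ⟨r', hr'⟩ := h ρ hρG
  rw [hσv] at hr
  rw [hρv] at hr'
  have a0 := congrFun hr 0
  have a1 := congrFun hr 1
  have a2 := congrFun hr 2
  have c1 := congrFun hr' 1
  have c2 := congrFun hr' 2
  simp at a0 a1 a2 c1 c2
  rw [b3] at hdd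
  have hd2 : d 2 = 0 := by
    by_contra hne
    have hr1 : r = 1 := (mul_eq_zero.1 (show (r - 1) * d 2 = 0 by linear_combination -a2)).resolve_right hne
      |> sub_eq_zero.1
    rw [hr1, one_mul] at a0 a1
    have z0 : d 0 = 0 := (mul_eq_zero.1 (show 2 * d 0 = 0 by linear_combination a1 - a0)).resolve_left h2
    have z1 : d 1 = 0 := by rw [← a1, z0]
    rw [z0, z1] at hdd
    exact hne (mul_self_eq_zero.1 ((mul_eq_zero.1 (show A * (d 2 * d 2) = 0 by linear_combination hdd)).resolve_left hA0))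
  rw [hd2] at c2
  have z0 : d 0 = 0 := (mul_eq_zero.1 (show (2 * x) * d 0 = 0 by linear_combination -c2)).resolve_left
    (mul_ne_zero h2 hx0)
  rw [z0, hd2] at hdd
  have z1 : d 1 = 0 := mul_self_eq_zero.1 (by linear_combination hdd)
  exact hd0 (funext fun j => by fin_cases j; exacts [z0, z1, hd2])

theorem full_of_pair (hp : (Fintype.card F).Prime) (h2 : (2 : F) ≠ 0) {R : Set (Fin n → F)}
    (hR : RSet R) {v : Fin n → F} (hv : v ∈ R) {i k : Fin n} (hik : i ≠ k) (hx : v i ≠ 0) (hy : v k ≠ 0)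
    (hxh : 2 * (v i * v i) ≠ 1) (hxq : 4 * (v i * v i) ≠ 1)
    (hxp : 16 * (v i * v i * (v i * v i)) - 12 * (v i * v i) + 1 ≠ 0)
    (hxy : v i * v i + v k * v k ≠ 1) : ∃ U : Submodule F (Fin n → F), Full R U := by
  classical
  set x := v i with hxdef
  set y := v k with hydef
  set a := v - x • e i - y • e k with ha
  set A := 1 - x * x - y * y with hA
  have hA0 : A ≠ 0 := fun h => hxy (by linear_combination -h)
  have hee : ∀ j : Fin n, (e j : Fin n → F) ⬝ᵥ e j = 1 := fun j => by simp [e_dot, e_same]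
  have hai : a i = 0 := by simp [ha, e_same, e_ne hik, hxdef]
  have hak : a k = 0 := by simp [ha, e_same, e_ne hik.symm, hydef]
  have hva : v = x • e i + y • e k + a := by rw [ha]; abel
  have haa : a ⬝ᵥ a = A := by
    have h := hR.unit v hv
    rw [hva] at h
    simp only [add_dotProduct, dotProduct_add, smul_dotProduct, dotProduct_smul, smul_eq_mul, hee, dot_e,
      e_dot, hai, hak, e_ne hik, e_ne hik.symm] at h
    rw [hA]; linear_combination h
  let ι : (Fin 3 → F) →ₗ[F] (Fin n → F) := vec (e i) (e k) a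
  have hι : ∀ y, ι y = y 0 • e i + y 1 • e k + y 2 • a := vec_apply
  have hιdot : ∀ y z, ι y ⬝ᵥ ι z = b3 A y z := fun y z => by
    simp only [hι, add_dotProduct, dotProduct_add, smul_dotProduct, dotProduct_smul, smul_eq_mul, haa, dot_e,
      e_dot, hai, hak, e_same, e_ne hik, e_ne hik.symm, b3]
    ring
  let e0 : Fin 3 → F := ![1, 0, 0]
  let e1 : Fin 3 → F := ![0, 1, 0]
  let v3 : Fin 3 → F := ![x, y, 1]
  have he0 : ι e0 = e i := by simp [hι, e0]
  have he1 : ι e1 = e k := by simp [hι, e1]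
  have hv3 : ι v3 = v := by simp [hι, v3, hva]
  have hTe0 : refl (q3 A) e0 ∈ liftT R ι :=
    Subgroup.subset_closure ⟨e0, show ι e0 ∈ R from he0 ▸ hR.frame i, rfl⟩
  have hTe1 : refl (q3 A) e1 ∈ liftT R ι :=
    Subgroup.subset_closure ⟨e1, show ι e1 ∈ R from he1 ▸ hR.frame k, rfl⟩
  have hTv : refl (q3 A) v3 ∈ liftT R ι := Subgroup.subset_closure ⟨v3, show ι v3 ∈ R from hv3.symm ▸ hv, rfl⟩
  set h := refl (q3 A) e0 * refl (q3 A) e1 with hh
  set r := refl (q3 A) e0 * refl (q3 A) v3 with hr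
  have hq0 : q3 A e0 = 1 := by simp [q3_apply, b3, e0]
  have hq1 : q3 A e1 = 1 := by simp [q3_apply, b3, e1]
  have hqv : q3 A v3 = 1 := by simp [q3_apply, b3, v3, hA]
  have hr0 : ∀ z, (refl (q3 A) e0).1 z = ![-z 0, z 1, z 2] := fun z => by
    rw [refl_apply, hq0, polar_q3]; funext j; fin_cases j <;> simp [b3, e0]; ring
  have hhv : ∀ z, h.1 z = ![-z 0, -z 1, z 2] := fun z => by
    rw [hh, mul_apply', hr0, refl_apply, hq1, polar_q3]
    funext j; fin_cases j <;> simp [b3, e1] <;> ring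
  have hrv : ∀ z, r.1 z = ![-(z 0 - 2 * (x * z 0 + y * z 1 + A * z 2) * x),
      z 1 - 2 * (x * z 0 + y * z 1 + A * z 2) * y, z 2 - 2 * (x * z 0 + y * z 1 + A * z 2)] := fun z => by
    rw [hr, mul_apply', hr0, refl_apply, hqv, polar_q3]
    funext j; fin_cases j <;> simp [b3, v3] <;> ring
  let G : Subgroup (orthGroup (q3 A)) := Subgroup.closure {h, r}
  have hhG : h ∈ G := Subgroup.subset_closure (Set.mem_insert _ _)
  have hrG : r ∈ G := Subgroup.subset_closure (Set.mem_insert_of_mem _ rfl)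
  have hdetr : ∀ z, q3 A z ≠ 0 → (det3 (refl (q3 A) z) : F) = -1 := fun z hz => by
    rw [det3, MonoidHom.comp_apply, LinearEquiv.coe_det]; exact det_refl (q3 A) hz
  have hdet : ∀ g ∈ G, det3 g = 1 := by
    intro g hg
    refine MonoidHom.mem_ker.1 ((Subgroup.closure_le _).2 ?_ hg)
    rintro z (rfl | rfl) <;> refine MonoidHom.mem_ker.2 (Units.ext ?_) <;>
      rw [map_mul, Units.val_mul, hdetr _ (by rw [hq0]; exact one_ne_zero), hdetr _ ?_] <;> simp
    · rw [hq1]; exact one_ne_zero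
    · rw [hqv]; exact one_ne_zero
  have hGT : G ≤ liftT R ι := (Subgroup.closure_le _).2 (by
    rintro z (rfl | rfl)
    exacts [mul_mem hTe0 hTe1, mul_mem hTe0 hTv])
  obtain ⟨u₁, hu1G, hu1, hu1p⟩ := exists_unipotent_pair hp h2 hA0 hx hy hxh hxq hxp G hdet hhG hrG hhv hrv hA
  refine full_of_three hp h2 hR hA0 ι hιdot ⟨e0, he0⟩ G hdet (fun g hg => hGT (mul_mem hg hg)) hu1G hu1 hu1p
    fun d hd0 hdd => ?_
  by_contra hno
  push Not at hno
  obtain ⟨κ, hκ⟩ := hno h hhG
  obtain ⟨κ', hκ'⟩ := hno r hrG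
  rw [hhv] at hκ
  rw [hrv] at hκ'
  have a0 := congrFun hκ 0
  have a1 := congrFun hκ 1
  have a2 := congrFun hκ 2
  have c0 := congrFun hκ' 0
  have c1 := congrFun hκ' 1
  have c2 := congrFun hκ' 2
  simp at a0 a1 a2 c0 c1 c2
  rw [b3] at hdd
  have hd2 : d 2 = 0 := by
    by_contra hne
    have hκ1 : κ = 1 := (mul_eq_zero.1 (show (κ - 1) * d 2 = 0 by linear_combination -a2)).resolve_right hne
      |> sub_eq_zero.1
    rw [hκ1, one_mul] at a0 a1
    have z0 : d 0 = 0 := (mul_eq_zero.1 (show 2 * d 0 = 0 by linear_combination -a0)).resolve_left h2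
    have z1 : d 1 = 0 := (mul_eq_zero.1 (show 2 * d 1 = 0 by linear_combination -a1)).resolve_left h2
    rw [z0, z1] at hdd
    exact hne (mul_self_eq_zero.1 ((mul_eq_zero.1 (show A * (d 2 * d 2) = 0 by linear_combination hdd)).resolve_left hA0))
  rw [hd2] at c0 c1 c2 hdd
  have hB : x * d 0 + y * d 1 = 0 :=
    (mul_eq_zero.1 (show 2 * (x * d 0 + y * d 1) = 0 by linear_combination -c2)).resolve_left h2
  have z01 : d 1 = 0 → d 0 = 0 := fun z1 => by
    rw [z1] at hdd
    exact mul_self_eq_zero.1 (by linear_combination hdd)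
  have hd1 : d 1 ≠ 0 := fun z1 => hd0 (funext fun j => by fin_cases j; exacts [z01 z1, z1, hd2])
  have hd0' : d 0 ≠ 0 := fun z0 => by
    rw [z0] at hdd
    exact hd1 (mul_self_eq_zero.1 (by linear_combination hdd))
  have hκ1 : κ' = 1 := mul_right_cancel₀ hd1 (by linear_combination -c1 - (2 * y) * hB)
  rw [hκ1] at c0
  exact hd0' ((mul_eq_zero.1 (show 2 * d 0 = 0 by linear_combination -c0 + (2 * x) * hB)).resolve_left h2)

end

end CfsgLib.Classical.FrameMax
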