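import Cfsg.Agent.Lib.Orth.Omega
import Cfsg.Agent.Lib.Orth.Standard

/-!
# The sum of squares, monomial isometries, sign changes and coordinate permutations
-/

set_option autoImplicit false
set_option linter.unusedSectionVars false

namespace CfsgLib.Classical.FrameMax

open Module QuadraticMap Matrix CfsgLib.Orth

noncomputable section

variable {F : Type*} [Field F] [Fintype F] {n : ℕ}

/-- `Σ x_i²`. -/
def std (F : Type*) [Field F] (n : ℕ) : QuadraticForm F (Fin n → F) :=
  ∑ i : Fin n, QuadraticMap.linMulLin (LinearMap.proj i) (LinearMap.proj i)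

theorem std_apply (v : Fin n → F) : std F n v = v ⬝ᵥ v := by
  simp [std, dotProduct, _root_.sum_apply]

theorem polar_std (u v : Fin n → F) : polar (std F n) u v = 2 * (u ⬝ᵥ v) := by
  simp only [polar, std_apply, add_dotProduct, dotProduct_add, dotProduct_comm v u]; ring

theorem std_nondeg (h2 : (2 : F) ≠ 0) : (QuadraticMap.polarBilin (std F n)).Nondegenerate := by
  classical
  refine nondegenerate_of_left fun v hv => funext fun i => ?_
  have := hv (Pi.single i 1)
  simp only [polar_std, dotProduct_single, mul_one] at this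
  exact (mul_eq_zero.1 this).resolve_left h2

/-- The standard frame vector. -/
def e (i : Fin n) : Fin n → F := Pi.single i 1

theorem e_same (i : Fin n) : (e i : Fin n → F) i = 1 := Pi.single_eq_same _ _

theorem e_ne {i j : Fin n} (h : j ≠ i) : (e i : Fin n → F) j = 0 := Pi.single_eq_of_ne h _

theorem dot_e (v : Fin n → F) (i : Fin n) : v ⬝ᵥ e i = v i := by simp [e]

theorem e_dot (v : Fin n → F) (i : Fin n) : e i ⬝ᵥ v = v i := by simp [e]

theorem e_dot_e (i j : Fin n) : (e i : Fin n → F) ⬝ᵥ e j = if i = j then 1 else 0 := by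
  rcases eq_or_ne i j with rfl | h
  · simp [e_dot, e_same]
  · rw [e_dot, if_neg h, e_ne h]

theorem std_e (i : Fin n) : std F n (e i) = 1 := by simp [std_apply, e_dot, e_same]

theorem sum_e (v : Fin n → F) : ∑ i, v i • e i = v := by
  funext j
  simp only [Finset.sum_apply, Pi.smul_apply, smul_eq_mul]
  rw [Finset.sum_eq_single j (fun i _ h => by rw [e_ne (Ne.symm h), mul_zero]) (by simp), e_same, mul_one]

theorem eq_smul_e {v : Fin n → F} {i : Fin n} (h : ∀ j, j ≠ i → v j = 0) : v = v i • e i := by
  funext j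
  rcases eq_or_ne j i with rfl | hj
  · simp [e_same]
  · simp [e_ne hj, h j hj]

/-- The orthogonal group of the sum of squares. -/
abbrev O (F : Type*) [Field F] (n : ℕ) : Subgroup ((Fin n → F) ≃ₗ[F] (Fin n → F)) := orthGroup (std F n)

instance (Q : QuadraticForm F (Fin n → F)) : Finite (orthGroup Q) :=
  Finite.of_injective (fun g => (g.1 : (Fin n → F) → (Fin n → F)))
    fun _ _ e => Subtype.ext (LinearEquiv.ext (congrFun e))

theorem mul_apply' {V : Type*} [AddCommGroup V] [Module F V] {Q : QuadraticForm F V}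
    (g h : orthGroup Q) (v : V) : (g * h).1 v = g.1 (h.1 v) := rfl

theorem one_apply' {V : Type*} [AddCommGroup V] [Module F V] {Q : QuadraticForm F V} (v : V) :
    (1 : orthGroup Q).1 v = v := rfl

theorem apply_inv' {V : Type*} [AddCommGroup V] [Module F V] {Q : QuadraticForm F V}
    (g : orthGroup Q) (v : V) : g.1 ((g⁻¹).1 v) = v := Orth.inv_apply g v

theorem inv_apply' {V : Type*} [AddCommGroup V] [Module F V] {Q : QuadraticForm F V}
    (g : orthGroup Q) (v : V) : (g⁻¹).1 (g.1 v) = v := g.1.symm_apply_apply v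

theorem dot_isom (h2 : (2 : F) ≠ 0) (g : O F n) (u v : Fin n → F) :
    g.1 u ⬝ᵥ g.1 v = u ⬝ᵥ v := by
  have h := polar_isom g u v
  rw [polar_std, polar_std] at h
  exact mul_left_cancel₀ h2 h

theorem std_map (g : O F n) (v : Fin n → F) : g.1 v ⬝ᵥ g.1 v = v ⬝ᵥ v := by
  rw [← std_apply, ← std_apply, apply_quad]

theorem inv_coord (h2 : (2 : F) ≠ 0) (g : O F n) (a i : Fin n) :
    (g⁻¹).1 (e i) a = g.1 (e a) i := by
  rw [← dot_e ((g⁻¹).1 (e i)) a, ← dot_isom h2 g, apply_inv', e_dot]

theorem ext_e {g h : O F n} (H : ∀ i, g.1 (e i) = h.1 (e i)) : g = h := by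
  refine Subtype.ext (LinearEquiv.ext fun v => ?_)
  rw [← sum_e v, map_sum, map_sum]
  exact Finset.sum_congr rfl fun i _ => by rw [map_smul, map_smul, H]

/-- A vector with support in a set is mapped into the span of the images. -/
theorem map_coord_zero (g : O F n) {v : Fin n → F} {i : Fin n}
    (h : ∀ a, v a = 0 ∨ g.1 (e a) i = 0) : g.1 v i = 0 := by
  conv_lhs => rw [← sum_e v, map_sum, Finset.sum_apply]
  refine Finset.sum_eq_zero fun a _ => ?_
  rw [map_smul, Pi.smul_apply, smul_eq_mul]
  rcases h a with h | h <;> simp [h]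

theorem fix_of_fix_e (g : O F n) {v : Fin n → F}
    (h : ∀ a, v a = 0 ∨ g.1 (e a) = e a) : g.1 v = v := by
  conv_rhs => rw [← sum_e v]
  conv_lhs => rw [← sum_e v, map_sum]
  refine Finset.sum_congr rfl fun a _ => ?_
  rcases h a with h | h <;> simp [map_smul, h]

/-! ### Monomial and diagonal isometries -/

/-- Every frame vector goes to a multiple of a frame vector. -/
def Mon : Subgroup (O F n) where
  carrier := {g | ∀ i, ∃ j, ∃ c : F, g.1 (e i) = c • e j}
  one_mem' := fun i => ⟨i, 1, by rw [one_smul]; rfl⟩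
  mul_mem' := fun {a b} ha hb i => by
    obtain ⟨j, c, hc⟩ := hb i
    obtain ⟨k, d, hd⟩ := ha j
    exact ⟨k, c * d, by rw [mul_apply', hc, map_smul, hd, smul_smul]⟩
  inv_mem' := fun {a} ha i => by
    classical
    choose π c hc using ha
    have hc0 : ∀ j, c j ≠ 0 := fun j h0 => by
      have h := hc j
      rw [h0, zero_smul, LinearEquiv.map_eq_zero_iff] at h
      simpa [e_same] using congrFun h j
    have hinj : Function.Injective π := fun x y hxy => by
      by_contra hne
      have h : a.1 (c y • e x) = a.1 (c x • e y) := by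
        rw [map_smul, map_smul, hc, hc, smul_smul, smul_smul, hxy, mul_comm]
      have := congrFun (a.1.injective h) x
      simp [e_same, e_ne hne] at this
      exact hc0 y this
    obtain ⟨j, rfl⟩ := (Finite.injective_iff_surjective.1 hinj) i
    refine ⟨j, (c j)⁻¹, ?_⟩
    have h : e (π j) = a.1 ((c j)⁻¹ • e j) := by
      rw [map_smul, hc, smul_smul, inv_mul_cancel₀ (hc0 j), one_smul]
    rw [h, inv_apply']

theorem mem_Mon {g : O F n} : g ∈ (Mon : Subgroup (O F n)) ↔ ∀ i, ∃ j, ∃ c : F, g.1 (e i) = c • e j :=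
  Iff.rfl

/-- The index of the image line. -/
def img (g : (Mon : Subgroup (O F n))) (i : Fin n) : Fin n := (g.2 i).choose

theorem img_spec (g : (Mon : Subgroup (O F n))) (i : Fin n) :
    g.1.1 (e i) = g.1.1 (e i) (img g i) • e (img g i) := by
  obtain ⟨c, hc⟩ := (g.2 i).choose_spec
  change g.1.1 (e i) = c • e (img g i) at hc
  conv_rhs => rw [hc]
  rw [Pi.smul_apply, e_same, smul_eq_mul, mul_one]
  exact hc

theorem img_eq (g : (Mon : Subgroup (O F n))) {i j : Fin n} {c : F} (h : g.1.1 (e i) = c • e j) :
    img g i = j := by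
  by_contra hne
  have h' := img_spec g i
  have hz : g.1.1 (e i) (img g i) = 0 := by rw [h]; simp [e_ne hne]
  rw [hz, zero_smul, LinearEquiv.map_eq_zero_iff] at h'
  simpa [e_same] using congrFun h' i

theorem coord_sq (g : O F n) {i j : Fin n} {c : F} (h : g.1 (e i) = c • e j) : c * c = 1 := by
  have := std_map g (e i)
  rw [h, e_dot, e_same, smul_dotProduct, dotProduct_smul, e_dot, e_same] at this
  simpa using this

theorem img_mul (g h : (Mon : Subgroup (O F n))) (i : Fin n) : img (g * h) i = img g (img h i) := by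
  refine img_eq (c := h.1.1 (e i) (img h i) * g.1.1 (e (img h i)) (img g (img h i))) (g * h) ?_
  show g.1.1 (h.1.1 (e i)) = _
  conv_lhs => rw [img_spec h i, map_smul, img_spec g (img h i), smul_smul]

/-- The permutation of the lines. -/
def permHom : (Mon : Subgroup (O F n)) →* Equiv.Perm (Fin n) :=
  MonoidHom.mk' (fun g => ⟨img g, img g⁻¹,
    fun i => by rw [← img_mul, inv_mul_cancel]; exact img_eq 1 (one_smul F (e i)).symm,
    fun i => by rw [← img_mul, mul_inv_cancel]; exact img_eq 1 (one_smul F (e i)).symm⟩)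
    fun g h => Equiv.ext fun i => img_mul g h i

theorem permHom_apply (g : (Mon : Subgroup (O F n))) (i : Fin n) : permHom g i = img g i := rfl

theorem img_injective (g : (Mon : Subgroup (O F n))) : Function.Injective (img g) :=
  (permHom g).injective

/-- Every frame vector is an eigenvector. -/
def Diag : Subgroup (O F n) where
  carrier := {g | ∀ i, ∃ c : F, g.1 (e i) = c • e i}
  one_mem' := fun i => ⟨1, by rw [one_smul]; rfl⟩
  mul_mem' := fun {a b} ha hb i => by
    obtain ⟨c, hc⟩ := hb i
    obtain ⟨d, hd⟩ := ha i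
    exact ⟨c * d, by rw [mul_apply', hc, map_smul, hd, smul_smul]⟩
  inv_mem' := fun {a} ha i => by
    obtain ⟨c, hc⟩ := ha i
    have hcc := coord_sq a hc
    refine ⟨c, ?_⟩
    have h : e i = a.1 (c • e i) := by rw [map_smul, hc, smul_smul, hcc, one_smul]
    conv_lhs => rw [h, inv_apply']

theorem diag_le_mon : (Diag : Subgroup (O F n)) ≤ Mon := fun _ h i => ⟨i, h i⟩

theorem diag_comm {g h : O F n} (hg : g ∈ (Diag : Subgroup (O F n))) (hh : h ∈ (Diag : Subgroup (O F n))) :
    g * h = h * g := by
  refine ext_e fun i => ?_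
  obtain ⟨c, hc⟩ := hg i
  obtain ⟨d, hd⟩ := hh i
  simp only [mul_apply', hc, hd, map_smul, smul_smul, mul_comm]

theorem diag_conj {g h : O F n} (hg : g ∈ (Mon : Subgroup (O F n))) (hh : h ∈ (Diag : Subgroup (O F n))) :
    g * h * g⁻¹ ∈ (Diag : Subgroup (O F n)) := by
  intro i
  obtain ⟨j, c, hc⟩ := (inv_mem hg : g⁻¹ ∈ (Mon : Subgroup (O F n))) i
  obtain ⟨d, hd⟩ := hh j
  refine ⟨d, ?_⟩
  rw [mul_apply', mul_apply', hc, map_smul, hd, smul_comm, map_smul, ← hc, apply_inv']

/-! ### Sign changes and permutations -/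

/-- The change of sign of the coordinates in `S`. -/
def flips (S : Finset (Fin n)) : O F n :=
  ⟨{ toFun := fun v i => if i ∈ S then -v i else v i
     map_add' := fun u v => funext fun i => by by_cases h : i ∈ S <;> simp [h, add_comm]
     map_smul' := fun c v => funext fun i => by by_cases h : i ∈ S <;> simp [h]
     invFun := fun v i => if i ∈ S then -v i else v i
     left_inv := fun v => funext fun i => by by_cases h : i ∈ S <;> simp [h]
     right_inv := fun v => funext fun i => by by_cases h : i ∈ S <;> simp [h] },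
   fun v => by
     simp only [std_apply, dotProduct]
     refine Finset.sum_congr rfl fun i _ => ?_
     show (if i ∈ S then -v i else v i) * (if i ∈ S then -v i else v i) = v i * v i
     split_ifs <;> ring⟩

theorem flips_apply (S : Finset (Fin n)) (v : Fin n → F) (i : Fin n) :
    (flips S).1 v i = if i ∈ S then -v i else v i := rfl

theorem flips_e (S : Finset (Fin n)) (i : Fin n) :
    (flips S : O F n).1 (e i) = (if i ∈ S then (-1 : F) else 1) • e i := by
  funext j
  rw [flips_apply]
  rcases eq_or_ne j i with rfl | h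
  · split_ifs <;> simp [e_same]
  · simp [e_ne h]

theorem flips_mem_diag (S : Finset (Fin n)) : (flips S : O F n) ∈ (Diag : Subgroup (O F n)) :=
  fun i => ⟨_, flips_e S i⟩

theorem flips_self (S : Finset (Fin n)) : (flips S : O F n) * flips S = 1 := by
  refine Subtype.ext (LinearEquiv.ext fun v => funext fun i => ?_)
  show (if i ∈ S then -(if i ∈ S then -v i else v i) else (if i ∈ S then -v i else v i)) = v i
  split_ifs <;> simp

theorem flips_inv (S : Finset (Fin n)) : (flips S : O F n)⁻¹ = flips S :=
  inv_eq_of_mul_eq_one_left (flips_self S)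

theorem refl_std (_h2 : (2 : F) ≠ 0) (a v : Fin n → F) :
    (refl (std F n) a).1 v = v - (2 * (a ⬝ᵥ v) / (a ⬝ᵥ a)) • a := by
  rw [refl_apply, std_apply, polar_std]
  congr 2
  ring

theorem refl_unit (h2 : (2 : F) ≠ 0) {a : Fin n → F} (ha : a ⬝ᵥ a = 1) (v : Fin n → F) :
    (refl (std F n) a).1 v = v - (2 * (a ⬝ᵥ v)) • a := by
  rw [refl_std h2, ha, div_one]

theorem refl_e (h2 : (2 : F) ≠ 0) (i : Fin n) : refl (std F n) (e i) = flips {i} := by
  refine ext_e fun j => ?_
  rw [refl_unit h2 (by simp [e_dot, e_same]), flips_e, e_dot_e]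
  rcases eq_or_ne i j with rfl | h
  · rw [if_pos rfl, if_pos (Finset.mem_singleton_self i), mul_one, two_smul, neg_smul, one_smul]
    abel
  · simp [h, Ne.symm h]

theorem flips_mem_commutator (h2 : (2 : F) ≠ 0) :
    ∀ {S : Finset (Fin n)}, Even S.card → (flips S : O F n) ∈ commutator (O F n) := by
  classical
  intro S
  have hone : ∀ i, Abelianization.of (flips {i} : O F n) = Abelianization.of (refl (std F n) (e i)) :=
    fun i => by rw [refl_e h2]
  have hsame : ∀ i j : Fin n, Abelianization.of (flips {i} : O F n) = Abelianization.of (flips {j}) := by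
    intro i j
    rw [hone, hone]
    exact ab_refl_eq (std_nondeg h2) (good_of_two_ne h2) (by rw [std_e]; exact one_ne_zero)
      (by rw [std_e]; exact one_ne_zero) (by rw [std_e, std_e, one_mul]; exact IsSquare.one)
  suffices h : ∀ i₀ : Fin n, Abelianization.of (flips S : O F n) =
      Abelianization.of (flips {i₀}) ^ S.card by
    intro hS
    rcases S.eq_empty_or_nonempty with rfl | ⟨i₀, -⟩
    · convert one_mem (commutator (O F n))
      exact ext_e fun i => by rw [flips_e, if_neg (Finset.notMem_empty i), one_smul]; rfl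
    · rw [mem_commutator_iff, h i₀]
      obtain ⟨k, hk⟩ := hS
      rw [hk, pow_add, ← mul_pow, ← map_mul, flips_self, map_one, one_pow]
  intro i₀
  induction S using Finset.induction with
  | empty =>
    rw [Finset.card_empty, pow_zero, ← map_one (Abelianization.of (G := O F n))]
    congr 1
  | insert a S ha ih =>
    rw [Finset.card_insert_of_notMem ha, pow_succ, ← ih, ← hsame a i₀, ← map_mul]
    congr 1
    refine ext_e fun i => ?_
    rw [mul_apply', flips_e, flips_e, map_smul, flips_e, smul_smul]
    congr 1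
    rcases eq_or_ne i a with rfl | h
    · simp [ha]
    · simp [h]

/-- The permutation of coordinates. -/
def permO : Equiv.Perm (Fin n) →* O F n where
  toFun π := ⟨LinearEquiv.funCongrLeft F F π.symm, fun v => by
    simp only [std_apply, dotProduct]
    exact Equiv.sum_comp π.symm (fun i => v i * v i)⟩
  map_one' := Subtype.ext (LinearEquiv.ext fun v => rfl)
  map_mul' π σ := Subtype.ext (LinearEquiv.ext fun v => rfl)

theorem permO_apply (π : Equiv.Perm (Fin n)) (v : Fin n → F) (i : Fin n) :
    (permO π).1 v i = v (π.symm i) := rfl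

theorem permO_e (π : Equiv.Perm (Fin n)) (i : Fin n) : (permO π : O F n).1 (e i) = e (π i) := by
  funext j
  rw [permO_apply]
  rcases eq_or_ne j (π i) with rfl | h
  · simp [e_same]
  · rw [e_ne h, e_ne (fun h' => h (by rw [← h', Equiv.apply_symm_apply]))]

theorem permO_mem_mon (π : Equiv.Perm (Fin n)) : (permO π : O F n) ∈ (Mon : Subgroup (O F n)) :=
  fun i => ⟨π i, 1, by rw [one_smul, permO_e]⟩

theorem permO_mem_commutator (h2 : (2 : F) ≠ 0) {π : Equiv.Perm (Fin n)}
    (hπ : Equiv.Perm.sign π = 1) : (permO π : O F n) ∈ commutator (O F n) := by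
  have h : alternatingGroup (Fin n) ≤ (commutator (O F n)).comap permO := by
    rw [← Equiv.Perm.closure_three_cycles_eq_alternating, Subgroup.closure_le]
    intro σ hσ
    rw [SetLike.mem_coe, Subgroup.mem_comap, mem_commutator_iff]
    have h4 : (σ : Equiv.Perm (Fin n)) = σ ^ 2 * σ ^ 2 := by
      rw [← pow_add, show 2 + 2 = orderOf σ + 1 by rw [Equiv.Perm.IsThreeCycle.orderOf hσ],
        pow_succ, pow_orderOf_eq_one, one_mul]
    rw [h4, map_mul, map_mul]
    exact ab_sq (std_nondeg h2) (good_of_two_ne h2) _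
  exact h (Equiv.Perm.mem_alternatingGroup.2 hπ)

/-- The determinant. -/
def det' : O F n →* Fˣ := (LinearEquiv.det).comp (O F n).subtype

theorem det'_commutator {g : O F n} (h : g ∈ commutator (O F n)) : det' g = 1 :=
  MonoidHom.mem_ker.1 (Abelianization.commutator_subset_ker det' h)

theorem det'_refl {a : Fin n → F} (ha : std F n a ≠ 0) :
    (det' (refl (std F n) a) : F) = -1 := by
  rw [det', MonoidHom.comp_apply, LinearEquiv.coe_det]
  exact det_refl (std F n) ha

theorem refl_pair_mem_commutator (h2 : (2 : F) ≠ 0) {a b : Fin n → F} (ha : std F n a = 1)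
    (hb : std F n b = 1) : refl (std F n) a * refl (std F n) b ∈ commutator (O F n) := by
  rw [mem_commutator_iff, map_mul,
    ab_refl_eq (std_nondeg h2) (good_of_two_ne h2) (a := a) (b := b) (by rw [ha]; exact one_ne_zero)
      (by rw [hb]; exact one_ne_zero) (by rw [ha, hb, one_mul]; exact IsSquare.one), ab_refl_sq]

end

end CfsgLib.Classical.FrameMax
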