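import Cfsg.Agent.Lib.Classical.FrameMax.Sphere

/-!
# Growing the space whose spheres are orbits, characteristic at least five
-/

set_option autoImplicit false
set_option linter.unusedSectionVars false
set_option linter.style.haveILetI false

namespace CfsgLib.Classical.FrameMax

open Module QuadraticMap Matrix CfsgLib.Orth

noncomputable section

variable {F : Type*} [Field F] [Fintype F] {n : ℕ}

theorem card_mod_two (h2 : (2 : F) ≠ 0) : Fintype.card F % 2 = 1 :=
  FiniteField.odd_card_of_char_ne_two fun h => by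
    haveI := ringChar.of_eq h
    exact h2 (CharP.cast_eq_zero F 2)

theorem exists_rep (h2 : (2 : F) ≠ 0) {A B : F} (hA : A ≠ 0) (hB : B ≠ 0) (r : F) :
    ∃ a b : F, A * (a * a) + B * (b * b) = r := by
  obtain ⟨a, b, hab⟩ := FiniteField.exists_root_sum_quadratic
    (f := (Polynomial.C A * Polynomial.X ^ 2 : Polynomial F))
    (g := Polynomial.C B * Polynomial.X ^ 2 - Polynomial.C r)
    (Polynomial.degree_C_mul_X_pow _ hA) (by
      rw [Polynomial.degree_sub_eq_left_of_degree_lt, Polynomial.degree_C_mul_X_pow _ hB]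
      · rfl
      · rw [Polynomial.degree_C_mul_X_pow _ hB]
        exact lt_of_le_of_lt Polynomial.degree_C_le (by norm_num)) (card_mod_two h2)
  simp at hab
  exact ⟨a, b, by linear_combination hab⟩

/-- The dot product with a vector. -/
def dotL (x : Fin n → F) : (Fin n → F) →ₗ[F] F where
  toFun := fun y => x ⬝ᵥ y
  map_add' := fun a b => dotProduct_add _ _ _
  map_smul' := fun c a => dotProduct_smul c _ _

theorem dotL_apply (x y : Fin n → F) : dotL x y = x ⬝ᵥ y := rfl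

/-- Non-degeneracy of the dot product on a subspace. -/
def Nd (U : Submodule F (Fin n → F)) : Prop := ∀ u ∈ U, (∀ w ∈ U, u ⬝ᵥ w = 0) → u = 0

theorem exists_component {U : Submodule F (Fin n → F)} (hU : Nd U) (y : Fin n → F) :
    ∃ a ∈ U, ∀ u ∈ U, u ⬝ᵥ (y - a) = 0 := by
  let L : U →ₗ[F] Module.Dual F U :=
  { toFun := fun a => (dotL a.1).comp U.subtype
    map_add' := fun a b => LinearMap.ext fun u => by simp [dotL_apply, add_dotProduct]
    map_smul' := fun c a => LinearMap.ext fun u => by simp [dotL_apply, smul_dotProduct] }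
  have hinj : Function.Injective L := by
    rw [injective_iff_map_eq_zero]
    exact fun a ha => Subtype.ext (hU a.1 a.2 fun w hw => LinearMap.congr_fun ha ⟨w, hw⟩)
  have hsurj := (LinearMap.injective_iff_surjective_of_finrank_eq_finrank Subspace.dual_finrank_eq.symm).1 hinj
  obtain ⟨a, ha⟩ := hsurj ((dotL y).comp U.subtype)
  refine ⟨a.1, a.2, fun u hu => ?_⟩
  have : a.1 ⬝ᵥ u = y ⬝ᵥ u := LinearMap.congr_fun ha ⟨u, hu⟩
  rw [dotProduct_sub, dotProduct_comm u, dotProduct_comm u, this, sub_self]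

theorem exists_aniso (h2 : (2 : F) ≠ 0) {U : Submodule F (Fin n → F)} (hU : Nd U) (hd : 0 < finrank F U) :
    ∃ b ∈ U, b ⬝ᵥ b ≠ 0 := by
  by_contra hno
  push Not at hno
  obtain ⟨u, hu, hu0⟩ := Submodule.exists_mem_ne_zero_of_ne_bot (p := U) fun h => by
    rw [h, finrank_bot] at hd; exact lt_irrefl 0 hd
  refine hu0 (hU u hu fun w hw => ?_)
  have h := hno (u + w) (U.add_mem hu hw)
  rw [add_dotProduct, dotProduct_add, dotProduct_add, hno u hu, hno w hw, dotProduct_comm w u] at h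
  exact (mul_eq_zero.1 (show 2 * (u ⬝ᵥ w) = 0 by linear_combination h)).resolve_left h2

theorem perp_nd {U : Submodule F (Fin n → F)} (hU : Nd U) {x : Fin n → F} (hx : x ∈ U) (hxx : x ⬝ᵥ x ≠ 0) :
    Nd (U ⊓ LinearMap.ker (dotL x)) ∧ finrank F U ≤ finrank F ↥(U ⊓ LinearMap.ker (dotL x)) + 1 := by
  refine ⟨fun u hu h0 => hU u hu.1 fun w hw => ?_, ?_⟩
  · have hxu : x ⬝ᵥ u = 0 := hu.2
    have hw' : w - (x ⬝ᵥ w / x ⬝ᵥ x) • x ∈ U ⊓ LinearMap.ker (dotL x) := by
      refine ⟨U.sub_mem hw (U.smul_mem _ hx), ?_⟩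
      show x ⬝ᵥ _ = 0
      rw [dotProduct_sub, dotProduct_smul, smul_eq_mul, div_mul_cancel₀ _ hxx, sub_self]
    have := h0 _ hw'
    rwa [dotProduct_sub, dotProduct_smul, dotProduct_comm u x, hxu, smul_zero, sub_zero] at this
  · have h := LinearMap.finrank_range_add_finrank_ker ((dotL x).comp U.subtype)
    have h1 : finrank F (LinearMap.range ((dotL x).comp U.subtype)) ≤ 1 :=
      (Submodule.finrank_le _).trans (Module.finrank_self F).le
    have h3 : finrank F (LinearMap.ker ((dotL x).comp U.subtype)) ≤ finrank F ↥(U ⊓ LinearMap.ker (dotL x)) :=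
      LinearMap.finrank_le_finrank_of_injective
        (f := LinearMap.codRestrict (U ⊓ LinearMap.ker (dotL x))
          (U.subtype.comp (LinearMap.ker ((dotL x).comp U.subtype)).subtype) (fun a => ⟨a.1.2, a.2⟩))
        fun a b h => by
          apply Subtype.ext; apply Subtype.ext
          exact congrArg (fun z : ↥(U ⊓ LinearMap.ker (dotL x)) => (z : Fin n → F)) h
    omega

theorem exists_dot (h2 : (2 : F) ≠ 0) {U : Submodule F (Fin n → F)} (hU : Nd U) (hd : 3 ≤ finrank F U)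
    {x : Fin n → F} (hx : x ∈ U) (hx0 : x ≠ 0) (ν t : F) (h : x ⬝ᵥ x ≠ 0 ∨ t ≠ 0) :
    ∃ z ∈ U, z ⬝ᵥ z = ν ∧ z ⬝ᵥ x = t := by
  by_cases hxx : x ⬝ᵥ x = 0
  · have ht : t ≠ 0 := h.resolve_left (not_not.2 hxx)
    obtain ⟨w, hw, hxw⟩ : ∃ w ∈ U, x ⬝ᵥ w ≠ 0 := by
      by_contra hno
      push Not at hno
      exact hx0 (hU x hx hno)
    set w₁ := (x ⬝ᵥ w)⁻¹ • w
    have h1 : x ⬝ᵥ w₁ = 1 := by rw [dotProduct_smul, smul_eq_mul, inv_mul_cancel₀ hxw]
    refine ⟨t • w₁ + ((ν - t * t * (w₁ ⬝ᵥ w₁)) / (2 * t)) • x, U.add_mem (U.smul_mem _ (U.smul_mem _ hw))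
      (U.smul_mem _ hx), ?_, ?_⟩
    · simp only [add_dotProduct, dotProduct_add, smul_dotProduct, dotProduct_smul, smul_eq_mul, hxx, h1,
        dotProduct_comm w₁ x]
      field_simp
      ring
    · simp only [add_dotProduct, smul_dotProduct, smul_eq_mul, hxx, dotProduct_comm w₁ x, h1]
      ring
  · obtain ⟨hn1, hd1⟩ := perp_nd hU hx hxx
    obtain ⟨b, hb, hbb⟩ := exists_aniso h2 hn1 (by omega)
    obtain ⟨hn2, hd2⟩ := perp_nd hn1 hb hbb
    obtain ⟨c, hc, hcc⟩ := exists_aniso h2 hn2 (by omega)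
    have hxb : x ⬝ᵥ b = 0 := hb.2
    have hxc : x ⬝ᵥ c = 0 := hc.1.2
    have hbc : b ⬝ᵥ c = 0 := hc.2
    obtain ⟨α, β, hab⟩ := exists_rep h2 hbb hcc (ν - t * t / (x ⬝ᵥ x))
    refine ⟨(t / (x ⬝ᵥ x)) • x + α • b + β • c,
      U.add_mem (U.add_mem (U.smul_mem _ hx) (U.smul_mem _ hb.1)) (U.smul_mem _ hc.1.1), ?_, ?_⟩
    · simp only [add_dotProduct, dotProduct_add, smul_dotProduct, dotProduct_smul, smul_eq_mul, hxb, hxc, hbc,
        dotProduct_comm b x, dotProduct_comm c x, dotProduct_comm c b]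
      have : t / x ⬝ᵥ x * (x ⬝ᵥ x) = t := div_mul_cancel₀ _ hxx
      have h' : t / x ⬝ᵥ x * (t / x ⬝ᵥ x * (x ⬝ᵥ x)) = t * t / x ⬝ᵥ x := by rw [this]; ring
      linear_combination hab + h'
    · simp only [add_dotProduct, smul_dotProduct, smul_eq_mul, dotProduct_comm b x, dotProduct_comm c x, hxb, hxc]
      rw [div_mul_cancel₀ _ hxx]; ring

theorem exists_perm_pair (hn : 4 ≤ n) {a b t t' : Fin n} (hab : a ≠ b) (htt : t ≠ t') :
    ∃ π : Equiv.Perm (Fin n), Equiv.Perm.sign π = 1 ∧ π a = t ∧ π b = t' := by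
  classical
  set π₀ : Equiv.Perm (Fin n) := Equiv.swap (Equiv.swap a t b) t' * Equiv.swap a t
  have ha : π₀ a = t := by
    have : t ≠ Equiv.swap a t b := fun h => hab ((Equiv.swap a t).injective (by rw [Equiv.swap_apply_left]; exact h))
    simp [π₀, Equiv.swap_apply_of_ne_of_ne this htt]
  have hb : π₀ b = t' := by simp [π₀]
  rcases Int.units_eq_one_or (Equiv.Perm.sign π₀) with h | h
  · exact ⟨π₀, h, ha, hb⟩
  · obtain ⟨c, hc, d, hd, hcd⟩ := Finset.one_lt_card.1 (show 1 < (Finset.univ \ {t, t'} : Finset (Fin n)).card by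
      rw [Finset.card_univ_sdiff, Fintype.card_fin, Finset.card_pair htt]; omega)
    simp only [Finset.mem_sdiff, Finset.mem_insert, Finset.mem_singleton, not_or] at hc hd
    refine ⟨Equiv.swap c d * π₀, by rw [map_mul, Equiv.Perm.sign_swap hcd, h]; rfl, ?_, ?_⟩
    · rw [Equiv.Perm.mul_apply, ha, Equiv.swap_apply_of_ne_of_ne (Ne.symm hc.2.1) (Ne.symm hd.2.1)]
    · rw [Equiv.Perm.mul_apply, hb, Equiv.swap_apply_of_ne_of_ne (Ne.symm hc.2.2) (Ne.symm hd.2.2)]

variable {R : Set (Fin n → F)}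

theorem full_sup (h2 : (2 : F) ≠ 0) (h3 : (3 : F) ≠ 0) (hR : RSet R) {U : Submodule F (Fin n → F)}
    (hU : Full R U) {yU p : Fin n → F} (hyU : yU ∈ U) (hp : ∀ u ∈ U, u ⬝ᵥ p = 0) (hy : yU + p ∈ R)
    (hq : p ⬝ᵥ p ≠ 0) (hν : yU ⬝ᵥ yU ≠ 0) :
    Full R (U ⊔ Submodule.span F {p}) := by
  set q := p ⬝ᵥ p with hqdef
  set W := U ⊔ Submodule.span F {p}
  have hUW : U ≤ W := le_sup_left
  have hpW : p ∈ W := Submodule.mem_sup_right (Submodule.mem_span_singleton_self p)
  have hdec : ∀ x ∈ W, ∃ a ∈ U, ∃ α : F, x = a + α • p := by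
    intro x hx
    obtain ⟨a, ha, b, hb, rfl⟩ := Submodule.mem_sup.1 hx
    obtain ⟨α, rfl⟩ := Submodule.mem_span_singleton.1 hb
    exact ⟨a, ha, α, rfl⟩
  have hdot : ∀ a ∈ U, ∀ b ∈ U, ∀ α β : F, (a + α • p) ⬝ᵥ (b + β • p) = a ⬝ᵥ b + α * β * q := by
    intro a ha b hb α β
    simp only [add_dotProduct, dotProduct_add, smul_dotProduct, dotProduct_smul, smul_eq_mul, hp a ha,
      dotProduct_comm p b, hp b hb, ← hqdef]
    ring
  have hzR : ∀ z ∈ U, z ⬝ᵥ z = yU ⬝ᵥ yU → z + p ∈ R := by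
    intro z hz hzz
    obtain ⟨h, hh, rfl⟩ := hU.trans yU hyU z hz hzz.symm hν
    have := (Ks_spec hR hh).1 _ hy
    rwa [map_add, (Ks_spec hR hh).2.2 p hp] at this
  have hνq : yU ⬝ᵥ yU + q = 1 := by
    have h := hR.unit _ hy
    rw [← one_smul F p, hdot yU hyU yU hyU] at h
    linear_combination h
  have hstep : ∀ a ∈ U, ∀ z ∈ U, z ⬝ᵥ z = yU ⬝ᵥ yU → ∀ α : F, ∃ h ∈ Ks R W,
      h.1 (a + α • p) = (a - (2 * (z ⬝ᵥ a + α * q)) • z) + (α - 2 * (z ⬝ᵥ a + α * q)) • p := by
    intro a ha z hz hzz α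
    have hzp := hzR z hz hzz
    refine ⟨_, refl_mem_Ks hzp (W.add_mem (hUW hz) hpW), ?_⟩
    rw [refl_unit h2 (hR.unit _ hzp)]
    have hd := hdot z hz a ha 1 α
    rw [one_smul, one_mul] at hd
    rw [hd]
    module
  -- every vector of non-zero norm is carried into `U`
  have hinto : ∀ x ∈ W, x ⬝ᵥ x ≠ 0 → ∃ h ∈ Ks R W, h.1 x ∈ U := by
    intro x hx hxx
    obtain ⟨a, ha, α, rfl⟩ := hdec x hx
    have main : ∀ a ∈ U, ∀ α : F, a ⬝ᵥ a ≠ 0 ∨ (a ≠ 0 ∧ α * (1 - 2 * q) ≠ 0) →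
        ∃ h ∈ Ks R W, h.1 (a + α • p) ∈ U := by
      intro a ha α hcase
      have hne : a ≠ 0 := by
        rcases hcase with h | h
        · rintro rfl; exact h (zero_dotProduct _)
        · exact h.1
      obtain ⟨z, hz, hzz, hza⟩ := exists_dot h2 hU.nondeg hU.dim ha hne (yU ⬝ᵥ yU) (α * (1 - 2 * q) / 2)
        (hcase.imp_right fun h => div_ne_zero h.2 h2)
      obtain ⟨h, hh, he⟩ := hstep a ha z hz hzz α
      refine ⟨h, hh, ?_⟩
      rw [he, hza, show α - 2 * (α * (1 - 2 * q) / 2 + α * q) = 0 by field_simp; ring, zero_smul, add_zero]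
      exact U.sub_mem ha (U.smul_mem _ hz)
    by_cases hα : α = 0
    · exact ⟨1, one_mem _, by simpa [one_apply', hα] using ha⟩
    by_cases haa : a ⬝ᵥ a = 0
    · have hrest : ∀ h₁ ∈ Ks R W, ∀ a' ∈ U, ∀ α' : F, h₁.1 (a + α • p) = a' + α' • p → a' ⬝ᵥ a' ≠ 0 →
          ∃ h ∈ Ks R W, h.1 (a + α • p) ∈ U := by
        intro h₁ hh₁ a' ha' α' he hne
        obtain ⟨h, hh, hh'⟩ := main a' ha' α' (Or.inl hne)
        exact ⟨h * h₁, mul_mem hh hh₁, by rw [mul_apply', he]; exact hh'⟩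
      by_cases ha0 : a = 0
      · obtain ⟨h, hh, he⟩ := hstep a ha yU hyU rfl α
        refine hrest h hh _ (U.sub_mem ha (U.smul_mem _ hyU)) _ he ?_
        rw [ha0, dotProduct_zero, zero_add, zero_sub, neg_dotProduct, dotProduct_neg, neg_neg, smul_dotProduct,
          dotProduct_smul, smul_eq_mul, smul_eq_mul]
        exact mul_ne_zero (mul_ne_zero h2 (mul_ne_zero hα hq)) (mul_ne_zero (mul_ne_zero h2 (mul_ne_zero hα hq)) hν)
      by_cases h12 : 1 - 2 * q = 0
      · obtain ⟨z, hz, hzz, hza⟩ := exists_dot h2 hU.nondeg hU.dim ha ha0 (yU ⬝ᵥ yU) α (Or.inr hα)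
        obtain ⟨h, hh, he⟩ := hstep a ha z hz hzz α
        refine hrest h hh _ (U.sub_mem ha (U.smul_mem _ hz)) _ he ?_
        rw [hza, sub_dotProduct, dotProduct_sub, dotProduct_sub, smul_dotProduct, smul_dotProduct, dotProduct_smul,
          dotProduct_smul, haa, dotProduct_comm a z, hza, hzz, smul_eq_mul, smul_eq_mul, smul_eq_mul]
        have hq2 : q = 1 / 2 := by field_simp; linear_combination -h12
        have hν2 : yU ⬝ᵥ yU = 1 / 2 := by rw [hq2] at hνq; field_simp at hνq ⊢; linear_combination hνq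
        rw [hν2, hq2]
        intro h0
        exact mul_ne_zero h3 (mul_ne_zero hα hα) (by linear_combination (norm := (field_simp; ring)) (-2 : F) * h0)
      · exact main a ha α (Or.inr ⟨ha0, mul_ne_zero hα h12⟩)
    · exact main a ha α (Or.inl haa)
  refine ⟨fun u hu h0 => ?_, hU.dim.trans (Submodule.finrank_mono hUW), ?_, ?_⟩
  · obtain ⟨a, ha, α, rfl⟩ := hdec u hu
    have h1 := h0 (0 + (1 : F) • p) (by simpa using hpW)
    rw [hdot a ha 0 U.zero_mem, dotProduct_zero, zero_add, mul_one] at h1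
    have hα : α = 0 := (mul_eq_zero.1 h1).resolve_right hq
    subst hα
    have := hU.nondeg a ha fun w hw => by
      have := h0 w (hUW hw)
      simpa using this
    simp [this]
  · obtain ⟨w, hw, hwU⟩ := hU.base
    exact ⟨w, hw, hUW hwU⟩
  · intro x hx y hy' hxy hx0
    obtain ⟨h, hh, hxU⟩ := hinto x hx hx0
    obtain ⟨k, hk, hyU'⟩ := hinto y hy' (hxy ▸ hx0)
    obtain ⟨l, hl, hl'⟩ := hU.trans _ hxU _ hyU' (by rw [std_map, std_map, hxy]) (by rw [std_map]; exact hx0)
    refine ⟨k⁻¹ * l * h, mul_mem (mul_mem (inv_mem hk) (Ks_mono hUW hl)) hh, ?_⟩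
    rw [mul_apply', mul_apply', hl', inv_apply']

theorem exists_bigger (h2 : (2 : F) ≠ 0) (h3 : (3 : F) ≠ 0) (hn : 4 ≤ n) (hR : RSet R) {v : Fin n → F}
    (hv : v ∈ R) {a b : Fin n} (hab : a ≠ b) (hva : v a ≠ 0) (hvb : v b ≠ 0)
    {U : Submodule F (Fin n → F)} (hU : Full R U) (hne : U ≠ ⊤) :
    ∃ W, Full R W ∧ finrank F U < finrank F W := by
  -- a vector of `R` meeting `U` and its complement
  obtain ⟨y, hy, yU, hyU, hperp, hyU0, hp0⟩ : ∃ y ∈ R, ∃ yU ∈ U, (∀ u ∈ U, u ⬝ᵥ (y - yU) = 0) ∧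
      yU ≠ 0 ∧ y - yU ≠ 0 := by
    by_contra hno
    push Not at hno
    have hside : ∀ y ∈ R, y ∈ U ∨ ∀ u ∈ U, u ⬝ᵥ y = 0 := by
      intro y hy
      obtain ⟨yU, hyU, hperp⟩ := exists_component hU.nondeg y
      by_cases h : yU = 0
      · right; intro u hu; simpa [h] using hperp u hu
      · left; rw [sub_eq_zero.1 (hno y hy yU hyU hperp h)]; exact hyU
    obtain ⟨t', ht'⟩ : ∃ t', (e t' : Fin n → F) ∉ U := by
      by_contra h
      push Not at h
      refine hne (eq_top_iff.2 fun x _ => ?_)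
      rw [← sum_e x]
      exact U.sum_mem fun i _ => U.smul_mem _ (h i)
    obtain ⟨t, ht⟩ : ∃ t, (e t : Fin n → F) ∈ U := by
      obtain ⟨w, hw, hwU⟩ := hU.base
      by_contra h
      push Not at h
      have : w = 0 := funext fun i => by
        rw [← dot_e w i]; exact (hside _ (hR.frame i)).resolve_left (h i) w hwU
      have h1 := hR.unit w hw
      rw [this, zero_dotProduct] at h1
      exact zero_ne_one h1
    have htt : t ≠ t' := fun h => ht' (h ▸ ht)
    obtain ⟨π, hπ, hπa, hπb⟩ := exists_perm_pair hn hab htt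
    rcases hside _ (hR.perm π hπ v hv) with h | h
    · have := (hside _ (hR.frame t')).resolve_left ht' _ h
      rw [dot_e, permO_apply, (Equiv.symm_apply_eq π).2 hπb.symm] at this
      exact hvb this
    · have := h _ ht
      rw [e_dot, permO_apply, (Equiv.symm_apply_eq π).2 hπa.symm] at this
      exact hva this
  -- with non-singular complement part
  obtain ⟨y₁, hy₁, q1⟩ : ∃ y₁ ∈ R, ∃ a₁ ∈ U, (∀ u ∈ U, u ⬝ᵥ (y₁ - a₁) = 0) ∧ a₁ ≠ 0 ∧
      (y₁ - a₁) ⬝ᵥ (y₁ - a₁) ≠ 0 := by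
    set d := y - yU with hd
    by_cases hdd : d ⬝ᵥ d = 0
    swap
    · exact ⟨y, hy, yU, hyU, hperp, hyU0, hdd⟩
    have hyy : yU ⬝ᵥ yU = 1 := by
      have h := hR.unit y hy
      rw [show y = yU + d by rw [hd]; abel] at h
      simp only [add_dotProduct, dotProduct_add, dotProduct_comm d yU, hperp yU hyU, hdd] at h
      linear_combination h
    have hzR : ∀ u ∈ U, u ⬝ᵥ u = 1 → ∀ γ : F, u + γ • d ∈ R := by
      intro u hu huu γ
      obtain ⟨z, hz, hzz, hzu⟩ := exists_dot h2 hU.nondeg hU.dim hu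
        (by rintro rfl; simp at huu) 1 (γ / 2) (Or.inl (by rw [huu]; exact one_ne_zero))
      obtain ⟨h, hh, hhz⟩ := hU.trans yU hyU z hz (by rw [hyy, hzz]) (by rw [hyy]; exact one_ne_zero)
      have hzd : z + d ∈ R := by
        have := (Ks_spec hR hh).1 y hy
        rwa [show y = yU + d by rw [hd]; abel, map_add, hhz, (Ks_spec hR hh).2.2 d hperp] at this
      have hlam : (z + d) ⬝ᵥ (u + γ • d) = γ / 2 := by
        simp only [add_dotProduct, dotProduct_add, dotProduct_smul, smul_eq_mul, hzu, hperp z hz,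
          dotProduct_comm d u, hperp u hu, hdd]
        ring
      have himg : (refl (std F n) (z + d)).1 (u + γ • d) = u - γ • z := by
        rw [refl_unit h2 (hR.unit _ hzd), hlam, show 2 * (γ / 2) = γ by field_simp]
        module
      have hmem : u - γ • z ∈ R := hU.unit_mem hR (U.sub_mem hu (U.smul_mem _ hz)) (by
        rw [← himg, std_map]
        simp only [add_dotProduct, dotProduct_add, smul_dotProduct, dotProduct_smul, smul_eq_mul,
          dotProduct_comm d u, hperp u hu, hdd, huu]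
        ring)
      have h' := hR.closed _ hzd _ hmem
      rwa [← himg, ← mul_apply', refl_mul_self, one_apply'] at h'
    obtain ⟨k, hk⟩ : ∃ k, d k ≠ 0 := by
      by_contra h; push Not at h; exact hp0 (funext h)
    obtain ⟨u₀, hu₀, hperp'⟩ := exists_component hU.nondeg (e k)
    set d' := e k - u₀ with hd'
    have hD : d ⬝ᵥ d' = d k := by
      rw [hd', dotProduct_sub, dot_e, dotProduct_comm d u₀, hperp u₀ hu₀, sub_zero]
    clear_value d'
    by_cases hu00 : u₀ = 0
    · have hde : d' = e k := by rw [hd', hu00, sub_zero]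
      have hz := hzR yU hyU hyy (1 / d k)
      set z := yU + (1 / d k) • d with hz_def
      have hzk : z ⬝ᵥ e k = 1 := by
        rw [hz_def, add_dotProduct, ← hde, hperp' yU hyU, smul_dotProduct, hD, smul_eq_mul, zero_add,
          one_div_mul_cancel hk]
      refine ⟨_, hR.closed z hz _ (hR.frame k), (-2 : F) • yU, U.smul_mem _ hyU, ?_, smul_ne_zero (neg_ne_zero.2 h2) hyU0, ?_⟩
      all_goals
        rw [refl_unit h2 (hR.unit z hz), hzk, hz_def,
          show e k - (2 * 1 : F) • (yU + (1 / d k) • d) - (-2 : F) • yU = e k - (2 / d k) • d by module]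
      · intro u hu
        rw [dotProduct_sub, dotProduct_smul, ← hde, hperp' u hu, hperp u hu, smul_zero, sub_zero]
      · rw [sub_dotProduct, dotProduct_sub, dotProduct_sub, smul_dotProduct, smul_dotProduct, dotProduct_smul,
          dotProduct_smul, hdd, e_dot, e_same, dot_e, e_dot]
        simp only [smul_eq_mul]
        rw [div_mul_cancel₀ _ hk]
        intro h0
        exact h3 (by linear_combination -h0)
    by_cases hd'd' : d' ⬝ᵥ d' = 0
    swap
    · exact ⟨e k, hR.frame k, u₀, hu₀, by rw [← hd']; exact hperp', hu00, by rw [← hd']; exact hd'd'⟩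
    have hu11 : u₀ ⬝ᵥ u₀ = 1 := by
      have h := hR.unit _ (hR.frame k)
      rw [show e k = u₀ + d' by rw [hd']; abel] at h
      simp only [add_dotProduct, dotProduct_add, dotProduct_comm d' u₀, hperp' u₀ hu₀, hd'd'] at h
      linear_combination h
    have hz := hzR u₀ hu₀ hu11 (1 / d k)
    set z := u₀ + (1 / d k) • d with hz_def
    have hek : e k = u₀ + d' := by rw [hd']; abel
    have hzk : z ⬝ᵥ e k = 2 := by
      rw [hz_def, hek]
      simp only [add_dotProduct, dotProduct_add, smul_dotProduct, smul_eq_mul, hu11, hperp' u₀ hu₀, hD,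
        dotProduct_comm d u₀, hperp u₀ hu₀]
      rw [one_div_mul_cancel hk]; ring
    refine ⟨_, hR.closed z hz _ (hR.frame k), (-3 : F) • u₀, U.smul_mem _ hu₀, ?_, smul_ne_zero (neg_ne_zero.2 h3) hu00, ?_⟩
    all_goals
      rw [refl_unit h2 (hR.unit z hz), hzk, hz_def, hek,
        show u₀ + d' - (2 * 2 : F) • (u₀ + (1 / d k) • d) - (-3 : F) • u₀ = d' - (4 / d k) • d by module]
    · intro u hu
      rw [dotProduct_sub, dotProduct_smul, hperp' u hu, hperp u hu, smul_zero, sub_zero]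
    · simp only [sub_dotProduct, dotProduct_sub, smul_dotProduct, dotProduct_smul, hdd, dotProduct_comm d' d, hD,
        hd'd', smul_eq_mul]
      rw [div_mul_cancel₀ _ hk]
      intro h0
      rw [mul_zero, sub_zero, div_mul_cancel₀ _ hk] at h0
      exact mul_ne_zero (mul_ne_zero h2 h2) h2 (by linear_combination -h0)
  -- with non-singular part in `U`
  obtain ⟨y₂, hy₂, a₂, ha₂, hperp₂, hq₂, hν₂⟩ : ∃ y₂ ∈ R, ∃ a₂ ∈ U, (∀ u ∈ U, u ⬝ᵥ (y₂ - a₂) = 0) ∧
      (y₂ - a₂) ⬝ᵥ (y₂ - a₂) ≠ 0 ∧ a₂ ⬝ᵥ a₂ ≠ 0 := by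
    obtain ⟨a₁, ha₁, hperp₁, ha₁0, hq₁⟩ := q1
    by_cases haa : a₁ ⬝ᵥ a₁ = 0
    swap
    · exact ⟨y₁, hy₁, a₁, ha₁, hperp₁, hq₁, haa⟩
    set p := y₁ - a₁ with hp
    obtain ⟨u, hu, huu, hua⟩ := exists_dot h2 hU.nondeg hU.dim ha₁ ha₁0 1 1 (Or.inr one_ne_zero)
    have huR := hU.unit_mem hR hu huu
    have hyu : y₁ ⬝ᵥ u = 1 := by
      rw [show y₁ = a₁ + p by rw [hp]; abel, add_dotProduct, dotProduct_comm a₁, hua, dotProduct_comm p,
        hperp₁ u hu, add_zero]
    have himg : (refl (std F n) y₁).1 u - (u - (2 : F) • a₁) = (-2 : F) • p := by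
      rw [refl_unit h2 (hR.unit _ hy₁), hyu, hp]; module
    refine ⟨_, hR.closed y₁ hy₁ u huR, u - (2 : F) • a₁, U.sub_mem hu (U.smul_mem _ ha₁), fun w hw => ?_, ?_, ?_⟩
    · rw [himg, dotProduct_smul, hperp₁ w hw, smul_zero]
    · rw [himg, smul_dotProduct, dotProduct_smul, smul_smul, smul_eq_mul]
      exact mul_ne_zero (mul_ne_zero (neg_ne_zero.2 h2) (neg_ne_zero.2 h2)) hq₁
    · rw [sub_dotProduct, dotProduct_sub, dotProduct_sub, smul_dotProduct, smul_dotProduct, dotProduct_smul,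
        dotProduct_smul, haa, huu, dotProduct_comm a₁ u, hua]
      simp only [smul_eq_mul]
      intro h0
      exact h3 (by linear_combination -h0)
  refine ⟨_, full_sup h2 h3 hR hU ha₂ hperp₂ (by rwa [add_sub_cancel]) hq₂ hν₂, Submodule.finrank_lt_finrank_of_lt ?_⟩
  refine lt_of_le_not_ge le_sup_left fun hle => hq₂ ?_
  exact hperp₂ _ (hle (Submodule.mem_sup_right (Submodule.mem_span_singleton_self _)))

theorem full_top (h2 : (2 : F) ≠ 0) (h3 : (3 : F) ≠ 0) (hn : 4 ≤ n) (hR : RSet R) {v : Fin n → F}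
    (hv : v ∈ R) {a b : Fin n} (hab : a ≠ b) (hva : v a ≠ 0) (hvb : v b ≠ 0)
    {U : Submodule F (Fin n → F)} (hU : Full R U) : Full R ⊤ := by
  have key : ∀ k : ℕ, ∀ U : Submodule F (Fin n → F), n ≤ finrank F U + k → Full R U → Full R ⊤ := by
    intro k
    induction k with
    | zero =>
      intro U hk hU
      have : U = ⊤ := Submodule.eq_top_of_finrank_eq (le_antisymm (Submodule.finrank_le U)
        (by rw [Module.finrank_fin_fun]; simpa using hk))
      rwa [this] at hU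
    | succ k ih =>
      intro U hk hU
      by_cases hne : U = ⊤
      · rwa [hne] at hU
      · obtain ⟨W, hW, hlt⟩ := exists_bigger h2 h3 hn hR hv hab hva hvb hU hne
        exact ih W (by omega) hW
  exact key n U (by omega) hU

end

end CfsgLib.Classical.FrameMax
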