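import Cfsg.Agent.Lib.Classical.FrameMax.Base

/-!
# Three non-zero coordinates among five, one of square a quarter
-/

set_option autoImplicit false
set_option linter.unusedSectionVars false

namespace CfsgLib.Classical.FrameMax

open Module QuadraticMap Matrix CfsgLib.Orth

variable {F : Type*} [Field F] [Fintype F] {n : ℕ}

/-- Such a vector spreads over five coordinates and then spans a full space. -/
theorem full_of_quarter (hp : (Fintype.card F).Prime) (h2 : (2 : F) ≠ 0) (h3 : (3 : F) ≠ 0) {R : Set (Fin n → F)}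
    (hR : RSet R) {v : Fin n → F} (hv : v ∈ R) {a b c z₁ z₂ : Fin n} (hab : a ≠ b) (hac : a ≠ c) (hbc : b ≠ c)
    (hz12 : z₁ ≠ z₂) (hz : ∀ x, x ≠ a → x ≠ b → x ≠ c → v x = 0) (hz1 : z₁ ≠ a ∧ z₁ ≠ b ∧ z₁ ≠ c)
    (hz2 : z₂ ≠ a ∧ z₂ ≠ b ∧ z₂ ≠ c) (hva : 4 * (v a * v a) = 1) (hvb : v b ≠ 0) (hvc : v c ≠ 0)
    (hgood : 2 * (v c * v c) = 1 ∨
      ((5 : F) ≠ 0 ∧ 16 * (v c * v c * (v c * v c)) - 12 * (v c * v c) + 1 = 0)) :
    ∃ U : Submodule F (Fin n → F), Full R U := by
  classical
  obtain ⟨z1a, z1b, z1c⟩ := hz1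
  obtain ⟨z2a, z2b, z2c⟩ := hz2
  let π : Equiv.Perm (Fin n) := Equiv.swap b z₁ * Equiv.swap c z₂
  have hπ : Equiv.Perm.sign π = 1 := by
    rw [map_mul, Equiv.Perm.sign_swap (Ne.symm z1b), Equiv.Perm.sign_swap (Ne.symm z2c)]; rfl
  have hsymm : π.symm = Equiv.swap c z₂ * Equiv.swap b z₁ := by
    apply Equiv.ext
    intro x
    rw [Equiv.symm_apply_eq]
    simp [π]
  set w := (permO π).1 v with hw
  have hwR : w ∈ R := hR.perm π hπ v hv
  have wa : w a = v a := by
    rw [hw, permO_apply, hsymm]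
    simp [Equiv.swap_apply_of_ne_of_ne hab (Ne.symm z1a), Equiv.swap_apply_of_ne_of_ne hac (Ne.symm z2a)]
  have w1 : w z₁ = v b := by
    rw [hw, permO_apply, hsymm]
    simp [Equiv.swap_apply_of_ne_of_ne hbc (Ne.symm z2b)]
  have w2 : w z₂ = v c := by
    rw [hw, permO_apply, hsymm]
    simp [Equiv.swap_apply_of_ne_of_ne z2b hz12.symm]
  have wb : w b = 0 := by
    rw [hw, permO_apply, hsymm]
    simp [Equiv.swap_apply_of_ne_of_ne z1c hz12]
    exact hz _ z1a z1b z1c
  have wc : w c = 0 := by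
    rw [hw, permO_apply, hsymm]
    simp [Equiv.swap_apply_of_ne_of_ne (Ne.symm hbc) (Ne.symm z1c)]
    exact hz _ z2a z2b z2c
  set q := v a * v a with hq
  have hdot : v ⬝ᵥ w = q := by
    rw [dotProduct, Finset.sum_eq_single a]
    · rw [wa]
    · intro x _ hxa
      by_cases hxb : x = b
      · rw [hxb, wb, mul_zero]
      by_cases hxc : x = c
      · rw [hxc, wc, mul_zero]
      rw [hz x hxa hxb hxc, zero_mul]
    · simp
  have huR : (refl (std F n) v).1 w ∈ R := hR.closed v hv w hwR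
  set u := (refl (std F n) v).1 w with hu
  have hux : ∀ x, u x = w x - 2 * q * v x := fun x => by
    rw [hu, refl_unit h2 (hR.unit v hv), hdot]; rfl
  have h4 : (4 : F) ≠ 0 := fun h => mul_ne_zero h2 h2 (by linear_combination h)
  have h16 : (16 : F) ≠ 0 := fun h => mul_ne_zero h4 h4 (by linear_combination h)
  have ea : 16 * (u a * u a) = 1 := by
    rw [hux, wa]
    linear_combination (4 * (1 - 2 * q) * (1 - 2 * q)) * hva + (4 * q - 3) * hva
  have eb : 4 * (u b * u b) = v b * v b := by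
    rw [hux, wb]; linear_combination (v b * v b * (4 * q + 1)) * hva
  have ec : 4 * (u c * u c) = v c * v c := by
    rw [hux, wc]; linear_combination (v c * v c * (4 * q + 1)) * hva
  have e1 : u z₁ = v b := by rw [hux, w1, hz z₁ z1a z1b z1c]; ring
  have e2 : u z₂ = v c := by rw [hux, w2, hz z₂ z2a z2b z2c]; ring
  have ua : u a ≠ 0 := fun h => by rw [h] at ea; simp at ea
  have uc : u c ≠ 0 := fun h => by rw [h, mul_zero, mul_zero] at ec; exact mul_ne_zero hvc hvc ec.symm
  have ub : u b ≠ 0 := fun h => by rw [h, mul_zero, mul_zero] at eb; exact mul_ne_zero hvb hvb eb.symm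
  have hvc2 : v c * v c ≠ 0 := mul_ne_zero hvc hvc
  have hvb2 : v b * v b ≠ 0 := mul_ne_zero hvb hvb
  by_cases hcx : 2 * (u c * u c) ≠ 1 ∧ 4 * (u c * u c) ≠ 1 ∧
      16 * (u c * u c * (u c * u c)) - 12 * (u c * u c) + 1 ≠ 0
  · obtain ⟨c1, c2, c3⟩ := hcx
    by_cases hy : u c * u c + u b * u b ≠ 1
    · exact full_of_pair hp h2 hR huR (Ne.symm hbc) uc ub c1 c2 c3 hy
    · push Not at hy
      refine full_of_pair hp h2 hR huR (k := z₁) (Ne.symm z1c) uc (by rw [e1]; exact hvb) c1 c2 c3 fun h' => ?_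
      rw [e1] at h'
      exact mul_ne_zero h3 hvb2 (by linear_combination 4 * h' - 4 * hy + eb)
  rcases hgood with hc2 | ⟨h5, hroot⟩
  · refine absurd ⟨?_, ?_, ?_⟩ hcx
    · intro h; exact h3 (by linear_combination -4 * h + 2 * ec + hc2)
    · intro h; exact one_ne_zero (show (1 : F) = 0 by linear_combination -2 * h + 2 * ec + hc2)
    · intro h
      exact one_ne_zero (show (1 : F) = 0 by
        linear_combination -4 * h + (4 * (4 * (u c * u c) + v c * v c) - 12) * ec + (2 * (v c * v c) - 5) * hc2)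
  have hax : 2 * (u a * u a) ≠ 1 → 4 * (u a * u a) ≠ 1 ∧
      16 * (u a * u a * (u a * u a)) - 12 * (u a * u a) + 1 ≠ 0 := fun _ =>
    ⟨fun h => h3 (by linear_combination ea - 4 * h), fun h => h5 (by
      linear_combination 16 * h - (16 * (u a * u a) - 11) * ea)⟩
  by_cases ha2 : 2 * (u a * u a) = 1
  · -- characteristic seven
    have h7 : (7 : F) = 0 := by linear_combination ea - 8 * ha2
    refine absurd ⟨?_, ?_, ?_⟩ hcx
    · intro h
      have hs2 : v c * v c = 2 := by linear_combination 2 * h - ec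
      exact one_ne_zero (show (1 : F) = 0 by
        linear_combination -1 * hroot + (16 * (v c * v c) + 20) * hs2 + 6 * h7)
    · intro h
      have hs1 : v c * v c = 1 := by linear_combination h - ec
      exact h5 (by linear_combination hroot - (16 * (v c * v c) + 4) * hs1)
    · intro h
      set s := v c * v c with hs
      have e3 : s * s - 3 * s + 1 = 0 := by
        linear_combination h - (4 * (u c * u c) + s - 3) * ec
      have e5 : (5 * s - 3) * (3 * s) = 0 := by linear_combination hroot - e3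
      have e6 : 5 * s - 3 = 0 := (mul_eq_zero.1 e5).resolve_right (mul_ne_zero h3 hvc2)
      have e8 : (11 : F) = 0 := by linear_combination -25 * e3 + (5 * s - 12) * e6
      exact one_ne_zero (show (1 : F) = 0 by linear_combination 2 * e8 - 3 * h7)
  obtain ⟨c2, c3⟩ := hax ha2
  by_cases hy : u a * u a + u b * u b ≠ 1
  · exact full_of_pair hp h2 hR huR hab ua ub ha2 c2 c3 hy
  · push Not at hy
    refine full_of_pair hp h2 hR huR (k := z₁) (Ne.symm z1a) ua (by rw [e1]; exact hvb) ha2 c2 c3 fun h' => ?_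
    rw [e1] at h'
    exact mul_ne_zero h3 hvb2 (by linear_combination 4 * h' - 4 * hy + eb)

end CfsgLib.Classical.FrameMax
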