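import Cfsg.Agent.Lib.Classical.FrameMax.Sphere

/-!
# Characteristic three
-/

set_option autoImplicit false
set_option linter.unusedSectionVars false
set_option linter.style.haveILetI false

namespace CfsgLib.Classical.FrameMax

open Module QuadraticMap Matrix CfsgLib.Orth

noncomputable section

variable {F : Type*} [Field F] [Fintype F] {n : ℕ}

theorem sq_eq_one_of_three (hp : (Fintype.card F).Prime) (h3 : (3 : F) = 0) {a : F} (ha : a ≠ 0) :
    a * a = 1 := by
  haveI : Fact (Fintype.card F).Prime := ⟨hp⟩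
  haveI : CharP F (Fintype.card F) := charP_of_card_eq_prime rfl
  have hdvd : Fintype.card F ∣ 3 := (CharP.cast_eq_zero_iff F _ 3).1 (by exact_mod_cast h3)
  have hq : Fintype.card F = 3 := (Nat.prime_dvd_prime_iff_eq hp Nat.prime_three).1 hdvd
  have := FiniteField.pow_card_sub_one_eq_one a ha
  rwa [hq, pow_two] at this

theorem exists_perm_map (hn : 4 ≤ n) {S T : Finset (Fin n)} (h : S.card = T.card) :
    ∃ π : Equiv.Perm (Fin n), Equiv.Perm.sign π = 1 ∧ ∀ i, π i ∈ T ↔ i ∈ S := by
  classical
  let eq : {x // x ∈ S} ≃ {x // x ∈ T} := Finset.equivOfCardEq h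
  set π := eq.extendSubtype with hπdef
  have hπ : ∀ i, π i ∈ T ↔ i ∈ S := fun i =>
    ⟨fun h' => by_contra fun hi => eq.extendSubtype_not_mem i hi h', fun hi => eq.extendSubtype_mem i hi⟩
  rcases Int.units_eq_one_or (Equiv.Perm.sign π) with hs | hs
  · exact ⟨π, hs, hπ⟩
  · obtain ⟨c, d, hcd, hiff⟩ : ∃ c d, c ≠ d ∧ (c ∈ T ↔ d ∈ T) := by
      have h' := Finset.card_add_card_compl T
      rw [Fintype.card_fin] at h'
      rcases (show 1 < T.card ∨ 1 < Tᶜ.card by omega) with h1 | h1
      · obtain ⟨c, hc, d, hd, hcd⟩ := Finset.one_lt_card.1 h1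
        exact ⟨c, d, hcd, iff_of_true hc hd⟩
      · obtain ⟨c, hc, d, hd, hcd⟩ := Finset.one_lt_card.1 h1
        exact ⟨c, d, hcd, iff_of_false (Finset.mem_compl.1 hc) (Finset.mem_compl.1 hd)⟩
    refine ⟨Equiv.swap c d * π, by rw [map_mul, Equiv.Perm.sign_swap hcd, hs]; rfl, fun i => ?_⟩
    rw [← hπ i, Equiv.Perm.mul_apply]
    rcases eq_or_ne (π i) c with h1 | h1
    · rw [h1, Equiv.swap_apply_left]; exact hiff.symm
    · rcases eq_or_ne (π i) d with h4 | h4
      · rw [h4, Equiv.swap_apply_right]; exact hiff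
      · rw [Equiv.swap_apply_of_ne_of_ne h1 h4]

/-- The number of non-zero coordinates. -/
def supp (x : Fin n → F) : Finset (Fin n) := by classical exact Finset.univ.filter fun i => x i ≠ 0

theorem mem_supp {x : Fin n → F} {i : Fin n} : i ∈ supp x ↔ x i ≠ 0 := by simp [supp]

theorem sum_supp (hp : (Fintype.card F).Prime) (h3 : (3 : F) = 0) (x : Fin n → F) :
    x ⬝ᵥ x = ((supp x).card : F) := by
  rw [dotProduct, ← Finset.sum_subset (Finset.subset_univ (supp x)) fun i _ hi => by
    simp [not_not.1 (mt mem_supp.2 hi)]]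
  rw [Finset.sum_congr rfl fun i hi => sq_eq_one_of_three hp h3 (mem_supp.1 hi)]
  simp

theorem card_supp_ge (hp : (Fintype.card F).Prime) (h2 : (2 : F) ≠ 0) (h3 : (3 : F) = 0) {x : Fin n → F}
    (hx : x ⬝ᵥ x = 1) : (supp x).card = 1 ∨ 4 ≤ (supp x).card := by
  rw [sum_supp hp h3] at hx
  generalize (supp x).card = m at hx ⊢
  rcases m with _ | _ | _ | _ | k
  · simp at hx
  · exact Or.inl rfl
  · exfalso
    push_cast at hx
    exact one_ne_zero (show (1 : F) = 0 by linear_combination hx)
  · exfalso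
    push_cast at hx
    exact one_ne_zero (show (1 : F) = 0 by linear_combination h3 - hx)
  · exact Or.inr (by omega)

/-- All unit vectors belong to `R`. -/
theorem units_three (hp : (Fintype.card F).Prime) (h2 : (2 : F) ≠ 0) (h3 : (3 : F) = 0) (hn : 5 ≤ n)
    {R : Set (Fin n → F)} (hR : RSet R) {v : Fin n → F} (hv : v ∈ R) (hv2 : 2 ≤ (supp v).card) :
    ∀ x : Fin n → F, x ⬝ᵥ x = 1 → x ∈ R := by
  classical
  have hsq := fun {a : F} (ha : a ≠ 0) => sq_eq_one_of_three hp h3 ha
  have hm1 : (-1 : F) = 2 := by linear_combination -h3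
  have hsign : ∀ {a b : F}, a ≠ 0 → b ≠ 0 → a = b ∨ a = -b := fun ha hb =>
    mul_self_eq_mul_self_iff.1 (by rw [hsq ha, hsq hb])
  obtain ⟨S, hS, hS4⟩ := Finset.exists_subset_card_eq ((card_supp_ge hp h2 h3 (hR.unit v hv)).resolve_left (by omega))
  -- four coordinates suffice
  set w := (flips S).1 v with hw
  have hwR : w ∈ R := hR.flip h2 S hv
  have hvw : v ⬝ᵥ w = -1 := by
    have h1 := hR.unit v hv
    have e1 : ∀ i, v i * w i = v i * v i - 2 * (if i ∈ S then v i * v i else 0) := fun i => by
      rw [hw, flips_apply]; split_ifs <;> ring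
    rw [dotProduct, Finset.sum_congr rfl fun i _ => e1 i, Finset.sum_sub_distrib, ← Finset.mul_sum,
      Finset.sum_ite_mem, Finset.univ_inter, Finset.sum_congr rfl fun i hi => hsq (mem_supp.1 (hS hi))]
    rw [← dotProduct, h1]
    simp [hS4]
    linear_combination (-2 : F) * h3
  set x₀ : Fin n → F := fun i => if i ∈ S then v i else 0 with hx₀
  have hx₀R : x₀ ∈ R := by
    convert hR.closed v hv w hwR using 1
    rw [refl_unit h2 (hR.unit v hv), hvw]
    funext i
    simp only [hx₀, hw, Pi.sub_apply, Pi.smul_apply, smul_eq_mul, flips_apply]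
    split_ifs
    · ring
    · linear_combination (-v i) * h3
  have hfour : ∀ x : Fin n → F, (supp x).card = 4 → x ∈ R := by
    intro x hx
    obtain ⟨π, hπ, hπS⟩ := exists_perm_map (by omega) (hS4.trans hx.symm)
    set y := (permO π).1 x₀ with hy
    have hyR : y ∈ R := hR.perm π hπ _ hx₀R
    have hy0 : ∀ i, y i ≠ 0 ↔ x i ≠ 0 := fun i => by
      rw [hy, permO_apply, ← mem_supp (x := x)]
      conv_rhs => rw [← π.apply_symm_apply i, hπS]
      by_cases h : π.symm i ∈ S
      · simp [hx₀, h, mem_supp.1 (hS h)]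
      · simp [hx₀, h]
    have := hR.flip h2 (Finset.univ.filter fun i => x i ≠ y i) hyR
    convert this using 1
    funext i
    rw [flips_apply]
    by_cases h : x i = y i
    · rw [if_neg (by simp [h]), h]
    · rw [if_pos (by simp [h])]
      rcases eq_or_ne (x i) 0 with h0 | h0
      · exact absurd (by rw [h0]; exact (not_not.1 (mt (hy0 i).1 (not_not.2 h0))).symm) h
      · exact (hsign h0 ((hy0 i).2 h0)).resolve_left h
  intro x hx
  obtain ⟨m, hm⟩ : ∃ m, (supp x).card = m := ⟨_, rfl⟩
  induction m using Nat.strong_induction_on generalizing x with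
  | _ m ih =>
  rcases card_supp_ge hp h2 h3 hx with h1 | h4
  · obtain ⟨i, hi⟩ := Finset.card_eq_one.1 h1
    have hxe : x = x i • e i := eq_smul_e fun j hj => by
      by_contra h
      exact hj (Finset.mem_singleton.1 (hi ▸ mem_supp.2 h))
    have hxi : x i ≠ 0 := mem_supp.1 (hi ▸ Finset.mem_singleton_self i)
    rcases hsign hxi one_ne_zero with h | h <;> rw [hxe, h]
    · rw [one_smul]; exact hR.frame i
    · rw [neg_one_smul]; exact hR.neg (hR.frame i)
  · by_cases h44 : (supp x).card = 4
    · exact hfour x h44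
    obtain ⟨P, hP, hP3⟩ := Finset.exists_subset_card_eq (show 3 ≤ (supp x).card by omega)
    obtain ⟨o, ho, hoP⟩ := Finset.exists_mem_notMem_of_card_lt_card (show P.card < (supp x).card by omega)
    have hxo : x o ≠ 0 := mem_supp.1 ho
    set u : Fin n → F := fun i => if i ∈ P then 0 else if i = o then -x o else x i with hu
    have hsu : supp u = supp x \ P := by
      ext i
      simp only [Finset.mem_sdiff, mem_supp, hu]
      split_ifs with h1 h5
      · simp [h1]
      · subst h5; simp [h1, hxo]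
      · simp [h1]
    have hcu : (supp u).card = (supp x).card - 3 := by rw [hsu, Finset.card_sdiff_of_subset hP, hP3]
    have hu1 : u ⬝ᵥ u = 1 := by
      rw [sum_supp hp h3, hcu, Nat.cast_sub (by omega)]
      rw [sum_supp hp h3] at hx
      push_cast
      linear_combination hx - h3
    have huR : u ∈ R := ih _ (by omega) u hu1 hcu
    set v₁ : Fin n → F := fun i => if i = o then 1 else if i ∈ P then x i / (-x o) else 0 with hv₁
    have hv₁R : v₁ ∈ R := hfour v₁ (by
      have : supp v₁ = insert o P := by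
        ext i
        simp only [Finset.mem_insert, mem_supp, hv₁]
        split_ifs with h1 h5
        · simp [h1]
        · simp [h5, mem_supp.1 (hP h5), hxo]
        · simp [h1, h5]
      rw [this, Finset.card_insert_of_notMem hoP, hP3])
    have hdot : v₁ ⬝ᵥ u = -x o := by
      rw [dotProduct, Finset.sum_eq_single o]
      · simp [hv₁, hu, hoP]
      · intro i _ hi
        by_cases h : i ∈ P <;> simp [hv₁, hu, hi, h]
      · simp
    convert hR.closed v₁ hv₁R u huR using 1
    rw [refl_unit h2 (hR.unit _ hv₁R), hdot]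
    funext i
    simp only [Pi.sub_apply, Pi.smul_apply, smul_eq_mul, hv₁, hu]
    split_ifs with h1 h5
    · exact absurd (h5 ▸ h1) hoP
    · field_simp; linear_combination x i * h3
    · rename_i h; subst h; ring
    · ring

/-- The reflections of unit vectors move any vector of norm two to a fixed one. -/
theorem trans_three (hp : (Fintype.card F).Prime) (h2 : (2 : F) ≠ 0) (h3 : (3 : F) = 0) (hn : 5 ≤ n)
    {R : Set (Fin n → F)} (hR : RSet R) (hall : ∀ x : Fin n → F, x ⬝ᵥ x = 1 → x ∈ R)
    {x y : Fin n → F} (hx : x ⬝ᵥ x = 2) (hy : y ⬝ᵥ y = 2) : ∃ h ∈ Ks R ⊤, h.1 x = y := by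
  classical
  have hsq := fun {a : F} (ha : a ≠ 0) => sq_eq_one_of_three hp h3 ha
  have hsign : ∀ {a b : F}, a ≠ 0 → b ≠ 0 → a = b ∨ a = -b := fun ha hb =>
    mul_self_eq_mul_self_iff.1 (by rw [hsq ha, hsq hb])
  let Rel : (Fin n → F) → (Fin n → F) → Prop := fun x y => ∃ h ∈ Ks R ⊤, h.1 x = y
  have hsymm : ∀ {x y}, Rel x y → Rel y x := fun {x y} ⟨h, hh, e'⟩ =>
    ⟨h⁻¹, inv_mem hh, by rw [← e', inv_apply']⟩
  have htr : ∀ {x y z}, Rel x y → Rel y z → Rel x z := fun {x y z} ⟨h, hh, e'⟩ ⟨k, hk, e''⟩ =>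
    ⟨k * h, mul_mem hk hh, by rw [mul_apply', e', e'']⟩
  have hone : ∀ (a : Fin n → F) (v : Fin n → F), (supp v).card = 4 → v ⬝ᵥ a = -1 →
      Rel a (a + (2 : F) • v) := by
    intro a v hv hva
    have hvv : v ⬝ᵥ v = 1 := by
      rw [sum_supp hp h3, hv]; push_cast; linear_combination h3
    refine ⟨_, refl_mem_Ks (hall v hvv) Submodule.mem_top, ?_⟩
    rw [refl_unit h2 hvv, hva]
    module
  -- down to weight two
  have hred : ∀ m : ℕ, ∀ x : Fin n → F, x ⬝ᵥ x = 2 → (supp x).card = m →
      ∃ y, y ⬝ᵥ y = 2 ∧ (supp y).card = 2 ∧ Rel x y := by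
    intro m
    induction m using Nat.strong_induction_on with
    | _ m ih =>
    intro x hx hm
    by_cases hm2 : m = 2
    · exact ⟨x, hx, hm.trans hm2, 1, one_mem _, rfl⟩
    have hm4 : 4 ≤ m := by
      have h := hx
      rw [sum_supp hp h3, hm] at h
      rcases m with _ | _ | _ | _ | k
      · exfalso; push_cast at h; exact h2 h.symm
      · exfalso; push_cast at h; exact one_ne_zero (show (1 : F) = 0 by linear_combination -h)
      · exact absurd rfl hm2
      · exfalso; push_cast at h; exact h2 (by linear_combination h3 - h)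
      · omega
    obtain ⟨P, hP, hP3⟩ := Finset.exists_subset_card_eq (show 3 ≤ (supp x).card by omega)
    obtain ⟨o, ho, hoP⟩ := Finset.exists_mem_notMem_of_card_lt_card (show P.card < (supp x).card by omega)
    have hxo := mem_supp.1 ho
    set v : Fin n → F := fun i => if i = o then -x o else if i ∈ P then x i else 0 with hv
    have hsv : supp v = insert o P := by
      ext i
      simp only [Finset.mem_insert, mem_supp, hv]
      split_ifs with h1 h5
      · simp [h1, hxo]
      · simp [h5, mem_supp.1 (hP h5)]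
      · simp [h1, h5]
    have hdot : v ⬝ᵥ x = -1 := by
      rw [dotProduct, ← Finset.sum_subset (Finset.subset_univ (insert o P)) fun i _ hi => by
        rw [← hsv, mem_supp, not_not] at hi; rw [hi, zero_mul]]
      rw [Finset.sum_insert hoP, Finset.sum_congr rfl (g := fun _ => (1 : F)) fun i hi => by
        simp only [hv, if_neg (show i ≠ o from fun h => hoP (h ▸ hi)), if_pos hi]
        exact hsq (mem_supp.1 (hP hi))]
      simp [hv, hP3, neg_mul, hsq hxo]
      linear_combination h3
    have hrel := hone x v (by rw [hsv, Finset.card_insert_of_notMem hoP, hP3]) hdot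
    have hnorm : (x + (2 : F) • v) ⬝ᵥ (x + (2 : F) • v) = 2 := by
      obtain ⟨h, _, he⟩ := hrel
      rw [← he, std_map, hx]
    have hsupp : supp (x + (2 : F) • v) = supp x \ P := by
      ext i
      simp only [Finset.mem_sdiff, mem_supp, Pi.add_apply, Pi.smul_apply, smul_eq_mul, hv]
      split_ifs with h1 h5
      · subst h1
        simp [hoP, hxo]
        ring_nf
        simpa using hxo
      · simp [h5]; linear_combination x i * h3
      · simp [h5]
    obtain ⟨y, hy, hy2, hr⟩ := ih (m - 3) (by omega) _ hnorm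
      (by rw [hsupp, Finset.card_sdiff_of_subset hP, hP3, hm])
    exact ⟨y, hy, hy2, htr hrel hr⟩
  -- moving a pair
  have hmove : ∀ x y : Fin n → F, x ⬝ᵥ x = 2 → (supp x).card = 2 → y ⬝ᵥ y = 2 → (supp y).card = 2 →
      Disjoint (supp x) (supp y) → Rel x y := by
    intro x y _ hx hy' hy hd
    set v : Fin n → F := x - y with hv
    have hsv : supp v = supp x ∪ supp y := by
      ext i
      simp only [Finset.mem_union, mem_supp, hv, Pi.sub_apply]
      by_cases h : x i = 0
      · simp [h]
      · have : y i = 0 := by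
          by_contra h'
          exact Finset.disjoint_left.1 hd (mem_supp.2 h) (mem_supp.2 h')
        simp [h, this]
    have hxy : x ⬝ᵥ y = 0 := Finset.sum_eq_zero fun i _ => by
      by_cases h : x i = 0
      · rw [h, zero_mul]
      · rw [show y i = 0 from by_contra fun h' => Finset.disjoint_left.1 hd (mem_supp.2 h) (mem_supp.2 h'), mul_zero]
    have hxx : x ⬝ᵥ x = 2 := by rw [sum_supp hp h3, hx]; norm_num
    have := hone x v (by rw [hsv, Finset.card_union_of_disjoint hd, hx, hy]) (by
      rw [hv, sub_dotProduct, dotProduct_comm y x, hxy, hxx]; linear_combination h3)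
    convert this using 1
    funext i
    simp only [hv, Pi.add_apply, Pi.smul_apply, Pi.sub_apply, smul_eq_mul]
    linear_combination (y i - x i) * h3
  obtain ⟨x', hx', hx2, hrx⟩ := hred _ x hx rfl
  obtain ⟨y', hy', hy2, hry⟩ := hred _ y hy rfl
  by_cases hdis : Disjoint (supp x') (supp y')
  · exact htr hrx (htr (hmove x' y' hx' hx2 hy' hy2 hdis) (hsymm hry))
  obtain ⟨Z, hZ, hZ2⟩ := Finset.exists_subset_card_eq (show 2 ≤ (supp x' ∪ supp y')ᶜ.card by
    rw [Finset.card_compl, Fintype.card_fin]
    have := Finset.card_union_add_card_inter (supp x') (supp y')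
    have : (supp x' ∩ supp y').card ≠ 0 := fun h =>
      hdis (Finset.disjoint_iff_inter_eq_empty.2 (Finset.card_eq_zero.1 h))
    omega)
  set z : Fin n → F := fun i => if i ∈ Z then 1 else 0 with hz
  have hsz : supp z = Z := by ext i; simp [mem_supp, hz]
  have hzz : z ⬝ᵥ z = 2 := by rw [sum_supp hp h3, hsz, hZ2]; norm_num
  have hd : ∀ i ∈ Z, i ∉ supp x' ∧ i ∉ supp y' := fun i hi => by
    have := Finset.mem_compl.1 (hZ hi)
    rw [Finset.mem_union] at this
    exact not_or.1 this
  have r1 := hmove x' z hx' hx2 hzz (hsz ▸ hZ2) (Finset.disjoint_right.2 fun i hi => (hd i (hsz ▸ hi)).1)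
  have r2 := hmove y' z hy' hy2 hzz (hsz ▸ hZ2) (Finset.disjoint_right.2 fun i hi => (hd i (hsz ▸ hi)).2)
  exact htr hrx (htr r1 (htr (hsymm r2) (hsymm hry)))

end

end CfsgLib.Classical.FrameMax
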