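import Cfsg.Agent.Lib.Classical.FrameMax.Reach
import Cfsg.Agent.Lib.Classical.FrameMax.Base
import Cfsg.Agent.Lib.Classical.FrameMax.Grow
import Cfsg.Agent.Lib.Classical.FrameMax.Three
import Cfsg.Agent.Lib.Classical.FrameMax.Quarter

/-!
# The monomial subgroup of `Ω` is maximal
-/

set_option autoImplicit false
set_option linter.unusedSectionVars false
set_option linter.style.haveILetI false

namespace CfsgLib.Classical.FrameMax

open Module QuadraticMap Matrix CfsgLib.Orth
open scoped commutatorElement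

noncomputable section

variable {F : Type*} [Field F] [Fintype F] {n : ℕ} {M : Subgroup (O F n)}

/-- The unit vectors whose reflection lies in `M` up to a frame reflection. -/
def Rof (M : Subgroup (O F n)) : Set (Fin n → F) :=
  {v | v ⬝ᵥ v = 1 ∧ ∀ i, refl (std F n) v * refl (std F n) (e i) ∈ M}

theorem e_pair_mem (hO : Over M) (i j : Fin n) : refl (std F n) (e i) * refl (std F n) (e j) ∈ M := by
  rw [refl_e hO.two, refl_e hO.two]
  rcases eq_or_ne i j with rfl | hij
  · rw [flips_self]; exact M.one_mem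
  · convert hO.pair_mem hij using 1
    refine ext_e fun k => ?_
    rw [mul_apply', flips_e, flips_e, map_smul, flips_e, smul_smul]
    congr 1
    by_cases h1 : k = i <;> by_cases h2 : k = j <;> simp [h1, h2, hij, hij.symm]

theorem map_mem_Rof (hO : Over M) {g : O F n} (hg : g ∈ M) {i k : Fin n} (hik : g.1 (e i) = e k)
    {v : Fin n → F} (hv : v ∈ Rof M) : g.1 v ∈ Rof M := by
  refine ⟨by rw [std_map]; exact hv.1, fun l => ?_⟩
  have h := M.mul_mem (M.mul_mem (M.mul_mem hg (hv.2 i)) (M.inv_mem hg)) (e_pair_mem hO k l)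
  have e' : g * (refl (std F n) v * refl (std F n) (e i)) * g⁻¹ =
      (g * refl (std F n) v * g⁻¹) * (g * refl (std F n) (e i) * g⁻¹) := by group
  rw [e', conj_refl, conj_refl, hik, mul_assoc, ← mul_assoc (refl (std F n) (e k)), refl_mul_self, one_mul] at h
  exact h

theorem rset_Rof (hO : Over M) : RSet (Rof M) where
  unit v hv := hv.1
  frame i := ⟨by simp [e_dot, e_same], fun j => e_pair_mem hO i j⟩
  closed u hu w hw := by
    refine ⟨by rw [std_map]; exact hw.1, fun i => ?_⟩
    have h := M.mul_mem (M.mul_mem (hu.2 i) (M.inv_mem (hw.2 i))) (hu.2 i)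
    rw [_root_.mul_inv_rev, refl_inv, refl_inv] at h
    rw [← conj_refl, refl_inv]
    convert h using 1
    rw [show refl (std F n) u * refl (std F n) (e i) * (refl (std F n) (e i) * refl (std F n) w) =
      refl (std F n) u * (refl (std F n) (e i) * refl (std F n) (e i)) * refl (std F n) w by group,
      refl_mul_self, mul_one]
    group
  perm π hπ v hv := by
    rcases n.eq_zero_or_pos with rfl | hn
    · exact ⟨by rw [std_map]; exact hv.1, fun i => i.elim0⟩
    · exact map_mem_Rof hO (hO.perm_mem hπ) (permO_e π ⟨0, hn⟩) hv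

theorem column_mem (hO : Over M) {g : O F n} (hg : g ∈ M) {j : Fin n} (hj : g.1 (e j) = e j) (l : Fin n) :
    g.1 (e l) ∈ Rof M :=
  map_mem_Rof hO hg hj ((rset_Rof hO).frame l)

theorem three_eq_zero_or (h2 : (2 : F) ≠ 0) {x : F} (hx : x * x = 1) : 2 * (x * x) ≠ 1 := fun h => by
  rw [hx] at h; exact one_ne_zero (show (1 : F) = 0 by linear_combination h)

/-- A starting space. -/
theorem exists_full (hp : (Fintype.card F).Prime) (hO : Over M) (hn : 5 ≤ n) {g : O F n} (hg : g ∈ M)
    {j : Fin n} (hgj : g.1 (e j) = e j) (hgm : g ∉ (Mon : Subgroup (O F n))) :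
    ∃ v ∈ Rof M, ∃ a b : Fin n, a ≠ b ∧ v a ≠ 0 ∧ v b ≠ 0 ∧
      ((3 : F) ≠ 0 → ∃ U : Submodule F (Fin n → F), Full (Rof M) U) := by
  classical
  have h2 := hO.two
  have hR := rset_Rof hO
  -- a vector with two non-zero coordinates which is no root
  obtain ⟨v, hv, a, b, hab, hva, hvb, hz, hnr⟩ : ∃ v ∈ Rof M, ∃ a b : Fin n, a ≠ b ∧ v a ≠ 0 ∧ v b ≠ 0 ∧
      v j = 0 ∧ ((∃ c, c ≠ a ∧ c ≠ b ∧ v c ≠ 0) ∨ v a * v a ≠ v b * v b) := by
    by_contra hno
    push Not at hno
    have hcoord : ∀ q : O F n, q.1 (e j) = e j → ∀ l, l ≠ j → q.1 (e l) j = 0 := fun q hq l hl => by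
      rw [← dot_e (q.1 (e l)) j]
      conv_lhs => rw [← hq]
      rw [dot_isom h2, dot_e, e_ne (Ne.symm hl)]
    have hroot : ∀ v ∈ Rof M, v j = 0 → ∀ a b, a ≠ b → v a ≠ 0 → v b ≠ 0 →
        (∀ c, c ≠ a → c ≠ b → v c = 0) ∧ v a * v a = v b * v b :=
      fun v hv hz a b hab hva hvb => hno v hv a b hab hva hvb hz
    obtain ⟨a, ha⟩ : ∃ a, ∀ (l : Fin n) (c : F), g.1 (e a) ≠ c • e l := by
      by_contra h
      push Not at h
      exact hgm fun i => h i
    have haJ : a ≠ j := fun h => ha a 1 (by rw [one_smul, h]; exact hgj)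
    set u := g.1 (e a) with hu
    have huR : u ∈ Rof M := column_mem hO hg hgj a
    have huz : u j = 0 := hcoord g hgj a haJ
    obtain ⟨i₁, hi₁⟩ : ∃ i, u i ≠ 0 := by
      by_contra h
      push Not at h
      have := huR.1
      rw [show u = 0 from funext h, zero_dotProduct] at this
      exact zero_ne_one this
    obtain ⟨i₂, hi₂, hne⟩ : ∃ i, u i ≠ 0 ∧ i₁ ≠ i := by
      by_contra h
      push Not at h
      exact ha i₁ (u i₁) (eq_smul_e fun j hj => by_contra fun h' => hj (h j h').symm)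
    obtain ⟨huo, -⟩ := hroot u huR huz i₁ i₂ hne hi₁ hi₂
    have hi₁J : i₁ ≠ j := fun h => hi₁ (h.symm ▸ huz)
    have hdot : ∀ l, l ≠ a → u i₁ * g.1 (e l) i₁ + u i₂ * g.1 (e l) i₂ = 0 := by
      intro l hl
      have h := dot_isom h2 g (e a) (e l)
      rw [e_dot_e, if_neg (Ne.symm hl), dotProduct, Finset.sum_eq_add i₁ i₂ hne] at h
      · exact h
      · intro c _ hc
        rw [← hu, huo c hc.1 hc.2, zero_mul]
      · simp
      · simp
    obtain ⟨a', haa', ha'⟩ : ∃ a', a' ≠ a ∧ g.1 (e a') i₁ ≠ 0 := by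
      by_contra h
      push Not at h
      have e1 : (g⁻¹).1 (e i₁) = (g⁻¹).1 (e i₁) a • e a := eq_smul_e fun l hl => by
        rw [inv_coord h2]; exact h l hl
      have e2 := congrArg (fun z => g.1 z i₂) e1
      simp only [apply_inv', map_smul, Pi.smul_apply, smul_eq_mul, e_ne hne.symm, inv_coord h2] at e2
      exact mul_ne_zero hi₁ hi₂ e2.symm
    have ha'J : a' ≠ j := fun h => ha' (by rw [h, hgj, e_ne hi₁J])
    set w := g.1 (e a') with hw
    have hwR : w ∈ Rof M := column_mem hO hg hgj a'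
    have hw2 : w i₂ ≠ 0 := fun h => by
      have := hdot a' haa'
      rw [← hw, h, mul_zero, add_zero] at this
      exact mul_ne_zero hi₁ ha' this
    obtain ⟨hwo, -⟩ := hroot w hwR (hcoord g hgj a' ha'J) i₁ i₂ hne ha' hw2
    have hD : u i₁ * w i₂ - u i₂ * w i₁ ≠ 0 := fun h => by
      have h1 := hdot a' haa'
      rw [← hw] at h1
      have hn1 : u i₁ * u i₁ + u i₂ * u i₂ = 1 := by
        have h := huR.1
        rw [dotProduct, Finset.sum_eq_add i₁ i₂ hne] at h
        · exact h
        · intro c _ hc; rw [huo c hc.1 hc.2, zero_mul]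
        · simp
        · simp
      exact ha' (by linear_combination u i₁ * h1 - u i₂ * h - w i₁ * hn1)
    have hother : ∀ l, l ≠ a → l ≠ a' → g.1 (e l) i₁ = 0 ∧ g.1 (e l) i₂ = 0 := by
      intro l hla hla'
      have h1 := hdot l hla
      have h3 := dot_isom h2 g (e a') (e l)
      rw [e_dot_e, if_neg (Ne.symm hla'), dotProduct, Finset.sum_eq_add i₁ i₂ hne] at h3
      · rw [← hw] at h3
        exact ⟨(mul_eq_zero.1 (show g.1 (e l) i₁ * (u i₁ * w i₂ - u i₂ * w i₁) = 0 by
            linear_combination w i₂ * h1 - u i₂ * h3)).resolve_right hD,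
          (mul_eq_zero.1 (show g.1 (e l) i₂ * (u i₁ * w i₂ - u i₂ * w i₁) = 0 by
            linear_combination u i₁ * h3 - w i₁ * h1)).resolve_right hD⟩
      · intro c _ hc; rw [← hw, hwo c hc.1 hc.2, zero_mul]
      · simp
      · simp
    obtain ⟨d, hd, hd'⟩ := Finset.exists_mem_notMem_of_card_lt_card
      (show (({j} : Finset (Fin n)) ∪ {a, a'}).card < (Finset.univ : Finset (Fin n)).card by
        have := Finset.card_union_le ({j} : Finset (Fin n)) {a, a'}
        have : ({j} : Finset (Fin n)).card = 1 := Finset.card_singleton j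
        have : ({a, a'} : Finset (Fin n)).card ≤ 2 := Finset.card_le_two
        rw [Finset.card_univ, Fintype.card_fin]; omega)
    simp only [Finset.mem_union, Finset.mem_insert, Finset.mem_singleton, not_or] at hd'
    obtain ⟨hdJ, hda, hda'⟩ := hd'
    set T : O F n := permO (cyc a a' d)
    set X : O F n := g * T * g⁻¹ with hX
    have hXM : X ∈ M := M.mul_mem (M.mul_mem hg (hO.perm_mem (sign_cyc haa'.symm (Ne.symm hda')))) (M.inv_mem hg)
    have hginv : (g⁻¹).1 (e j) = e j := by conv_lhs => rw [← hgj, inv_apply']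
    have hXJ : X.1 (e j) = e j := by
      rw [hX, mul_apply', mul_apply', hginv, permO_e,
        cyc_of_ne (Ne.symm haJ) (Ne.symm ha'J) (Ne.symm hdJ), hgj]
    have hXe : X.1 (e i₁) = u i₁ • w + w i₁ • g.1 (e d) := by
      have e1 : (g⁻¹).1 (e i₁) = u i₁ • e a + w i₁ • e a' := by
        funext l
        rw [inv_coord h2, Pi.add_apply, Pi.smul_apply, Pi.smul_apply]
        rcases eq_or_ne l a with rfl | hla
        · simp [← hu, e_same, e_ne haa'.symm]
        rcases eq_or_ne l a' with rfl | hla'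
        · simp [← hw, e_same, e_ne hla]
        · rw [(hother l hla hla').1]; simp [e_ne hla, e_ne hla']
      rw [hX, mul_apply', mul_apply', e1]
      simp only [map_add, map_smul, T, permO_e, cyc_left haa'.symm (Ne.symm hda),
        cyc_mid (Ne.symm hda) (Ne.symm hda'), ← hw]
    set x := X.1 (e i₁) with hx
    have hxR : x ∈ Rof M := column_mem hO hXM hXJ i₁
    have hxz : x j = 0 := hcoord X hXJ i₁ hi₁J
    obtain ⟨hd1, hd2⟩ := hother d hda hda'
    obtain ⟨i₃, hi₃⟩ : ∃ i, g.1 (e d) i ≠ 0 := by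
      by_contra h
      push Not at h
      have := (column_mem hO hg hgj d).1
      rw [show g.1 (e d) = 0 from funext h, zero_dotProduct] at this
      exact zero_ne_one this
    have h31 : i₃ ≠ i₁ := fun h => hi₃ (h ▸ hd1)
    have h32 : i₃ ≠ i₂ := fun h => hi₃ (h ▸ hd2)
    have hx1 : x i₁ ≠ 0 := by
      rw [hXe, Pi.add_apply, Pi.smul_apply, Pi.smul_apply, hd1, smul_zero, add_zero, smul_eq_mul]
      exact mul_ne_zero hi₁ ha'
    have hx2 : x i₂ ≠ 0 := by
      rw [hXe, Pi.add_apply, Pi.smul_apply, Pi.smul_apply, hd2, smul_zero, add_zero, smul_eq_mul]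
      exact mul_ne_zero hi₁ hw2
    have hx3 : x i₃ ≠ 0 := by
      rw [hXe, Pi.add_apply, Pi.smul_apply, Pi.smul_apply, hwo i₃ h31 h32, smul_zero, zero_add, smul_eq_mul]
      exact mul_ne_zero ha' hi₃
    exact hx3 ((hroot x hxR hxz i₁ i₂ hne hx1 hx2).1 i₃ h31 h32)
  refine ⟨v, hv, a, b, hab, hva, hvb, fun h3 => ?_⟩
  by_cases hA : ∀ i, v i ≠ 0 → 2 * (v i * v i) = 1
  · obtain ⟨d, hda, hdb, hvd⟩ := hnr.resolve_right (fun h => h (mul_left_cancel₀ h2 ((hA a hva).trans (hA b hvb).symm)))
    have hw : (refl (std F n) v).1 (e a) ∈ Rof M := hR.closed v hv _ (hR.frame a)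
    have hco : ∀ i, i ≠ a → (refl (std F n) v).1 (e a) i = -2 * v a * v i := fun i hi => by
      rw [refl_unit h2 hv.1, dot_e]
      simp [e_ne hi]
    have hb : (refl (std F n) v).1 (e a) b ≠ 0 := by
      rw [hco b hab.symm]; exact mul_ne_zero (mul_ne_zero (neg_ne_zero.2 h2) hva) hvb
    have hd : (refl (std F n) v).1 (e a) d ≠ 0 := by
      rw [hco d hda]; exact mul_ne_zero (mul_ne_zero (neg_ne_zero.2 h2) hva) hvd
    have hb1 : (refl (std F n) v).1 (e a) b * (refl (std F n) v).1 (e a) b = 1 := by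
      rw [hco b hab.symm]
      linear_combination (2 * (v b * v b)) * (hA a hva) + hA b hvb
    exact full_of_isotropic hp h2 hR hw hb1 hdb hd
  push Not at hA
  obtain ⟨i, hi, hih⟩ := hA
  obtain ⟨k, hki, hk⟩ : ∃ k, k ≠ i ∧ v k ≠ 0 := by
    rcases eq_or_ne a i with rfl | hai
    exacts [⟨b, hab.symm, hvb⟩, ⟨a, hai, hva⟩]
  by_cases h1 : ∃ l, v l * v l = 1
  · obtain ⟨l, hl⟩ := h1
    obtain ⟨m, hml, hm⟩ : ∃ m, m ≠ l ∧ v m ≠ 0 := by
      rcases eq_or_ne a l with rfl | hal
      exacts [⟨b, hab.symm, hvb⟩, ⟨a, hal, hva⟩]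
    exact full_of_isotropic hp h2 hR hv hl hml hm
  push Not at h1
  set Z := Finset.univ.filter fun l => v l = 0 with hZ
  have hjZ : j ∈ Z := by simp [hZ, hz]
  by_cases hZ3 : 3 ≤ Z.card
  · obtain ⟨W, hW, hW3⟩ := Finset.exists_subset_card_eq hZ3
    obtain ⟨c, l, m, hcl, hcm, hlm, rfl⟩ := Finset.card_eq_three.1 hW3
    have hzero : ∀ x, x ∈ ({c, l, m} : Finset (Fin n)) → v x = 0 := fun x hx => by simpa [hZ] using hW hx
    have hcz := hzero c (by simp)
    have hlz := hzero l (by simp)
    have hmz := hzero m (by simp)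
    exact full_of_general hp h2 hR hv hi hih (h1 i) hcz (by rw [hlz, hmz])
      (fun h => hi (h ▸ hlz)) (fun h => hi (h ▸ hmz)) hcl hcm hlm
  -- at least three non-zero coordinates
  set S := Finset.univ.filter fun l => v l ≠ 0 with hS
  have hZS : Z.card + S.card = n := by
    rw [hZ, hS, Finset.card_filter_add_card_filter_not, Finset.card_univ, Fintype.card_fin]
  have hS3 : 3 ≤ S.card := by omega
  have hsumS : ∑ l ∈ S, v l * v l = 1 := by
    rw [Finset.sum_subset (Finset.subset_univ S) fun l _ hl => by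
      rw [show v l = 0 from by_contra fun h => hl (by simp [hS, h]), zero_mul]]
    exact hR.unit v hv
  have hmemS : ∀ l, l ∈ S ↔ v l ≠ 0 := fun l => by simp [hS]
  -- the exceptional shapes on three coordinates
  have hquarter : ∀ x ∈ S, ∀ y ∈ S, ∀ z ∈ S, x ≠ y → x ≠ z → y ≠ z → S.card = 3 → 4 * (v x * v x) = 1 →
      (2 * (v z * v z) = 1 ∨ ((5 : F) ≠ 0 ∧ 16 * (v z * v z * (v z * v z)) - 12 * (v z * v z) + 1 = 0)) →
      ∃ U : Submodule F (Fin n → F), Full (Rof M) U := by
    intro x hx y hy z hz' hxy hxz hyz hS3' hq hgd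
    have hSeq : ({x, y, z} : Finset (Fin n)) = S := by
      refine Finset.eq_of_subset_of_card_le ?_ ?_
      · intro t ht
        simp only [Finset.mem_insert, Finset.mem_singleton] at ht
        rcases ht with rfl | rfl | rfl <;> assumption
      · rw [hS3', Finset.card_eq_three.2 ⟨x, y, z, hxy, hxz, hyz, rfl⟩]
    obtain ⟨z₁, hz₁, z₂, hz₂, hz12⟩ := Finset.one_lt_card.1 (show 1 < Z.card by omega)
    have hout : ∀ t ∈ Z, t ≠ x ∧ t ≠ y ∧ t ≠ z := fun t ht => by
      have h0 : v t = 0 := (Finset.mem_filter.1 ht).2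
      exact ⟨fun e' => (hmemS x).1 hx (e' ▸ h0), fun e' => (hmemS y).1 hy (e' ▸ h0),
        fun e' => (hmemS z).1 hz' (e' ▸ h0)⟩
    refine full_of_quarter hp h2 h3 hR hv hxy hxz hyz hz12 (fun t t1 t2 t3 => ?_) (hout _ hz₁) (hout _ hz₂) hq
      ((hmemS y).1 hy) ((hmemS z).1 hz') hgd
    by_contra ht
    have := (hmemS t).2 ht
    rw [← hSeq] at this
    simp [t1, t2, t3] at this
  by_cases hpair : ∃ l ∈ S, ∃ m ∈ S, l ≠ m ∧ v l * v l = v m * v m
  · obtain ⟨l, hl, m, hm, hlm, hsq⟩ := hpair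
    by_cases hbad : S.card = 3 ∧ ∀ x ∈ S, x ≠ l → x ≠ m → 2 * (v x * v x) = 1
    · obtain ⟨hS3', hex⟩ := hbad
      obtain ⟨x, hx, hx'⟩ := Finset.exists_mem_notMem_of_card_lt_card (show ({l, m} : Finset (Fin n)).card < S.card by
        rw [Finset.card_pair hlm, hS3']; norm_num)
      simp only [Finset.mem_insert, Finset.mem_singleton, not_or] at hx'
      have hxh := hex x hx hx'.1 hx'.2
      have hSeq : ({l, m, x} : Finset (Fin n)) = S := by
        refine Finset.eq_of_subset_of_card_le ?_ ?_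
        · intro t ht
          simp only [Finset.mem_insert, Finset.mem_singleton] at ht
          rcases ht with rfl | rfl | rfl <;> assumption
        · rw [hS3', Finset.card_eq_three.2 ⟨l, m, x, hlm, Ne.symm hx'.1, Ne.symm hx'.2, rfl⟩]
      have hs := hsumS
      rw [← hSeq, Finset.sum_insert (by simp [hlm, Ne.symm hx'.1]), Finset.sum_pair (Ne.symm hx'.2), ← hsq] at hs
      exact hquarter l hl m hm x hx hlm (Ne.symm hx'.1) (Ne.symm hx'.2) hS3'
        (by linear_combination 2 * hs - hxh) (Or.inl hxh)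
    obtain ⟨i', l', m', hi'S, hi'h, hl'S, hm'S, hli, hmi, hlm', hsq'⟩ : ∃ i' l' m', i' ∈ S ∧
        2 * (v i' * v i') ≠ 1 ∧ l' ∈ S ∧ m' ∈ S ∧ l' ≠ i' ∧ m' ≠ i' ∧ l' ≠ m' ∧ v l' * v l' = v m' * v m' := by
      by_cases hex : ∃ x ∈ S, x ≠ l ∧ x ≠ m ∧ 2 * (v x * v x) ≠ 1
      · obtain ⟨x, hx, hxl, hxm, hxh⟩ := hex
        exact ⟨x, l, m, hx, hxh, hl, hm, hxl.symm, hxm.symm, hlm, hsq⟩
      · push Not at hex
        rcases (show S.card = 3 ∨ 4 ≤ S.card by omega) with hS3' | hS4
        · exact absurd ⟨hS3', hex⟩ hbad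
        obtain ⟨p, hp', q, hq, hpq⟩ := Finset.one_lt_card.1 (show 1 < (S \ {l, m}).card by
          have := Finset.le_card_sdiff {l, m} S
          have : ({l, m} : Finset (Fin n)).card ≤ 2 := Finset.card_le_two
          omega)
        simp only [Finset.mem_sdiff, Finset.mem_insert, Finset.mem_singleton, not_or] at hp' hq
        have hp2 := hex p hp'.1 hp'.2.1 hp'.2.2
        have hq2 := hex q hq.1 hq.2.1 hq.2.2
        refine ⟨i, p, q, (hmemS i).2 hi, hih, hp'.1, hq.1, fun h => hih (h ▸ hp2), fun h => hih (h ▸ hq2), hpq,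
          mul_left_cancel₀ h2 (hp2.trans hq2.symm)⟩
    exact full_of_general hp h2 hR hv ((hmemS i').1 hi'S) hi'h (h1 i') hz hsq' hli hmi
      (fun h => (hmemS l').1 hl'S (h ▸ hz)) (fun h => (hmemS m').1 hm'S (h ▸ hz)) hlm'
  push Not at hpair
  have hinj : Set.InjOn (fun l => v l * v l) S := fun x hx y hy hxy => by
    by_contra hne
    exact hpair x hx y hy hne hxy
  have h4 : (4 : F) ≠ 0 := fun h => mul_ne_zero h2 h2 (by linear_combination h)
  by_cases hex : ∃ i' ∈ S, 2 * (v i' * v i') ≠ 1 ∧ 4 * (v i' * v i') ≠ 1 ∧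
      16 * (v i' * v i' * (v i' * v i')) - 12 * (v i' * v i') + 1 ≠ 0
  swap
  · -- every square is a half, a quarter or one of two roots
    have hno := hex
    push Not at hno
    set bad := S.image fun l => v l * v l with hbad
    have hcard : bad.card = S.card := Finset.card_image_of_injOn hinj
    set P := bad.filter fun s => 16 * (s * s) - 12 * s + 1 = 0 with hP
    have hP2 : P.card ≤ 2 := by
      by_contra h
      obtain ⟨Q, hQ, hQ3⟩ := Finset.exists_subset_card_eq (show 3 ≤ P.card by omega)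
      obtain ⟨r, s, t, hrs, hrt, hst, rfl⟩ := Finset.card_eq_three.1 hQ3
      have er := (Finset.mem_filter.1 (hQ (show r ∈ ({r, s, t} : Finset F) by simp))).2
      have es := (Finset.mem_filter.1 (hQ (show s ∈ ({r, s, t} : Finset F) by simp))).2
      have et := (Finset.mem_filter.1 (hQ (show t ∈ ({r, s, t} : Finset F) by simp))).2
      have e1 : 4 * (r + s) - 3 = 0 := (mul_eq_zero.1 (show (4 * (r - s)) * (4 * (r + s) - 3) = 0 by
        linear_combination er - es)).resolve_left (mul_ne_zero h4 (sub_ne_zero.2 hrs))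
      have e2 : 4 * (r + t) - 3 = 0 := (mul_eq_zero.1 (show (4 * (r - t)) * (4 * (r + t) - 3) = 0 by
        linear_combination er - et)).resolve_left (mul_ne_zero h4 (sub_ne_zero.2 hrt))
      exact hst (mul_left_cancel₀ h4 (by linear_combination e1 - e2))
    have hsub : bad ⊆ P ∪ {1 / 2, 1 / 4} := by
      intro s hs
      obtain ⟨l, hl, rfl⟩ := Finset.mem_image.1 hs
      simp only [Finset.mem_union, Finset.mem_insert, Finset.mem_singleton]
      by_cases ha : 2 * (v l * v l) = 1
      · exact Or.inr (Or.inl (by rw [eq_div_iff h2]; linear_combination ha))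
      by_cases hb : 4 * (v l * v l) = 1
      · exact Or.inr (Or.inr (by rw [eq_div_iff h4]; linear_combination hb))
      exact Or.inl (Finset.mem_filter.2 ⟨hs, hno l hl ha hb⟩)
    have hsum : ∑ s ∈ bad, s = 1 := by
      rw [hbad, Finset.sum_image hinj]; exact hsumS
    have hPsum : P.card = 2 → 4 * ∑ s ∈ P, s = 3 := by
      intro h
      obtain ⟨r, s, hrs, hP'⟩ := Finset.card_eq_two.1 h
      have er := (Finset.mem_filter.1 (show r ∈ P by rw [hP']; simp)).2
      have es := (Finset.mem_filter.1 (show s ∈ P by rw [hP']; simp)).2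
      rw [hP', Finset.sum_pair hrs]
      have := (mul_eq_zero.1 (show (4 * (r - s)) * (4 * (r + s) - 3) = 0 by
        linear_combination er - es)).resolve_left (mul_ne_zero h4 (sub_ne_zero.2 hrs))
      linear_combination this
    have hfull' : ∀ E : Finset F, bad ⊆ P ∪ E → E.card + 2 ≤ bad.card →
        P.card = 2 ∧ ∑ s ∈ bad, s = ∑ s ∈ P, s + ∑ s ∈ E, s := by
      intro E hsE hE
      have e1 := Finset.card_le_card hsE
      have e2 := Finset.card_union_add_card_inter P E
      have hdis : Disjoint P E := Finset.disjoint_iff_inter_eq_empty.2 (Finset.card_eq_zero.1 (by omega))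
      exact ⟨by omega, by rw [Finset.eq_of_subset_of_card_le hsE (by omega), Finset.sum_union hdis]⟩
    have hhq : (1 / 2 : F) ≠ 1 / 4 := fun h => h2 (by
      field_simp at h
      linear_combination h)
    by_cases hS4 : 4 ≤ S.card
    · exfalso
      obtain ⟨hP2', hsum'⟩ := hfull' {1 / 2, 1 / 4} hsub (by rw [Finset.card_pair hhq, hcard]; omega)
      rw [hsum, Finset.sum_pair hhq] at hsum'
      have := hPsum hP2'
      have e4 : (4 : F) * (1 / 2) = 2 := by field_simp; ring
      have e5 : (4 : F) * (1 / 4) = 1 := by field_simp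
      exact h2 (by linear_combination -4 * hsum' - this - e4 - e5)
    have hS3' : S.card = 3 := by omega
    obtain ⟨x, hx, hxq⟩ : ∃ x ∈ S, 4 * (v x * v x) = 1 := by
      by_contra hnq
      push Not at hnq
      have hsub' : bad ⊆ P ∪ {1 / 2} := fun s hs => by
        have h' := hsub hs
        simp only [Finset.mem_union, Finset.mem_insert, Finset.mem_singleton] at h' ⊢
        rcases h' with h' | h' | h'
        · exact Or.inl h'
        · exact Or.inr h'
        · exfalso
          obtain ⟨l, hl, rfl⟩ := Finset.mem_image.1 hs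
          refine hnq l hl ?_
          rw [h', mul_one_div, div_self h4]
      obtain ⟨hP2', hsum'⟩ := hfull' {1 / 2} hsub' (by rw [Finset.card_singleton, hcard, hS3'])
      rw [hsum, Finset.sum_singleton] at hsum'
      have := hPsum hP2'
      have e4 : (4 : F) * (1 / 2) = 2 := by field_simp; ring
      exact one_ne_zero (show (1 : F) = 0 by linear_combination -4 * hsum' - this - e4)
    obtain ⟨y, hy, z, hz', hyz⟩ := Finset.one_lt_card.1 (show 1 < (S.erase x).card by
      rw [Finset.card_erase_of_mem hx]; omega)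
    obtain ⟨hyx, hyS⟩ := Finset.mem_erase.1 hy
    obtain ⟨hzx, hzS⟩ := Finset.mem_erase.1 hz'
    by_cases hzh : 2 * (v z * v z) = 1
    · exact hquarter x hx y hyS z hzS hyx.symm hzx.symm hyz hS3' hxq (Or.inl hzh)
    by_cases hyh : 2 * (v y * v y) = 1
    · exact hquarter x hx z hzS y hyS hzx.symm hyx.symm hyz.symm hS3' hxq (Or.inl hyh)
    have hny : 4 * (v y * v y) ≠ 1 := fun h => hpair x hx y hyS hyx.symm (mul_left_cancel₀ h4 (hxq.trans h.symm))
    have hnz : 4 * (v z * v z) ≠ 1 := fun h => hpair x hx z hzS hzx.symm (mul_left_cancel₀ h4 (hxq.trans h.symm))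
    have ry := hno y hyS hyh hny
    have rz := hno z hzS hzh hnz
    refine hquarter x hx y hyS z hzS hyx.symm hzx.symm hyz hS3' hxq (Or.inr ⟨fun h5 => ?_, rz⟩)
    have e1 : ∀ r : F, 16 * (r * r) - 12 * r + 1 = 0 → r = 1 := fun r hr => by
      refine sub_eq_zero.1 (mul_self_eq_zero.1 ?_)
      linear_combination hr - (3 * (r * r) - 2 * r) * h5
    exact hpair y hyS z hzS hyz ((e1 _ ry).trans (e1 _ rz).symm)
  obtain ⟨i', hi', hgood⟩ := hex
  obtain ⟨k', hk', hki', hxy⟩ : ∃ k' ∈ S, k' ≠ i' ∧ v i' * v i' + v k' * v k' ≠ 1 := by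
    by_contra hno
    push Not at hno
    obtain ⟨p, hp', q, hq, hpq⟩ := Finset.one_lt_card.1 (show 1 < (S.erase i').card by
      rw [Finset.card_erase_of_mem hi']; omega)
    obtain ⟨hpi, hpS⟩ := Finset.mem_erase.1 hp'
    obtain ⟨hqi, hqS⟩ := Finset.mem_erase.1 hq
    exact hpair p hpS q hqS hpq (add_left_cancel ((hno p hpS hpi).trans (hno q hqS hqi).symm))
  exact full_of_pair hp h2 hR hv hki'.symm ((hmemS i').1 hi') ((hmemS k').1 hk') hgood.1 hgood.2.1 hgood.2.2 hxy

/-- Everything in `Ω` once all unit vectors are in `R`. -/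
theorem commutator_le_of_units (hO : Over M) (hn : 2 ≤ n) (hall : ∀ x : Fin n → F, x ⬝ᵥ x = 1 → x ∈ Rof M)
    {δ : F} (hδ : ¬IsSquare δ)
    (htr : ∀ x y : Fin n → F, x ⬝ᵥ x = δ → y ⬝ᵥ y = δ → ∃ h ∈ Ks (Rof M) ⊤, h.1 x = y) :
    commutator (O F n) ≤ M := by
  classical
  have h2 := hO.two
  let K : Subgroup (O F n) := Ks (Rof M) ⊤
  have hKgen : ∀ v : Fin n → F, v ⬝ᵥ v = 1 → refl (std F n) v ∈ K := fun v hv =>
    refl_mem_Ks (hall v hv) Submodule.mem_top
  haveI hKn : K.Normal := ⟨fun h hh g => by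
    induction hh using Subgroup.closure_induction with
    | mem z hz =>
      obtain ⟨v, ⟨hv, -⟩, rfl⟩ := hz
      rw [conj_refl]
      exact hKgen _ (by rw [std_map]; exact hv.1)
    | one => simp
    | mul x y _ _ hx hy => rw [show g * (x * y) * g⁻¹ = g * x * g⁻¹ * (g * y * g⁻¹) by group]; exact mul_mem hx hy
    | inv x _ hx => rw [show g * x⁻¹ * g⁻¹ = (g * x * g⁻¹)⁻¹ by group]; exact inv_mem hx⟩
  let i₀ : Fin n := ⟨0, by omega⟩
  let i₁ : Fin n := ⟨1, by omega⟩
  obtain ⟨α, β, hab⟩ := exists_rep h2 (A := (1 : F)) (B := 1) one_ne_zero one_ne_zero δ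
  set a₀ : Fin n → F := α • e i₀ + β • e i₁ with ha₀
  have h01 : i₀ ≠ i₁ := by simp [i₀, i₁, Fin.ext_iff]
  have ha₀δ : a₀ ⬝ᵥ a₀ = δ := by
    simp only [ha₀, add_dotProduct, dotProduct_add, smul_dotProduct, dotProduct_smul, smul_eq_mul, e_dot_e,
      if_true, if_neg h01, if_neg h01.symm]
    linear_combination hab
  let π := QuotientGroup.mk' K
  have hπ : ∀ g : O F n, π g ∈ Subgroup.zpowers (π (refl (std F n) a₀)) := by
    intro g
    have hg : g ∈ reflGroup (std F n) := by
      rw [reflGroup_eq_top (std_nondeg h2) (good_of_two_ne h2)]; trivial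
    induction hg using Subgroup.closure_induction with
    | mem z hz =>
      obtain ⟨a, rfl⟩ := hz
      have hK1 : ∀ k : O F n, k ∈ K → π k = 1 := fun k hk => (QuotientGroup.eq_one_iff k).2 hk
      by_cases ha : a ⬝ᵥ a = 0
      · have : refl (std F n) a = 1 := Subtype.ext (LinearEquiv.ext fun v => by
          rw [refl_std h2, ha]; simp [one_apply'])
        rw [this, map_one]; exact one_mem _
      by_cases hs : IsSquare (a ⬝ᵥ a)
      · obtain ⟨r, hr⟩ := hs
        have hr0 : r ≠ 0 := fun h => ha (by rw [hr, h, mul_zero])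
        have hu : (r⁻¹ • a) ⬝ᵥ (r⁻¹ • a) = 1 := by
          rw [smul_dotProduct, dotProduct_smul, hr, smul_eq_mul, smul_eq_mul]; field_simp
        rw [← refl_smul (std F n) (inv_ne_zero hr0) a, hK1 _ (hKgen _ hu)]
        exact one_mem _
      · obtain ⟨r, hr⟩ : IsSquare (δ / (a ⬝ᵥ a)) := by
          by_contra h'
          have h1 := (quadraticChar_neg_one_iff_not_isSquare (F := F)).2 h'
          have hν' := (quadraticChar_neg_one_iff_not_isSquare (F := F)).2 hδ
          have hinv : quadraticChar F (a ⬝ᵥ a)⁻¹ = -1 := by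
            rw [quadraticChar_neg_one_iff_not_isSquare, isSquare_inv]; exact hs
          rw [div_eq_mul_inv, map_mul, hν', hinv] at h1
          norm_num at h1
        have hr0 : r ≠ 0 := fun h => by
          rw [h, mul_zero, div_eq_zero_iff] at hr
          rcases hr with hr | hr
          · exact hδ (hr ▸ IsSquare.zero)
          · exact ha hr
        obtain ⟨h, hh, he⟩ := htr a₀ (r • a) ha₀δ (by
          rw [smul_dotProduct, dotProduct_smul, smul_eq_mul, smul_eq_mul, ← mul_assoc, ← hr, div_mul_cancel₀ _ ha])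
        rw [← refl_smul (std F n) hr0 a, ← he, ← conj_refl, map_mul, map_mul, hK1 h hh, one_mul, map_inv, hK1 h hh,
          inv_one, mul_one]
        exact Subgroup.mem_zpowers _
    | one => rw [map_one]; exact one_mem _
    | mul x y _ _ hx hy => rw [map_mul]; exact mul_mem hx hy
    | inv x _ hx => rw [map_inv]; exact inv_mem hx
  have hle : commutator (O F n) ≤ K := by
    rw [commutator_def, Subgroup.commutator_le]
    intro p _ q _
    rw [← QuotientGroup.eq_one_iff]
    obtain ⟨s, hs⟩ := Subgroup.mem_zpowers_iff.1 (hπ p)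
    obtain ⟨t, ht⟩ := Subgroup.mem_zpowers_iff.1 (hπ q)
    show π ⁅p, q⁆ = 1
    rw [map_commutatorElement, ← hs, ← ht, commutatorElement_eq_one_iff_commute]
    exact Commute.zpow_zpow (Commute.refl _) s t
  intro y hy
  -- even products
  set r₀ := refl (std F n) (e i₀) with hr₀
  let L : Subgroup (O F n) := Subgroup.closure ((fun v => refl (std F n) v * r₀) '' {v | v ⬝ᵥ v = 1})
  have hLM : L ≤ M := (Subgroup.closure_le _).2 (by rintro _ ⟨v, hv, rfl⟩; exact (hall v hv).2 i₀)
  have hLnorm : ∀ z ∈ L, r₀ * z * r₀ ∈ L := by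
    intro z hz
    induction hz using Subgroup.closure_induction with
    | mem z hz =>
      have := inv_mem (Subgroup.subset_closure hz : z ∈ L)
      obtain ⟨v, hv, rfl⟩ := hz
      rw [_root_.mul_inv_rev, refl_inv, refl_inv] at this
      convert this using 1
      rw [hr₀, mul_assoc, mul_assoc, refl_mul_self, mul_one]
    | one => rw [mul_one, hr₀, refl_mul_self]; exact one_mem _
    | mul x y _ _ hx hy =>
      have := mul_mem hx hy
      rwa [show r₀ * x * r₀ * (r₀ * y * r₀) = r₀ * x * (r₀ * r₀) * y * r₀ by group, hr₀, refl_mul_self, mul_one,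
        ← hr₀, mul_assoc r₀ x y] at this
    | inv x _ hx =>
      have := inv_mem hx
      rwa [_root_.mul_inv_rev, _root_.mul_inv_rev, hr₀, refl_inv, ← hr₀, ← mul_assoc] at this
  let P : Submonoid (O F n) :=
  { carrier := {z | z ∈ L ∨ z * r₀ ∈ L}
    one_mem' := Or.inl L.one_mem
    mul_mem' := by
      rintro p q (hp | hp) (hq | hq)
      · exact Or.inl (mul_mem hp hq)
      · exact Or.inr (by rw [mul_assoc]; exact mul_mem hp hq)
      · refine Or.inr ?_
        have := mul_mem hp (hLnorm q hq)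
        rwa [show p * r₀ * (r₀ * q * r₀) = p * (r₀ * r₀) * q * r₀ by group, hr₀, refl_mul_self, mul_one, ← hr₀,
          mul_assoc p] at this
      · refine Or.inl ?_
        have := mul_mem hp (hLnorm _ hq)
        rwa [show p * r₀ * (r₀ * (q * r₀) * r₀) = p * (r₀ * r₀) * q * (r₀ * r₀) by group, hr₀, refl_mul_self,
          mul_one, mul_one] at this }
  have hP : y ∈ P := by
    have hsub : Submonoid.closure (refl (std F n) '' {v | v ∈ Rof M ∧ v ∈ (⊤ : Submodule F (Fin n → F))}) ≤ P := by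
      rw [Submonoid.closure_le]
      rintro _ ⟨v, ⟨hv, -⟩, rfl⟩
      exact Or.inr (Subgroup.subset_closure ⟨v, hv.1, rfl⟩)
    refine hsub ?_
    rw [← Subgroup.closure_toSubmonoid_of_finite]
    exact hle hy
  rcases hP with h | h
  · exact hLM h
  · exfalso
    have h1 := det'_commutator (hO.le (hLM h))
    rw [map_mul, det'_commutator hy, one_mul] at h1
    have h4 := det'_refl (F := F) (a := e i₀) (by rw [std_e]; exact one_ne_zero)
    rw [← hr₀, h1, Units.val_one] at h4
    exact h2 (by linear_combination h4)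

/-- An overgroup with an element outside `Mon` fixing a frame vector is `Ω`. -/
theorem commutator_le_of_fix (hp : (Fintype.card F).Prime) (hO : Over M) (hn : 5 ≤ n) {h : O F n} (hh : h ∈ M)
    {j : Fin n} (hhj : h.1 (e j) = e j) (hhm : h ∉ (Mon : Subgroup (O F n))) : commutator (O F n) ≤ M := by
  classical
  have h2 := hO.two
  obtain ⟨v, hv, a, b, hab, hva, hvb, hfull⟩ := exists_full hp hO hn hh hhj hhm
  have hR := rset_Rof hO
  by_cases h3 : (3 : F) = 0
  · have hv2 : 2 ≤ (supp v).card :=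
      Finset.one_lt_card.2 ⟨a, mem_supp.2 hva, b, mem_supp.2 hvb, hab⟩
    have hall := units_three hp h2 h3 hn hR hv hv2
    refine commutator_le_of_units hO (by omega) hall (δ := 2) ?_ fun x y hx hy => trans_three hp h2 h3 hn hR hall hx hy
    rintro ⟨r, hr⟩
    rcases eq_or_ne r 0 with rfl | hr0
    · exact h2 (by rw [hr, mul_zero])
    · rw [sq_eq_one_of_three hp h3 hr0] at hr
      exact one_ne_zero (show (1 : F) = 0 by linear_combination hr)
  · obtain ⟨U, hU⟩ := hfull h3
    have htop := full_top h2 h3 (by omega) hR hv hab hva hvb hU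
    obtain ⟨δ, hδ⟩ := FiniteField.exists_nonsquare (F := F)
      (by intro h; haveI := ringChar.of_eq h; exact h2 (CharP.cast_eq_zero F 2))
    exact commutator_le_of_units hO (by omega) (fun x hx => htop.unit_mem hR Submodule.mem_top hx) hδ fun x y hx hy =>
      htop.trans x Submodule.mem_top y Submodule.mem_top (hx.trans hy.symm)
        (by rw [hx]; exact fun h => hδ (h ▸ IsSquare.zero))

/-- Any overgroup of the monomial group inside `Ω` is `Ω`. -/
theorem commutator_le_of_not_mon (hp : (Fintype.card F).Prime) (h2 : (2 : F) ≠ 0) (hn : 7 ≤ n) (h8 : n ≠ 8)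
    (M : Subgroup (O F n)) (hM : ∀ y ∈ commutator (O F n), y ∈ (Mon : Subgroup (O F n)) → y ∈ M)
    {g : O F n} (hg : g ∈ M) (hgc : g ∈ commutator (O F n)) (hgm : g ∉ (Mon : Subgroup (O F n))) :
    commutator (O F n) ≤ M := by
  classical
  suffices h : commutator (O F n) ≤ M ⊓ commutator (O F n) from fun y hy => (h hy).1
  have hO : Over (M ⊓ commutator (O F n)) := ⟨h2,
    fun S hS => ⟨hM _ (flips_mem_commutator h2 hS) (diag_le_mon (flips_mem_diag S)), flips_mem_commutator h2 hS⟩,
    fun π hπ => ⟨hM _ (permO_mem_commutator h2 hπ) (permO_mem_mon π), permO_mem_commutator h2 hπ⟩, inf_le_right⟩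
  obtain ⟨j, h, hh, hhj, hhm⟩ := exists_one hO hn h8 (g := g) ⟨hg, hgc⟩ hgm
  exact commutator_le_of_fix hp hO (by omega) hh hhj hhm

/-- Some element of `Ω` is not monomial. -/
theorem exists_not_mon (h2 : (2 : F) ≠ 0) (hn : 5 ≤ n) :
    ∃ k ∈ commutator (O F n), k ∉ (Mon : Subgroup (O F n)) := by
  classical
  obtain ⟨α, β, hab⟩ := exists_rep h2 (A := (1 : F)) (B := 1) one_ne_zero one_ne_zero (-1)
  let i : Fin 5 → Fin n := fun k => ⟨k, by omega⟩
  have hi : ∀ a b : Fin 5, i a = i b ↔ a = b := fun a b => by simp [i, Fin.ext_iff]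
  set v : Fin n → F := e (i 0) + α • e (i 1) + β • e (i 2) + e (i 3) with hv
  have hvv : v ⬝ᵥ v = 1 := by
    simp only [hv, add_dotProduct, dotProduct_add, smul_dotProduct, dotProduct_smul, smul_eq_mul, e_dot_e, hi]
    simp
    linear_combination hab
  refine ⟨refl (std F n) v * refl (std F n) (e (i 4)),
    refl_pair_mem_commutator h2 (by rw [std_apply, hvv]) (std_e _), fun hm => ?_⟩
  obtain ⟨j, c, hc⟩ := hm (i 0)
  have e1 : (refl (std F n) v * refl (std F n) (e (i 4))).1 (e (i 0)) = e (i 0) - (2 : F) • v := by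
    have hv0 : v ⬝ᵥ e (i 0) = 1 := by
      simp only [hv, add_dotProduct, smul_dotProduct, smul_eq_mul, e_dot_e, hi]
      simp
    rw [mul_apply', refl_unit h2 (show (e (i 4) : Fin n → F) ⬝ᵥ e (i 4) = 1 by simp [e_dot, e_same]), e_dot_e, if_neg (fun h => absurd ((hi 4 0).1 h) (by decide)), mul_zero, zero_smul,
      sub_zero, refl_unit h2 hvv, hv0, mul_one]
  rw [e1] at hc
  have c0 := congrFun hc (i 0)
  have c3 := congrFun hc (i 3)
  simp [hv, e, Pi.single_apply, hi] at c0 c3
  rcases eq_or_ne j (i 0) with rfl | hj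
  · simp [hi] at c3
    exact h2 (by linear_combination c3)
  · simp [Ne.symm hj] at c0
    exact one_ne_zero (show (1 : F) = 0 by linear_combination -c0)

end

end CfsgLib.Classical.FrameMax
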