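import Cfsg.Prelude.Def_GeometricClasses
import Cfsg.Agent.Lib.Classical.FrameMax.Main
import Cfsg.Agent.Lib.Classical.OrthMaxPair
import Cfsg.Agent.Lib.Classical.OrthCount

/-!
# Stabilisers of orthogonal frames are maximal in `Ω` over prime fields
-/

set_option autoImplicit false
set_option linter.unusedSectionVars false
set_option linter.style.haveILetI false

namespace CfsgLib.Classical.FrameMax

open Module QuadraticMap CfsgLib.Orth CfsgLib.Classical
open scoped MatrixGroups

noncomputable section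

variable {F : Type*} [Field F] [Fintype F]

theorem orthGroup_smul {n : ℕ} (c : F) (hc : c ≠ 0) : orthGroup (c • std F n) = orthGroup (std F n) := by
  ext g
  refine forall_congr' fun v => ?_
  simp only [QuadraticMap.smul_apply, smul_eq_mul]
  exact mul_right_inj' hc

variable {ι : Type} [Fintype ι] [DecidableEq ι] {Qf : (ι → F) → F}

theorem frame_isMaximal (Q : QuadraticForm F (ι → F)) (hQf : ∀ v, Qf v = Q v) (hp : (Fintype.card F).Prime)
    (h2 : (2 : F) ≠ 0) (hn : 7 ≤ Fintype.card ι) (h8 : Fintype.card ι ≠ 8) {t : ℕ} {D : Fin t → Submodule F (ι → F)}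
    (hD : Cfsg.Geo.IsOrthogonalMDecomposition Qf 1 D) :
    Cfsg.Geo.IsMaximalIn (Cfsg.Geo.omegaGL Qf) (Cfsg.Geo.decompositionStabilizer D ⊓ Cfsg.Geo.omegaGL Qf) := by
  classical
  have hpol : ∀ x y, polar Qf x y = polar Q x y := fun x y => by simp [QuadraticMap.polar, hQf]
  have ht2 := hD.decomp.decomp.two_le
  let i₀ : Fin t := ⟨0, by omega⟩
  have hdim := hD.decomp.decomp.finrank_eq
  obtain ⟨b₀, hb₀, hb₀0⟩ := Submodule.exists_mem_ne_zero_of_ne_bot (p := D i₀) fun h => by
    have := hdim i₀; rw [h, finrank_bot] at this; exact zero_ne_one this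
  choose E hE using fun i => hD.isometric i₀ i
  let b : Fin t → ι → F := fun i => (E i ⟨b₀, hb₀⟩ : ι → F)
  have hbD : ∀ i, b i ∈ D i := fun i => (E i ⟨b₀, hb₀⟩).2
  have hb0 : ∀ i, b i ≠ 0 := fun i h => hb₀0 (by
    have : E i ⟨b₀, hb₀⟩ = 0 := Subtype.ext h
    rw [LinearEquiv.map_eq_zero_iff] at this
    exact congrArg Subtype.val this)
  set c := Q b₀ with hcdef
  have hbc : ∀ i, Q (b i) = c := fun i => by rw [← hQf, hE i ⟨b₀, hb₀⟩, hQf]
  have hspan : ∀ i, D i = Submodule.span F {b i} := fun i =>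
    (Submodule.eq_of_le_of_finrank_eq ((Submodule.span_singleton_le_iff_mem _ _).2 (hbD i))
      (by rw [hdim i, finrank_span_singleton (hb0 i)])).symm
  have hmemD : ∀ i x, x ∈ D i → ∃ κ : F, x = κ • b i := fun i x hx => by
    rw [hspan i] at hx
    obtain ⟨κ, hκ⟩ := Submodule.mem_span_singleton.1 hx
    exact ⟨κ, hκ.symm⟩
  have horth : ∀ i j, i ≠ j → polar Q (b i) (b j) = 0 := fun i j hij => by
    rw [← hpol]; exact hD.decomp.orthogonal i j hij _ (hbD i) _ (hbD j)
  have hc : c ≠ 0 := by
    intro h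
    obtain ⟨y, hy, hyx⟩ := (hD.decomp.nondegenerate i₀ (b i₀) (hbD i₀) (hb0 i₀)).1
    obtain ⟨κ, rfl⟩ := hmemD i₀ y hy
    apply hyx
    simp [hpol, polar_smul_l', polar_smul_r', polar_self', hbc, h]
  have hli : LinearIndependent F b := by
    rw [Fintype.linearIndependent_iff]
    intro g hg k
    have := congrArg (QuadraticMap.polarBilin Q (b k)) hg
    rw [map_sum, map_zero, Finset.sum_eq_single k (fun i _ hi => by
      rw [map_smul, polarBilin_apply_apply, horth k i (Ne.symm hi), smul_zero]) (by simp), map_smul,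
      polarBilin_apply_apply, polar_self', hbc] at this
    exact (mul_eq_zero.1 (show g k * (2 * c) = 0 from this)).resolve_right (mul_ne_zero h2 hc)
  have hsp : ⊤ ≤ Submodule.span F (Set.range b) := by
    rw [← hD.decomp.decomp.iSup_eq_top]
    refine iSup_le fun i => ?_
    rw [hspan i]
    exact Submodule.span_mono (by simp)
  let B := Basis.mk hli hsp
  have hB : ∀ i, B i = b i := fun i => by simp [B]
  have htn : t = Fintype.card ι := by
    have := Module.finrank_eq_card_basis B
    rw [Module.finrank_fintype_fun_eq_card, Fintype.card_fin] at this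
    exact this.symm
  have hn' : 7 ≤ t := by omega
  let L : (ι → F) ≃ₗ[F] (Fin t → F) := B.equivFun
  have hLb : ∀ i, L (b i) = e i := fun i => by
    funext j
    rw [← hB i]
    show B.equivFun (B i) j = _
    rw [Basis.equivFun_self]
    rcases eq_or_ne i j with rfl | h
    · simp [e_same]
    · simp [h, e_ne (Ne.symm h)]
  have hiso : ∀ v, (c • std F t) (L v) = Q v := by
    intro v
    refine mul_left_cancel₀ h2 ?_
    rw [← polar_self' Q, QuadraticMap.smul_apply, std_apply, smul_eq_mul]
    conv_rhs => rw [← B.sum_equivFun v, ← polarBilin_apply_apply, map_sum]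
    rw [dotProduct, Finset.mul_sum, Finset.mul_sum]
    refine Finset.sum_congr rfl fun i _ => ?_
    rw [map_smul, map_sum, LinearMap.sum_apply, Finset.sum_eq_single i (fun j _ hj => by
      rw [map_smul, LinearMap.smul_apply, hB, hB, polarBilin_apply_apply, horth j i hj, smul_zero]) (by simp),
      map_smul, LinearMap.smul_apply, polarBilin_apply_apply, hB, polar_self', hbc]
    simp only [smul_eq_mul]
    show _ = B.equivFun v i * (B.equivFun v i * (2 * c))
    ring
  let Φ : orthGroup Q ≃* O F t := (orthGroupCongr L hiso).trans (MulEquiv.subgroupCongr (orthGroup_smul c hc))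
  have hΦ : ∀ g v, (Φ g).1 (L v) = L (g.1 v) := fun g v => by
    show L (g.1 (L.symm (L v))) = _
    rw [L.symm_apply_apply]
  have hmon : ∀ g, orthToGL Q hQf g ∈ Cfsg.Geo.decompositionStabilizer D ↔ Φ g ∈ (Mon : Subgroup (O F t)) := by
    intro g
    rw [orthToGL_mem_decomp]
    constructor
    · rintro ⟨σ, hσ⟩ i
      obtain ⟨κ, hκ⟩ := hmemD (σ i) (g.1 (b i)) (hσ i ▸ Submodule.mem_map_of_mem (hbD i))
      exact ⟨σ i, κ, by rw [← hLb i, hΦ, hκ, map_smul, hLb]⟩
    · intro hg
      refine ⟨permHom ⟨Φ g, hg⟩, fun i => ?_⟩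
      set j := permHom ⟨Φ g, hg⟩ i with hj
      have hspec : (Φ g).1 (e i) = (Φ g).1 (e i) j • e j := img_spec ⟨Φ g, hg⟩ i
      set κ := (Φ g).1 (e i) j with hκ
      have hκ0 : κ ≠ 0 := fun h => by
        have := coord_sq (Φ g) hspec
        rw [h, mul_zero] at this
        exact zero_ne_one this
      have hg' : g.1 (b i) = κ • b j := L.injective (by rw [← hΦ, hLb, map_smul, hLb]; exact hspec)
      rw [hspan i, Submodule.map_span, Set.image_singleton]
      show Submodule.span F {g.1 (b i)} = _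
      rw [hg', hspan j]
      exact Submodule.span_singleton_smul_eq (IsUnit.mk0 κ hκ0) _
  have hcomm : ∀ y, y ∈ commutator (orthGroup Q) ↔ Φ y ∈ commutator (O F t) := by
    have h : (commutator (orthGroup Q)).map Φ.toMonoidHom = commutator (O F t) := by
      rw [commutator_def, Subgroup.map_commutator, Subgroup.map_top_of_surjective _ Φ.surjective, commutator_def]
    intro y
    rw [← h]
    exact (Subgroup.mem_map_iff_mem Φ.injective).symm
  refine omega_isMaximalIn_inf Q hQf _ ?_ fun M hM g hgM hgc hgn => ?_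
  · obtain ⟨k, hk, hk'⟩ := exists_not_mon (F := F) h2 (show 5 ≤ t by omega)
    refine ⟨Φ.symm k, (hcomm _).2 (by rwa [MulEquiv.apply_symm_apply]), fun h => hk' ?_⟩
    have := (hmon _).1 h
    rwa [MulEquiv.apply_symm_apply] at this
  · have := commutator_le_of_not_mon hp h2 hn' (by omega) (M.map Φ.toMonoidHom) (g := Φ g)
      (fun y hy hy' => ⟨Φ.symm y, hM _ ((hcomm _).2 (by rwa [MulEquiv.apply_symm_apply]))
        ((hmon _).2 (by rwa [MulEquiv.apply_symm_apply])), Φ.apply_symm_apply y⟩)
      ⟨g, hgM, rfl⟩ ((hcomm g).1 hgc) (fun h => hgn ((hmon g).2 h))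
    intro y hy
    exact (Subgroup.mem_map_iff_mem Φ.injective).1 (this ((hcomm y).1 hy))

end

end CfsgLib.Classical.FrameMax
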