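import Cfsg.Agent.Lib.Classical.FrameMax.Reduce

/-!
# Pairs of frame vectors with wide images
-/

set_option autoImplicit false
set_option linter.unusedSectionVars false
set_option linter.style.haveILetI false

namespace CfsgLib.Classical.FrameMax

open Module QuadraticMap Matrix CfsgLib.Orth

variable {F : Type*} [Field F] [Fintype F] {n : ℕ} {M : Subgroup (O F n)}

/-- The two-by-two minor of two vectors at two coordinates. -/
def dd (u w : Fin n → F) (i j : Fin n) : F := u i * w j - u j * w i

theorem dd_symm (u w : Fin n → F) (i j : Fin n) : dd u w j i = -dd u w i j := by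
  simp only [dd]; ring

theorem dd_trans {u w : Fin n → F} {i j k : Fin n} (hi : u i ≠ 0 ∨ w i ≠ 0)
    (h1 : dd u w i j = 0) (h2 : dd u w i k = 0) : dd u w j k = 0 := by
  rw [dd] at h1 h2 ⊢
  rcases hi with h | h <;> refine (mul_eq_zero.1 ?_).resolve_left h
  · linear_combination u j * h2 - u k * h1
  · linear_combination w j * h2 - w k * h1

theorem smul_e_coord (c : F) (j d : Fin n) (hd : d ≠ j) : (c • e j : Fin n → F) d = 0 := by
  simp [e_ne hd]

section Step

variable (hO : Over M) (hn : 7 ≤ n)
  (hL : ∀ g ∈ M, ∀ k, g.1 (e k) = e k → g ∈ (Mon : Subgroup (O F n)))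

include hO hn hL

theorem exists_wide [DecidableEq F] (h8 : n ≠ 8) {g : O F n} (hg : g ∈ M) (hgm : g ∉ (Mon : Subgroup (O F n))) :
    ∃ a b, a ≠ b ∧ ∀ i, g.1 (e a) i ≠ 0 ∨ g.1 (e b) i ≠ 0 := by
  classical
  by_contra hno
  push Not at hno
  refine hgm ?_
  -- conjugates of the pairs are monomial
  have hpair : ∀ a b, a ≠ b → g * flips {a, b} * g⁻¹ ∈ (Mon : Subgroup (O F n)) := by
    intro a b hab
    obtain ⟨k, hk⟩ := hno a b hab
    refine hL _ (M.mul_mem (M.mul_mem hg (hO.pair_mem hab)) (M.inv_mem hg)) k ?_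
    rw [mul_apply', mul_apply', fix_of_fix_e (flips {a, b}), apply_inv']
    intro c
    by_cases hc : c ∈ ({a, b} : Finset (Fin n))
    · left
      rw [inv_coord hO.two]
      simp only [Finset.mem_insert, Finset.mem_singleton] at hc
      rcases hc with rfl | rfl
      exacts [hk.1, hk.2]
    · right; rw [flips_e, if_neg hc, one_smul]
  -- all even sign changes
  have hall : ∀ S : Finset (Fin n), Even S.card →
      g * flips S * g⁻¹ ∈ (Mon : Subgroup (O F n)) := by
    intro S
    induction S using Finset.strongInduction with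
    | _ S ih =>
    intro hev
    rcases S.eq_empty_or_nonempty with rfl | ⟨a, ha⟩
    · have : (flips ∅ : O F n) = 1 := ext_e fun i => by
        rw [flips_e, if_neg (Finset.notMem_empty i), one_smul]; rfl
      rw [this, mul_one, mul_inv_cancel]; exact one_mem _
    · obtain ⟨b, hb⟩ : (S.erase a).Nonempty := by
        rw [← Finset.card_pos, Finset.card_erase_of_mem ha]
        obtain ⟨k, hk⟩ := hev
        have := Finset.card_pos.2 ⟨a, ha⟩
        omega
      obtain ⟨hba, hbS⟩ := Finset.mem_erase.1 hb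
      have hsub : ({a, b} : Finset (Fin n)) ⊆ S := by
        simp [Finset.insert_subset_iff, ha, hbS]
      have hss : S \ {a, b} ⊂ S := Finset.sdiff_ssubset hsub ⟨a, by simp⟩
      have hcard : (S \ {a, b}).card + 2 = S.card := by
        rw [← Finset.card_pair hba.symm, Finset.card_sdiff_add_card_eq_card hsub]
      have hsplit : (flips S : O F n) = flips {a, b} * flips (S \ {a, b}) := ext_e fun i => by
        rw [mul_apply', flips_e, flips_e, map_smul, flips_e, smul_smul]
        congr 1
        by_cases h1 : i ∈ ({a, b} : Finset (Fin n))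
        · simp [hsub h1, h1]
        · by_cases h2 : i ∈ S <;> simp [h1, h2, Finset.mem_sdiff]
      rw [hsplit, show g * (flips {a, b} * flips (S \ {a, b})) * g⁻¹ =
        (g * flips {a, b} * g⁻¹) * (g * flips (S \ {a, b}) * g⁻¹) by group]
      refine mul_mem (hpair a b hba.symm) (ih _ hss ?_)
      obtain ⟨k, hk⟩ := hev
      exact ⟨k - 1, by omega⟩
  -- the group of these sign changes and its permutation action
  let E : Subgroup (O F n) :=
  { carrier := {x | ∃ S : Finset (Fin n), Even S.card ∧ x = flips S}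
    one_mem' := ⟨∅, by simp, ext_e fun i => by
      rw [flips_e, if_neg (Finset.notMem_empty i), one_smul]; rfl⟩
    mul_mem' := by
      rintro x y ⟨S, hS', rfl⟩ ⟨T, hT', rfl⟩
      refine ⟨(S \ T) ∪ (T \ S), ?_, ?_⟩
      · rw [Finset.card_union_of_disjoint (Finset.disjoint_left.2 fun x hx hx' =>
          (Finset.mem_sdiff.1 hx).2 (Finset.mem_sdiff.1 hx').1)]
        have h1 := Finset.card_sdiff_add_card_inter S T
        have h2 := Finset.card_sdiff_add_card_inter T S
        rw [Finset.inter_comm T S] at h2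
        obtain ⟨i, hi⟩ := hS'
        obtain ⟨j, hj⟩ := hT'
        exact ⟨i + j - (S ∩ T).card, by omega⟩
      · refine ext_e fun i => ?_
        rw [mul_apply', flips_e, flips_e, map_smul, flips_e, smul_smul]
        congr 1
        by_cases h1 : i ∈ S <;> by_cases h2 : i ∈ T <;> simp [h1, h2]
    inv_mem' := by
      rintro x ⟨S, hS', rfl⟩
      exact ⟨S, hS', flips_inv S⟩ }
  have hEmon : ∀ x : E, g * x.1 * g⁻¹ ∈ (Mon : Subgroup (O F n)) := fun x => by
    obtain ⟨S, hS', hx⟩ := x.2
    rw [hx]; exact hall S hS'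
  let ψ : E →* Equiv.Perm (Fin n) := permHom.comp
    (MonoidHom.mk' (fun x : E => (⟨g * x.1 * g⁻¹, hEmon x⟩ : (Mon : Subgroup (O F n))))
      fun x y => Subtype.ext (by show g * (x.1 * y.1) * g⁻¹ = g * x.1 * g⁻¹ * (g * y.1 * g⁻¹); group))
  have hrange : Nat.card ψ.range * Nat.card ψ.range ≤ 2 ^ n := by
    refine (card_exp_two_sq_le Finset.univ ψ.range ?_ fun _ _ x hx => absurd (Finset.mem_univ x) hx).trans ?_
    · rintro _ ⟨x, rfl⟩
      obtain ⟨S, -, hx⟩ := x.2
      rw [← map_mul, show x * x = 1 from Subtype.ext (by show x.1 * x.1 = 1; rw [hx, flips_self]), map_one]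
    · simp
  let i₀ : Fin n := ⟨0, by omega⟩
  have hEcard : 2 ^ (n - 1) ≤ Nat.card E := by
    rw [show n - 1 = ((Finset.univ : Finset (Fin n)).erase i₀).card by
      rw [Finset.card_erase_of_mem (Finset.mem_univ _), Finset.card_univ, Fintype.card_fin],
      ← Finset.card_powerset, ← Nat.card_eq_finsetCard]
    let φ : Finset (Fin n) → Finset (Fin n) := fun S => if Even S.card then S else insert i₀ S
    have hφ : ∀ S : ↥((Finset.univ : Finset (Fin n)).erase i₀).powerset, flips (φ S.1) ∈ E := fun S => by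
      have hS := Finset.mem_powerset.1 S.2
      have hi : i₀ ∉ S.1 := fun h => (Finset.mem_erase.1 (hS h)).1 rfl
      refine ⟨φ S.1, ?_, rfl⟩
      simp only [φ]
      split_ifs with h
      · exact h
      · rw [Finset.card_insert_of_notMem hi]; exact Nat.even_add_one.2 h
    refine Nat.card_le_card_of_injective (fun S => (⟨_, hφ S⟩ : E)) ?_
    intro S T hST
    have h : (flips (φ S.1) : O F n) = flips (φ T.1) := congrArg Subtype.val hST
    have hmem : ∀ x, x ∈ φ S.1 ↔ x ∈ φ T.1 := fun x => by
      have := congrArg (fun q : O F n => q.1 (e x) x) h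
      simp only [flips_e, Pi.smul_apply, smul_eq_mul, e_same, mul_one] at this
      by_cases h1 : x ∈ φ S.1 <;> by_cases h2 : x ∈ φ T.1 <;> simp [h1, h2] at this ⊢
      · exact hO.two (by linear_combination -this)
      · exact hO.two (by linear_combination this)
    refine Subtype.ext (Finset.ext fun x => ?_)
    rcases eq_or_ne x i₀ with rfl | hx
    · exact iff_of_false (fun h' => (Finset.mem_erase.1 (Finset.mem_powerset.1 S.2 h')).1 rfl)
        (fun h' => (Finset.mem_erase.1 (Finset.mem_powerset.1 T.2 h')).1 rfl)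
    · have := hmem x
      simp only [φ] at this
      split_ifs at this <;> simpa [hx] using this
  have hker : 3 ≤ Nat.card ψ.ker := by
    by_contra hlt
    have hmul : Nat.card E = Nat.card ψ.range * Nat.card ψ.ker := by
      rw [← Nat.card_congr (QuotientGroup.quotientKerEquivRange ψ).toEquiv]
      exact Subgroup.card_eq_card_quotient_mul_card_subgroup _
    have hle : 2 ^ (n - 1) ≤ Nat.card ψ.range * 2 :=
      hEcard.trans (hmul ▸ Nat.mul_le_mul_left _ (by omega))
    have hsq := Nat.mul_le_mul hle hle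
    have : 2 ^ (n - 1) * 2 ^ (n - 1) ≤ 2 ^ (n + 2) := by
      refine hsq.trans ?_
      rw [show Nat.card ψ.range * 2 * (Nat.card ψ.range * 2) = Nat.card ψ.range * Nat.card ψ.range * 4 by ring,
        pow_add]
      exact Nat.mul_le_mul_right _ hrange
    rw [← pow_add, Nat.pow_le_pow_iff_right (by norm_num)] at this
    omega
  obtain ⟨x, hx, hx1, hx2⟩ : ∃ x : E, x ∈ ψ.ker ∧ x.1 ≠ 1 ∧ x.1 ≠ flips Finset.univ := by
    by_contra h
    push Not at h
    have : Nat.card ψ.ker ≤ 2 := by
      refine (Nat.card_le_card_of_injective (fun x : ψ.ker => decide (x.1.1 = 1)) ?_).trans (by simp)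
      intro x y hxy
      refine Subtype.ext (Subtype.ext ?_)
      by_cases h1 : x.1.1 = 1
      · have h2 : y.1.1 = 1 := by simpa [h1] using hxy.symm
        rw [h1, h2]
      · have h2 : y.1.1 ≠ 1 := by simpa [h1] using hxy.symm
        rw [h x.1 x.2 h1, h y.1 y.2 h2]
    omega
  obtain ⟨T, hTev, hxT⟩ := x.2
  have hTne : T.Nonempty := by
    rcases T.eq_empty_or_nonempty with rfl | h
    · exact absurd (hxT.trans (ext_e fun i => by
        rw [flips_e, if_neg (Finset.notMem_empty i), one_smul]; rfl)) hx1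
    · exact h
  have hTne' : Tᶜ.Nonempty := by
    rw [Finset.nonempty_iff_ne_empty, Ne, Finset.compl_eq_empty_iff]
    intro hT
    exact hx2 (by rw [hxT, hT])
  set f : O F n := g * x.1 * g⁻¹ with hf
  have hfd : f ∈ (Diag : Subgroup (O F n)) := fun i => by
    let fm : (Mon : Subgroup (O F n)) := ⟨f, hEmon x⟩
    have hi : img fm i = i := Equiv.ext_iff.1 (MonoidHom.mem_ker.1 hx) i
    refine ⟨f.1 (e i) i, ?_⟩
    have := img_spec fm i
    rwa [hi] at this
  set T' : Finset (Fin n) := Finset.univ.filter fun i => f.1 (e i) i = -1 with hT'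
  have hfe : ∀ a, f.1 (g.1 (e a)) = (if a ∈ T then (-1 : F) else 1) • g.1 (e a) := fun a => by
    rw [hf, hxT]
    show g.1 ((flips T).1 ((g⁻¹).1 (g.1 (e a)))) = _
    rw [inv_apply', flips_e, map_smul]
  have hcol : ∀ a i, g.1 (e a) i ≠ 0 → (a ∈ T ↔ i ∈ T') := by
    intro a i hai
    obtain ⟨κ, hκ⟩ := hfd i
    have hfi : f.1 (e i) i = κ := by rw [hκ, Pi.smul_apply, e_same, smul_eq_mul, mul_one]
    have hκκ := coord_sq f hκ
    have hlin : f.1 (g.1 (e a)) i = κ * g.1 (e a) i := by
      conv_lhs => rw [← sum_e (g.1 (e a)), map_sum, Finset.sum_apply]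
      rw [Finset.sum_eq_single i]
      · rw [map_smul, Pi.smul_apply, hfi, smul_eq_mul, mul_comm]
      · intro b _ hb
        obtain ⟨μ, hμ⟩ := hfd b
        rw [map_smul, hμ, Pi.smul_apply, Pi.smul_apply, e_ne hb.symm, smul_zero, smul_zero]
      · simp
    have := congrFun (hfe a) i
    rw [hlin, Pi.smul_apply, smul_eq_mul] at this
    have hκ' : κ = if a ∈ T then -1 else 1 := mul_right_cancel₀ hai this
    simp only [hT', Finset.mem_filter, Finset.mem_univ, true_and, hfi]
    rw [hκ']
    split_ifs with h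
    · exact iff_of_true h rfl
    · exact iff_of_false h fun h' => hO.two (by linear_combination h')
  have hz : ∀ a i, ¬(a ∈ T ↔ i ∈ T') → g.1 (e a) i = 0 := fun a i h => by
    by_contra h'; exact h (hcol a i h')
  have c1 : T.card ≤ T'.card := card_le_of_supp g T T' fun a ha i hi =>
    hz a i fun h => hi (h.1 ha)
  have c2 : Tᶜ.card ≤ T'ᶜ.card := card_le_of_supp g _ _ fun a ha i hi => by
    rw [Finset.mem_compl] at ha hi
    exact hz a i fun h => ha (h.2 (not_not.1 hi))
  have d1 := Finset.card_compl_add_card T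
  have d2 := Finset.card_compl_add_card T'
  rw [Fintype.card_fin] at d1 d2
  obtain ⟨κ, hκ⟩ := hTev
  have hpos := hTne.card_pos
  have hpos' := hTne'.card_pos
  by_cases h5 : T'ᶜ.card = 3 ∨ 5 ≤ T'ᶜ.card
  · exact mon_of_split hO hn hL hg hTne (fun a ha i hi => hz a i fun h => hi (h.1 ha))
      (fun a ha i hi => hz a i fun h => ha (h.2 hi)) (by omega) h5
  · refine mon_of_split hO hn hL hg (X := Tᶜ) (Y := T'ᶜ) hTne' ?_ ?_ (by rw [compl_compl]; omega)
      (by rw [compl_compl]; omega)
    · intro a ha i hi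
      rw [Finset.mem_compl] at ha hi
      exact hz a i fun h => ha (h.2 (not_not.1 hi))
    · intro a ha i hi
      rw [Finset.mem_compl] at ha hi
      exact hz a i fun h => hi (h.1 (not_not.1 ha))

theorem false_of_good [DecidableEq F] {g : O F n} (hg : g ∈ M) {a b : Fin n} (hab : a ≠ b)
    (hwide : ∀ i, g.1 (e a) i ≠ 0 ∨ g.1 (e b) i ≠ 0) {S : Finset (Fin n)} (hS4 : 4 ≤ S.card)
    (hSev : Even S.card)
    (hScase : (∀ i ∈ S, ∀ j ∈ S, dd (g.1 (e a)) (g.1 (e b)) i j = 0) ∨
      ∀ i j, ∃ c ∈ S, ∃ d ∈ S, c ≠ i ∧ c ≠ j ∧ d ≠ i ∧ d ≠ j ∧ dd (g.1 (e a)) (g.1 (e b)) c d ≠ 0)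
    (hA : Sᶜ.card = 1 ∨ 5 ≤ Sᶜ.card ∨ (Sᶜ.card = 3 ∧
      ∀ p ∈ Sᶜ, ∀ q ∈ Sᶜ, p ≠ q → dd (g.1 (e a)) (g.1 (e b)) p q ≠ 0)) : False := by
  classical
  have h2 := hO.two
  set u := g.1 (e a) with hu
  set w := g.1 (e b) with hw
  have hsum : S.card + Sᶜ.card = n := by rw [Finset.card_add_card_compl, Fintype.card_fin]
  -- a combination of the two vectors with two non-zero coordinates on `S` at most
  have hzeroS : ∀ (α β : F) (y : Fin n → F) (i j : Fin n),
      (∀ k ∈ S, y k = α * u k + β * w k) → (∀ k ∈ S, k ≠ i → k ≠ j → y k = 0) → ∀ k ∈ S, y k = 0 := by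
    intro α β y i j hy hy0 k hk
    rw [hy k hk]
    rcases hScase with hdep | hind
    · obtain ⟨c, hc, hc'⟩ := Finset.exists_mem_notMem_of_card_lt_card (show ({i, j} : Finset (Fin n)).card < S.card by
        have : ({i, j} : Finset (Fin n)).card ≤ 2 := Finset.card_le_two
        omega)
      simp only [Finset.mem_insert, Finset.mem_singleton, not_or] at hc'
      have h1 : α * u c + β * w c = 0 := by rw [← hy c hc, hy0 c hc hc'.1 hc'.2]
      have h3 := hdep c hc k hk
      simp only [dd] at h3
      rcases hwide c with h | h <;> refine (mul_eq_zero.1 ?_).resolve_left h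
      · linear_combination u k * h1 + β * h3
      · linear_combination w k * h1 - α * h3
    · obtain ⟨c, hc, d, hd, hci, hcj, hdi, hdj, hne⟩ := hind i j
      have h1 : α * u c + β * w c = 0 := by rw [← hy c hc, hy0 c hc hci hcj]
      have h1' : α * u d + β * w d = 0 := by rw [← hy d hd, hy0 d hd hdi hdj]
      simp only [dd] at hne
      have hα : α = 0 := (mul_eq_zero.1 (show α * (u c * w d - u d * w c) = 0 by
        linear_combination w d * h1 - w c * h1')).resolve_right hne
      have hβ : β = 0 := (mul_eq_zero.1 (show β * (u c * w d - u d * w c) = 0 by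
        linear_combination u c * h1' - u d * h1)).resolve_right hne
      rw [hα, hβ]; ring
  set t : O F n := flips S with ht
  set s : O F n := g * flips {a, b} * g⁻¹ with hs
  have htM : t ∈ M := hO.flips_mem hSev
  have hsM : s ∈ M := M.mul_mem (M.mul_mem hg (hO.pair_mem hab)) (M.inv_mem hg)
  have hs2 : s * s = 1 := by
    rw [hs]
    calc g * flips {a, b} * g⁻¹ * (g * flips {a, b} * g⁻¹) = g * (flips {a, b} * flips {a, b}) * g⁻¹ := by
          group
      _ = 1 := by rw [flips_self, mul_one, mul_inv_cancel]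
  have hsapply : ∀ x, s.1 x = x - (2 * (u ⬝ᵥ x)) • u - (2 * (w ⬝ᵥ x)) • w := by
    intro x
    show g.1 ((flips {a, b}).1 ((g⁻¹).1 x)) = _
    have e1 : (flips {a, b} : O F n).1 ((g⁻¹).1 x) =
        (g⁻¹).1 x - (2 * (g⁻¹).1 x a) • e a - (2 * (g⁻¹).1 x b) • e b := by
      funext i
      simp only [flips_apply, Pi.sub_apply, Pi.smul_apply, smul_eq_mul, Finset.mem_insert, Finset.mem_singleton]
      rcases eq_or_ne i a with rfl | hia
      · rw [if_pos (Or.inl rfl), e_same, e_ne hab]; ring
      · rcases eq_or_ne i b with rfl | hib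
        · rw [if_pos (Or.inr rfl), e_same, e_ne hia]; ring
        · rw [if_neg (by simp [hia, hib]), e_ne hia, e_ne hib]; ring
    rw [e1, map_sub, map_sub, map_smul, map_smul, apply_inv', ← dot_e ((g⁻¹).1 x) a,
      ← dot_e ((g⁻¹).1 x) b, ← dot_isom h2 g, ← dot_isom h2 g ((g⁻¹).1 x) (e b), apply_inv',
      dotProduct_comm x, dotProduct_comm x, ← hu, ← hw]
  -- centralising the sign change forces monomial
  have hcent : ∀ h : O F n, h ∈ M → t * h = h * t → h ∈ (Mon : Subgroup (O F n)) := by
    intro h hh hcomm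
    have hz : ∀ x i, ¬(x ∈ S ↔ i ∈ S) → h.1 (e x) i = 0 := by
      intro x i hne
      have := congrArg (fun q : O F n => q.1 (e x) i) hcomm
      simp only [mul_apply', ht, flips_e, map_smul, Pi.smul_apply, smul_eq_mul, flips_apply] at this
      by_contra h0
      by_cases h1 : x ∈ S <;> by_cases h3 : i ∈ S <;> simp [h1, h3] at hne this
      · exact h0 ((mul_eq_zero.1 (show 2 * h.1 (e x) i = 0 by linear_combination this)).resolve_left h2)
      · exact h0 ((mul_eq_zero.1 (show 2 * h.1 (e x) i = 0 by linear_combination -this)).resolve_left h2)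
    by_cases h5 : Sᶜ.card = 3 ∨ 5 ≤ Sᶜ.card
    · exact mon_of_split hO hn hL hh (Finset.card_pos.1 (by omega))
        (fun x hx i hi => hz x i fun h' => hi (h'.1 hx)) (fun x hx i hi => hz x i fun h' => hx (h'.2 hi))
        (by omega) h5
    · refine mon_of_split hO hn hL hh (X := Sᶜ) (Y := Sᶜ) (Finset.card_pos.1 (by omega)) ?_ ?_
        (by rw [compl_compl]; omega) (by rw [compl_compl]; omega)
      · intro x hx i hi
        rw [Finset.mem_compl] at hx hi
        exact hz x i fun h' => hx (h'.2 (not_not.1 hi))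
      · intro x hx i hi
        rw [Finset.mem_compl] at hx hi
        exact hz x i fun h' => hi (h'.1 (not_not.1 hx))
  -- `s` is not monomial
  have hsnm : s ∉ (Mon : Subgroup (O F n)) := by
    intro hm
    obtain ⟨i, hi⟩ : S.Nonempty := Finset.card_pos.1 (by omega)
    obtain ⟨j, c, hj⟩ := hm i
    have hform : s.1 (e i) - e i = fun k => -2 * u i * u k + -2 * w i * w k := by
      rw [hsapply]; funext k
      simp only [dot_e, Pi.sub_apply, Pi.smul_apply, smul_eq_mul]; ring
    have h0 := hzeroS (-2 * u i) (-2 * w i) (s.1 (e i) - e i) i j (fun k _ => congrFun hform k)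
      fun k _ hki hkj => by rw [hj, Pi.sub_apply, smul_e_coord c j k hkj, e_ne hki, sub_zero]
    have hji : j = i := by
      by_contra h
      have := h0 i hi
      rw [hj, Pi.sub_apply, smul_e_coord c j i (Ne.symm h), e_same, zero_sub, neg_eq_zero] at this
      exact one_ne_zero this
    subst hji
    have := h0 j hi
    rw [hj, Pi.sub_apply, Pi.smul_apply, e_same, smul_eq_mul, mul_one, sub_eq_zero] at this
    rw [this, one_smul] at hj
    have hfl : (flips {a, b}).1 ((g⁻¹).1 (e j)) = (g⁻¹).1 (e j) := by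
      have e' := congrArg (fun v => (g⁻¹).1 v) hj
      simp only [hs, mul_apply', inv_apply'] at e'
      exact e'
    have hzero : ∀ x ∈ ({a, b} : Finset (Fin n)), g.1 (e x) j = 0 := fun x hx => by
      have e'' := congrFun hfl x
      rw [flips_apply, if_pos hx, inv_coord h2] at e''
      exact (mul_eq_zero.1 (show 2 * g.1 (e x) j = 0 by linear_combination -e'')).resolve_left h2
    rcases hwide j with h | h
    · exact h (hzero a (by simp))
    · exact h (hzero b (by simp))
  -- the dihedral group of `t` and `s`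
  set d := t * s with hd
  have ht2 : t * t = 1 := flips_self S
  have htinv : t⁻¹ = t := flips_inv S
  have hsinv : s⁻¹ = s := inv_eq_of_mul_eq_one_left hs2
  have hdM : d ∈ M := M.mul_mem htM hsM
  have hsd : s = t * d := by rw [hd, ← mul_assoc, ht2, one_mul]
  have hconj : ∀ k : ℕ, t * d ^ k * t⁻¹ = (d ^ k)⁻¹ := by
    intro k
    rw [← inv_pow, ← conj_pow]
    congr 1
    rw [← hsd, htinv, hd, _root_.mul_inv_rev, hsinv, htinv]
  rcases Nat.even_or_odd (orderOf d) with ⟨m, hm⟩ | ⟨m, hm⟩
  swap
  · set q := d ^ m with hq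
    have hqts : q * t * q⁻¹ = s := by
      have h1 : t * q⁻¹ = q * t := by
        have h2 := hconj m
        rw [← hq, mul_inv_eq_iff_eq_mul] at h2
        rw [mul_inv_eq_iff_eq_mul, mul_assoc, h2, mul_inv_cancel_left]
      rw [mul_assoc, h1, ← mul_assoc, hq, ← pow_add]
      have h4 : d ^ (m + m) = d⁻¹ := eq_inv_of_mul_eq_one_left (by
        rw [← pow_succ, show m + m + 1 = orderOf d by omega, pow_orderOf_eq_one])
      rw [h4, hd, _root_.mul_inv_rev, hsinv, htinv, mul_assoc, ht2, mul_one]
    have hcount := card_le_of_supp (g⁻¹ * q) S {a, b} fun i hi x hx => by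
      have hsq : s * q = q * t := by rw [← hqts]; group
      have e1 := congrArg (fun r : O F n => (g⁻¹).1 (r.1 (e i))) hsq
      simp only [mul_apply', hs, inv_apply', ht, flips_e, if_pos hi, map_neg, neg_smul, one_smul] at e1
      have e2 := congrFun e1 x
      rw [flips_apply, if_neg hx, Pi.neg_apply] at e2
      exact (mul_eq_zero.1 (show 2 * (g⁻¹).1 (q.1 (e i)) x = 0 by linear_combination e2)).resolve_left h2
    rw [Finset.card_pair hab] at hcount
    omega
  set z := d ^ m with hz
  have hz2 : z * z = 1 := by rw [hz, ← pow_add, ← hm, pow_orderOf_eq_one]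
  have hzinv : z⁻¹ = z := inv_eq_of_mul_eq_one_left hz2
  have hz1 : z ≠ 1 := by
    intro h
    have hpos := orderOf_pos d
    have := orderOf_le_of_pow_eq_one (show 0 < m by omega) h
    omega
  have hzt : t * z = z * t := by
    have := hconj m
    rw [← hz, hzinv, mul_inv_eq_iff_eq_mul] at this
    exact this
  have hzs : s * z = z * s := by
    calc s * z = t * (d * z) := by rw [← mul_assoc, ← hsd]
      _ = t * (z * d) := by rw [hz, (Commute.self_pow d m).eq]
      _ = (t * z) * d := by rw [mul_assoc]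
      _ = z * (t * d) := by rw [hzt, mul_assoc]
      _ = z * s := by rw [← hsd]
  have hzM : z ∈ M := M.pow_mem hdM m
  have hzm := hcent z hzM hzt
  set ε : F := (-1) ^ m with hε
  have hsfix : ∀ x, u ⬝ᵥ x = 0 → w ⬝ᵥ x = 0 → s.1 x = x := fun x h1 h1' => by
    rw [hsapply, h1, h1']; simp
  -- `z` is a sign on the vectors of `span S` orthogonal to the image plane
  have hzS : ∀ x : Fin n → F, (∀ i, i ∉ S → x i = 0) → u ⬝ᵥ x = 0 → w ⬝ᵥ x = 0 → z.1 x = ε • x := by
    intro x hx h1 h1'
    have hdx : d.1 x = (-1 : F) • x := by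
      rw [hd, mul_apply', hsfix x h1 h1']
      funext i
      rw [ht, flips_apply, Pi.smul_apply, smul_eq_mul, neg_one_mul]
      split_ifs with h
      · rfl
      · simp [hx i h]
    rw [hz, hε]
    clear_value d
    clear hz hε hm hzM hzm hzs hzt hz1 hz2 hzinv
    induction m with
    | zero => simp [one_apply']
    | succ k ih => rw [pow_succ, mul_apply', hdx, map_smul, ih, smul_smul, pow_succ, mul_comm]
  -- `z` is that sign on `span S`
  have hzε : ∀ l ∈ S, z.1 (e l) = ε • e l := by
    intro l hl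
    obtain ⟨j, c, hj⟩ := hzm l
    have hjS : j ∈ S := by
      have := congrArg (fun q : O F n => q.1 (e l) j) hzt
      simp only [mul_apply', hj, ht, flips_e, map_smul, Pi.smul_apply, smul_eq_mul, e_same, if_pos hl, mul_one] at this
      by_contra hjS
      rw [if_neg hjS] at this
      have hcc := coord_sq z hj
      have : c = 0 := (mul_eq_zero.1 (show 2 * c = 0 by linear_combination this)).resolve_left h2
      rw [this, mul_zero] at hcc
      exact zero_ne_one hcc
    by_contra hne
    obtain ⟨x, hxS, hxu, hxw, hxy⟩ : ∃ x : Fin n → F, (∀ i, i ∉ S → x i = 0) ∧ u ⬝ᵥ x = 0 ∧ w ⬝ᵥ x = 0 ∧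
        (c • e j - ε • e l) ⬝ᵥ x ≠ 0 := by
      obtain ⟨p, hp, r, hr, hdisj⟩ : ∃ p, (p ∈ S ∧ ¬p = l ∧ ¬p = j) ∧ ∃ r, (r ∈ S ∧ ¬r = l ∧ ¬r = j) ∧
          ((∀ i ∈ S, ∀ k ∈ S, dd u w i k = 0) ∨ dd u w p r ≠ 0) := by
        rcases hScase with hdep | hind
        · obtain ⟨p, hp, r, hr, hpr⟩ := Finset.one_lt_card.1 (show 1 < (S \ {l, j}).card by
            have := Finset.le_card_sdiff {l, j} S
            have : ({l, j} : Finset (Fin n)).card ≤ 2 := Finset.card_le_two
            omega)
          simp only [Finset.mem_sdiff, Finset.mem_insert, Finset.mem_singleton, not_or] at hp hr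
          exact ⟨p, hp, r, hr, Or.inl hdep⟩
        · obtain ⟨p, hp, r, hr, h1, h1', h3, h3', hne'⟩ := hind l j
          exact ⟨p, ⟨hp, h1, h1'⟩, r, ⟨hr, h3, h3'⟩, Or.inr hne'⟩
      have hcoef : ∀ A B C : F, A ≠ 0 →
          (c • e j - ε • e l) ⬝ᵥ (A • e l + B • e p + C • e r : Fin n → F) ≠ 0 := by
        intro A B C hA
        rw [sub_dotProduct, smul_dotProduct, smul_dotProduct]
        simp only [dotProduct_add, dotProduct_smul, e_dot_e, smul_eq_mul]
        rw [if_true, if_neg (Ne.symm hp.2.2), if_neg (Ne.symm hr.2.2), if_neg (Ne.symm hp.2.1),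
          if_neg (Ne.symm hr.2.1)]
        rcases eq_or_ne j l with rfl | hjl
        · rw [if_pos rfl]
          intro h0
          refine hne ?_
          rw [hj, show c = ε from mul_right_cancel₀ hA (by linear_combination h0)]
        · rw [if_neg hjl]
          intro h0
          have hε0 : ε ≠ 0 := pow_ne_zero _ (neg_ne_zero.2 one_ne_zero)
          exact mul_ne_zero hε0 hA (by linear_combination -h0)
      have hsupp : ∀ A B C : F, ∀ i, i ∉ S → (A • e l + B • e p + C • e r : Fin n → F) i = 0 := by
        intro A B C i hi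
        simp [e_ne (fun h : i = l => hi (h ▸ hl)), e_ne (fun h : i = p => hi (h ▸ hp.1)),
          e_ne (fun h : i = r => hi (h ▸ hr.1))]
      have hdot : ∀ (v : Fin n → F) (A B C : F),
          v ⬝ᵥ (A • e l + B • e p + C • e r) = A * v l + B * v p + C * v r := by
        intro v A B C; simp [dotProduct_add, dotProduct_smul, dot_e]
      rcases hdisj.symm with hind | hdep
      · refine ⟨dd u w p r • e l + dd u w r l • e p + dd u w l p • e r, hsupp _ _ _, ?_, ?_,
          hcoef _ _ _ hind⟩
        · rw [hdot]; simp only [dd]; ring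
        · rw [hdot]; simp only [dd]; ring
      · have h3 := hdep l hl p hp.1
        simp only [dd] at h3
        by_cases hul : u p = 0
        · have hwp : w p ≠ 0 := (hwide p).resolve_left (not_not.2 hul)
          refine ⟨w p • e l + (-w l) • e p + (0 : F) • e r, hsupp _ _ _, ?_, ?_, hcoef _ _ _ hwp⟩
          · rw [hdot]; linear_combination h3
          · rw [hdot]; ring
        · refine ⟨u p • e l + (-u l) • e p + (0 : F) • e r, hsupp _ _ _, ?_, ?_, hcoef _ _ _ hul⟩
          · rw [hdot]; ring
          · rw [hdot]; linear_combination -h3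
    apply hxy
    rw [sub_dotProduct, ← hj, ← dot_isom h2 z, ← mul_apply', hz2, one_apply', hzS x hxS hxu hxw, dotProduct_smul,
      smul_dotProduct, sub_self]
  have hε2 : ε * ε = 1 := by rw [hε, ← mul_pow]; simp
  -- the residual map is the identity on `span S`
  obtain ⟨c₀, hc₀M, hc₀m, hc₀2, hc₀S, hc₀fix, hc₀id⟩ : ∃ c₀ : O F n, c₀ ∈ M ∧
      c₀ ∈ (Mon : Subgroup (O F n)) ∧ c₀ * c₀ = 1 ∧ (∀ l ∈ S, c₀.1 (e l) = e l) ∧
      (∀ x : Fin n → F, (∀ i ∈ S, x i = 0) → u ⬝ᵥ x = 0 → w ⬝ᵥ x = 0 → c₀.1 x = x) ∧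
      (c₀ = 1 → z = t) := by
    have hfix : ∀ x : Fin n → F, (∀ i ∈ S, x i = 0) → t.1 x = x := fun x hx => by
      funext i; rw [ht, flips_apply]; split_ifs with h
      · simp [hx i h]
      · rfl
    have hzfix : ∀ x : Fin n → F, (∀ i ∈ S, x i = 0) → u ⬝ᵥ x = 0 → w ⬝ᵥ x = 0 → z.1 x = x := by
      intro x hx h1 h1'
      have hdx : d.1 x = x := by rw [hd, mul_apply', hsfix x h1 h1', hfix x hx]
      rw [hz]
      clear_value d
      clear hz hε hm hzM hzm hzs hzt hz1 hz2 hzinv hzS hzε hε2
      induction m with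
      | zero => simp [one_apply']
      | succ k ih => rw [pow_succ, mul_apply', hdx, ih]
    rcases mul_self_eq_one_iff.1 hε2 with hε1 | hε1
    · exact ⟨z, hzM, hzm, hz2, fun l hl => by rw [hzε l hl, hε1, one_smul], hzfix, fun h => absurd h hz1⟩
    · refine ⟨z * t, M.mul_mem hzM htM, mul_mem hzm (diag_le_mon (flips_mem_diag S)), ?_, ?_, ?_, ?_⟩
      · calc z * t * (z * t) = z * (t * z) * t := by group
          _ = (z * z) * (t * t) := by rw [hzt]; group
          _ = 1 := by rw [hz2, ht2, one_mul]
      · intro l hl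
        rw [mul_apply', ht, flips_e, if_pos hl, map_smul, hzε l hl, hε1, smul_smul]; simp
      · intro x hx h1 h1'; rw [mul_apply', hfix x hx, hzfix x hx h1 h1']
      · intro h; rw [← mul_inv_eq_one, htinv, h]
  by_cases hc1 : c₀ = 1
  · refine hsnm (hcent s hsM ?_)
    rw [← hc₀id hc1]; exact hzs.symm
  refine hc1 ?_
  set cm : (Mon : Subgroup (O F n)) := ⟨c₀, hc₀m⟩ with hcm
  have hmoved : ∀ i, c₀.1 (e i) ≠ e i → ∀ p q, p ∉ S → p ≠ i → p ≠ img cm i →
      q ∉ S → q ≠ i → q ≠ img cm i → dd u w p q = 0 ∧ dd u w i p ≠ 0 := by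
    intro i hi p q hpS hpi hpj hqS hqi hqj
    set j := img cm i with hjdef
    set c := c₀.1 (e i) j with hcdef
    have hj : c₀.1 (e i) = c • e j := img_spec cm i
    have hiS : i ∉ S := fun h => hi (hc₀S i h)
    have htest : ∀ A B C : F, A ≠ 0 → ¬(u ⬝ᵥ (A • e i + B • e p + C • e q) = 0 ∧
        w ⬝ᵥ (A • e i + B • e p + C • e q) = 0) := by
      rintro A B C hA ⟨h1, h1'⟩
      set x : Fin n → F := A • e i + B • e p + C • e q with hx
      have hxfix : c₀.1 x = x := hc₀fix x (fun l hl => by
        simp [hx, e_ne (fun h : l = i => hiS (h ▸ hl)), e_ne (fun h : l = p => hpS (h ▸ hl)),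
          e_ne (fun h : l = q => hqS (h ▸ hl))]) h1 h1'
      have hd' : c₀.1 (e i) ⬝ᵥ x = e i ⬝ᵥ x := by
        conv_lhs => rw [← hxfix]
        rw [dot_isom h2]
      rw [hj, smul_dotProduct, e_dot, e_dot] at hd'
      have hxi : x i = A := by simp [hx, e_same, e_ne hpi.symm, e_ne hqi.symm]
      rcases eq_or_ne j i with hji | hji
      · rw [hji, hxi, smul_eq_mul] at hd'
        have : c = 1 := mul_right_cancel₀ hA (hd'.trans (one_mul A).symm)
        exact hi (by rw [hj, hji, this, one_smul])
      · have hxj : x j = 0 := by simp [hx, e_ne hji, e_ne hpj.symm, e_ne hqj.symm]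
        rw [hxj, hxi, smul_zero] at hd'
        exact hA hd'.symm
    have hdot : ∀ (v : Fin n → F) (A B C : F),
        v ⬝ᵥ (A • e i + B • e p + C • e q) = A * v i + B * v p + C * v q := by
      intro v A B C; simp [dotProduct_add, dotProduct_smul, dot_e]
    constructor
    · by_contra hne
      exact htest (dd u w p q) (dd u w q i) (dd u w i p) hne
        ⟨by rw [hdot]; simp only [dd]; ring, by rw [hdot]; simp only [dd]; ring⟩
    · intro h0
      rw [dd] at h0
      by_cases hup : u p = 0
      · have hwp : w p ≠ 0 := (hwide p).resolve_left (not_not.2 hup)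
        exact htest (w p) (-w i) 0 hwp ⟨by rw [hdot]; linear_combination h0, by rw [hdot]; ring⟩
      · exact htest (u p) (-u i) 0 hup ⟨by rw [hdot]; ring, by rw [hdot]; linear_combination -h0⟩
  by_contra hc
  obtain ⟨i, hi⟩ : ∃ i, c₀.1 (e i) ≠ e i := by
    by_contra h
    push Not at h
    exact hc (ext_e fun i => h i)
  set j := img cm i with hjdef
  have hiS : i ∉ S := fun h => hi (hc₀S i h)
  have hfixc : ∀ l ∈ S, img cm l = l := fun l hl =>
    img_eq cm (show c₀.1 (e l) = (1 : F) • e l by rw [one_smul]; exact hc₀S l hl)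
  have hjS : j ∉ S := fun h => hiS (by
    have := img_injective cm ((hfixc j h).trans hjdef)
    rwa [← this])
  have honly : ∀ k, k ≠ i → k ≠ j → c₀.1 (e k) = e k := by
    intro k hki hkj
    by_contra hk
    have hkS : k ∉ S := fun h => hk (hc₀S k h)
    rcases hA with h1 | h5 | ⟨h3, hdd⟩
    · have h2c : 1 < Sᶜ.card := Finset.one_lt_card.2 ⟨k, by simp [hkS], i, by simp [hiS], hki⟩
      omega
    · obtain ⟨p, hp, hp'⟩ := Finset.exists_mem_notMem_of_card_lt_card
        (show ({i, j, k, img cm k} : Finset (Fin n)).card < Sᶜ.card by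
          have : ({i, j, k, img cm k} : Finset (Fin n)).card ≤ 4 := Finset.card_le_four
          omega)
      simp only [Finset.mem_insert, Finset.mem_singleton, not_or] at hp'
      rw [Finset.mem_compl] at hp
      obtain ⟨hpi, hpj, hpk, hpk'⟩ := hp'
      have h1 := (hmoved i hi p k hp hpi hpj hkS hki hkj).1
      have h3 := (hmoved k hk p p hp hpk hpk' hp hpk hpk').2
      exact h3 (by rw [dd_symm, h1, neg_zero])
    · have hmc : ∀ x, x ∉ S → x ∈ Sᶜ := fun x hx => Finset.mem_compl.2 hx
      rcases eq_or_ne j i with hji | hji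
      · obtain ⟨p, hp, hp'⟩ := Finset.exists_mem_notMem_of_card_lt_card
          (show ({i, k} : Finset (Fin n)).card < Sᶜ.card by
            have : ({i, k} : Finset (Fin n)).card ≤ 2 := Finset.card_le_two
            omega)
        simp only [Finset.mem_insert, Finset.mem_singleton, not_or] at hp'
        rw [Finset.mem_compl] at hp
        exact hdd k (hmc k hkS) p (hmc p hp) (Ne.symm hp'.2)
          ((hmoved i hi k p hkS hki hkj hp hp'.1 (by rw [← hjdef, hji]; exact hp'.1)).1)
      · have hjji : img cm j = i := by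
          rw [hjdef, ← img_mul, show cm * cm = 1 from Subtype.ext hc₀2]
          exact img_eq 1 (one_smul F (e i)).symm
        have hkk : img cm k = k := by
          by_contra hne'
          have hk' : img cm k ∉ S := fun h => hne' (img_injective cm (hfixc _ h))
          have hsub : ({i, j, k} : Finset (Fin n)) = Sᶜ := Finset.eq_of_subset_of_card_le
            (Finset.insert_subset (hmc i hiS) (Finset.insert_subset (hmc j hjS)
              (Finset.singleton_subset_iff.2 (hmc k hkS))))
            (by rw [h3, Finset.card_eq_three.2 ⟨i, j, k, hji.symm, hki.symm, hkj.symm, rfl⟩])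
          have hm' := hmc _ hk'
          rw [← hsub] at hm'
          simp only [Finset.mem_insert, Finset.mem_singleton] at hm'
          rcases hm' with h' | h' | h'
          · exact hkj (img_injective cm (h'.trans hjji.symm))
          · exact hki (img_injective cm (h'.trans hjdef))
          · exact hne' h'
        exact hdd i (hmc i hiS) j (hmc j hjS) hji.symm
          ((hmoved k hk i j hiS hki.symm (by rw [hkk]; exact hki.symm) hjS hkj.symm (by rw [hkk]; exact hkj.symm)).1)
  have hci : c₀.1 (e i) = c₀.1 (e i) j • e j := img_spec cm i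
  set c := c₀.1 (e i) j
  have hcc : c * c = 1 := coord_sq c₀ hci
  have hdv : (c₀.1 (e i) - e i) ⬝ᵥ (c₀.1 (e i) - e i) ≠ 0 := by
    rw [sub_dotProduct, dotProduct_sub, dotProduct_sub, std_map, e_dot, e_dot, e_same, dot_e]
    intro h0
    rcases eq_or_ne j i with hji | hji
    · rw [hci, hji, Pi.smul_apply, e_same, smul_eq_mul, mul_one] at h0
      have hc' : c = 1 := (mul_eq_zero.1 (show 2 * (1 - c) = 0 by linear_combination h0)).resolve_left h2 |>
        fun h => (sub_eq_zero.1 h).symm
      exact hi (by rw [hci, hji, hc', one_smul])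
    · rw [hci, Pi.smul_apply, e_ne hji.symm, smul_zero] at h0
      exact h2 (by linear_combination h0)
  have hrefl : c₀ = refl (std F n) (c₀.1 (e i) - e i) := by
    refine ext_e fun k => ?_
    have hbase : (refl (std F n) (c₀.1 (e i) - e i)).1 (e i) = c₀.1 (e i) := by
      have hn' : c₀.1 (e i) - e i = -(e i - c₀.1 (e i)) := by abel
      rw [hn', ← neg_one_smul F, refl_smul (std F n) (neg_ne_zero.2 one_ne_zero)]
      refine refl_sub_apply (std F n) (by rw [apply_quad]) ?_
      rw [← neg_sub, QuadraticMap.map_neg, std_apply]; exact hdv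
    rcases eq_or_ne k i with rfl | hki
    · rw [hbase]
    rcases eq_or_ne k j with rfl | hkj
    · have hcj : c₀.1 (e j) = c • e i := by
        have e' := congrArg (fun q : O F n => q.1 (e i)) hc₀2
        rw [mul_apply', hci, map_smul, one_apply'] at e'
        rw [← e', smul_smul, hcc, one_smul]
      have hej : e j = c • c₀.1 (e i) := by rw [hci, smul_smul, hcc, one_smul]
      rw [hcj]
      conv_rhs => rw [hej, map_smul]
      congr 1
      have e' := congrArg (fun x => (refl (std F n) (c₀.1 (e i) - e i)).1 x) hbase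
      simp only [← mul_apply', refl_mul_self, one_apply'] at e'
      exact e'
    · rw [honly k hki hkj, refl_fix]
      rw [polar_std, sub_dotProduct, hci, smul_dotProduct, e_dot_e, e_dot_e, if_neg (Ne.symm hkj),
        if_neg (Ne.symm hki)]
      simp
  have hdet := det'_commutator (hO.le hc₀M)
  rw [hrefl] at hdet
  have := det'_refl (a := c₀.1 (e i) - e i) (by rw [std_apply]; exact hdv)
  rw [hdet, Units.val_one] at this
  exact h2 (by linear_combination this)

end Step

end CfsgLib.Classical.FrameMax
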