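import Cfsg.Agent.Lib.Classical.FrameMax.Pair

/-!
# An overgroup of the monomial group has an element outside it fixing a frame vector
-/

set_option autoImplicit false
set_option linter.unusedSectionVars false
set_option linter.style.haveILetI false

namespace CfsgLib.Classical.FrameMax

open Module QuadraticMap Matrix CfsgLib.Orth

variable {F : Type*} [Field F] [Fintype F] {n : ℕ} {M : Subgroup (O F n)}

/-- Two orthonormal vectors are not proportional. -/
theorem exists_dd_ne {u w : Fin n → F} (hu : u ⬝ᵥ u = 1) (hw : w ⬝ᵥ w = 1) (huw : u ⬝ᵥ w = 0) :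
    ∃ i j, dd u w i j ≠ 0 := by
  by_contra h
  push Not at h
  have hw0 : w = 0 := by
    funext j
    have hs : ∑ i, u i * (u i * w j - u j * w i) = 0 :=
      Finset.sum_eq_zero fun i _ => by rw [show u i * w j - u j * w i = dd u w i j from rfl, h, mul_zero]
    simp only [mul_sub, Finset.sum_sub_distrib] at hs
    have e1 : ∑ i, u i * (u i * w j) = w j := by
      rw [Finset.sum_congr rfl (fun i _ => (mul_assoc (u i) (u i) (w j)).symm), ← Finset.sum_mul]
      show (u ⬝ᵥ u) * w j = w j
      rw [hu, one_mul]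
    have e2 : ∑ i, u i * (u j * w i) = 0 := by
      rw [Finset.sum_congr rfl (fun i _ => mul_left_comm (u i) (u j) (w i)), ← Finset.mul_sum]
      show u j * (u ⬝ᵥ w) = 0
      rw [huw, mul_zero]
    rwa [e1, e2, sub_zero] at hs
  rw [hw0, zero_dotProduct] at hw
  exact zero_ne_one hw

section Step

variable (hO : Over M) (hn : 7 ≤ n)
  (hL : ∀ g ∈ M, ∀ k, g.1 (e k) = e k → g ∈ (Mon : Subgroup (O F n)))

include hO hn hL

/-- The coordinates cannot fall into two classes, one of them of size at least five. -/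
theorem false_of_block {g : O F n} (hg : g ∈ M) {a b : Fin n} (hab : a ≠ b)
    (hwide : ∀ i, g.1 (e a) i ≠ 0 ∨ g.1 (e b) i ≠ 0) {K : Finset (Fin n)} (hK : 5 ≤ K.card)
    (hR : Kᶜ.Nonempty)
    (hKK : ∀ i ∈ K, ∀ j ∈ K, dd (g.1 (e a)) (g.1 (e b)) i j = 0)
    (hRR : ∀ i, i ∉ K → ∀ j, j ∉ K → dd (g.1 (e a)) (g.1 (e b)) i j = 0)
    (hKR : ∀ i ∈ K, ∀ j, j ∉ K → dd (g.1 (e a)) (g.1 (e b)) i j ≠ 0) : False := by
  classical
  have h2 := hO.two
  set u := g.1 (e a) with hu
  set w := g.1 (e b) with hw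
  obtain ⟨p, hp⟩ := hR
  rw [Finset.mem_compl] at hp
  obtain ⟨q, hq⟩ : K.Nonempty := Finset.card_pos.1 (by omega)
  -- the rows of different classes are orthogonal
  have horth : ∀ k ∈ K, ∀ r, r ∉ K → u k * u r + w k * w r = 0 := by
    intro k hk r hr
    have hxy : (fun i => dd u w i r) ⬝ᵥ (fun i => dd u w i k) = 0 := Finset.sum_eq_zero fun i _ => by
      by_cases hi : i ∈ K
      · simp [hKK i hi k hk]
      · simp [hRR i hi r hr]
    have huu : u ⬝ᵥ u = 1 := by rw [hu, std_map, e_dot, e_same]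
    have hww : w ⬝ᵥ w = 1 := by rw [hw, std_map, e_dot, e_same]
    have huw : u ⬝ᵥ w = 0 := by rw [hu, hw, dot_isom h2, e_dot_e, if_neg hab]
    have hx : ∀ r', (fun i => dd u w i r') = w r' • u - u r' • w := fun r' => by
      funext i; simp only [dd, Pi.sub_apply, Pi.smul_apply, smul_eq_mul]; ring
    rw [hx, hx] at hxy
    simp only [sub_dotProduct, dotProduct_sub, smul_dotProduct, dotProduct_smul, smul_eq_mul,
      dotProduct_comm w u, huu, hww, huw] at hxy
    linear_combination hxy
  set Q : F := u p * u p + w p * w p with hQ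
  have hQ0 : Q ≠ 0 := by
    intro h
    have hup : u p ≠ 0 := fun h' => by
      rw [hQ, h'] at h
      have hwp : w p = 0 := mul_self_eq_zero.1 (by linear_combination h)
      rcases hwide p with h'' | h''
      exacts [h'' h', h'' hwp]
    have hd := hKR q hq p hp
    rw [dd] at hd
    refine hd ((mul_eq_zero.1 (show u p * (u q * w p - u p * w q) = 0 by
      linear_combination w p * horth q hq p hp - w q * h)).resolve_left hup)
  set x : Fin n → F := fun k => dd u w k p with hx
  have hform : ∀ k ∈ K, ∀ m ∈ K, Q * (u k * u m + w k * w m) = x k * x m := by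
    intro k hk m hm
    simp only [hx, dd, hQ]
    linear_combination (u p * u m + w p * w m) * horth k hk p hp
  obtain ⟨p₀, hp₀, q₀, hq₀, hpq, hnz⟩ :
      ∃ p₀ ∈ K, ∃ q₀ ∈ K, p₀ ≠ q₀ ∧ x p₀ * x p₀ + x q₀ * x q₀ ≠ 0 := by
    by_contra h
    push Not at h
    obtain ⟨i, hi⟩ : K.Nonempty := ⟨q, hq⟩
    obtain ⟨j, hj, k, hk, hjk⟩ := Finset.one_lt_card.1 (show 1 < (K.erase i).card by
      rw [Finset.card_erase_of_mem hi]; omega)
    obtain ⟨hji, hj⟩ := Finset.mem_erase.1 hj
    obtain ⟨hki, hk⟩ := Finset.mem_erase.1 hk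
    refine hKR i hi p hp ?_
    show x i = 0
    exact mul_self_eq_zero.1 ((mul_eq_zero.1 (show 2 * (x i * x i) = 0 by
      linear_combination h i hi j hj hji.symm + h i hi k hk hki.symm - h j hj k hk hjk)).resolve_left h2)
  set t : O F n := flips {p₀, q₀} with ht
  set s : O F n := g * flips {a, b} * g⁻¹ with hs
  have hsapply : ∀ y, s.1 y = y - (2 * (u ⬝ᵥ y)) • u - (2 * (w ⬝ᵥ y)) • w := by
    intro y
    show g.1 ((flips {a, b}).1 ((g⁻¹).1 y)) = _
    have e1 : (flips {a, b} : O F n).1 ((g⁻¹).1 y) =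
        (g⁻¹).1 y - (2 * (g⁻¹).1 y a) • e a - (2 * (g⁻¹).1 y b) • e b := by
      funext i
      simp only [flips_apply, Pi.sub_apply, Pi.smul_apply, smul_eq_mul, Finset.mem_insert, Finset.mem_singleton]
      rcases eq_or_ne i a with rfl | hia
      · rw [if_pos (Or.inl rfl), e_same, e_ne hab]; ring
      · rcases eq_or_ne i b with rfl | hib
        · rw [if_pos (Or.inr rfl), e_same, e_ne hia]; ring
        · rw [if_neg (by simp [hia, hib]), e_ne hia, e_ne hib]; ring
    rw [e1, map_sub, map_sub, map_smul, map_smul, apply_inv', ← dot_e ((g⁻¹).1 y) a,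
      ← dot_e ((g⁻¹).1 y) b, ← dot_isom h2 g, ← dot_isom h2 g ((g⁻¹).1 y) (e b), apply_inv',
      dotProduct_comm y, dotProduct_comm y, ← hu, ← hw]
  have hscoord : ∀ k i, s.1 (e k) i = (e k : Fin n → F) i - 2 * (u k * u i + w k * w i) := fun k i => by
    rw [hsapply]; simp only [dot_e, Pi.sub_apply, Pi.smul_apply, smul_eq_mul]; ring
  have hsM : s ∈ M := M.mul_mem (M.mul_mem hg (hO.pair_mem hab)) (M.inv_mem hg)
  set h : O F n := s * t * (s * t) with hh
  have hhM : h ∈ M := M.mul_mem (M.mul_mem hsM (hO.pair_mem hpq)) (M.mul_mem hsM (hO.pair_mem hpq))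
  -- it fixes the frame vector of `p`
  have htp : t.1 (e p) = e p := by
    have hnot : p ∉ ({p₀, q₀} : Finset (Fin n)) := fun hmem => by
      simp only [Finset.mem_insert, Finset.mem_singleton] at hmem
      rcases hmem with rfl | rfl
      exacts [hp hp₀, hp hq₀]
    rw [ht, flips_e, if_neg hnot, one_smul]
  have hts : t.1 (s.1 (e p)) = s.1 (e p) := fix_of_fix_e t fun c => by
    by_cases hc : c ∈ ({p₀, q₀} : Finset (Fin n))
    · left
      have hcK : c ∈ K := by
        simp only [Finset.mem_insert, Finset.mem_singleton] at hc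
        rcases hc with rfl | rfl <;> assumption
      rw [hscoord, e_ne (show c ≠ p from fun e' => hp (e' ▸ hcK))]
      linear_combination -2 * horth c hcK p hp
    · right; rw [ht, flips_e, if_neg hc, one_smul]
  have hs2 : s * s = 1 := by
    rw [hs]
    calc g * flips {a, b} * g⁻¹ * (g * flips {a, b} * g⁻¹) = g * (flips {a, b} * flips {a, b}) * g⁻¹ := by
          group
      _ = 1 := by rw [flips_self, mul_one, mul_inv_cancel]
  have hhp : h.1 (e p) = e p := by
    show s.1 (t.1 (s.1 (t.1 (e p)))) = e p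
    rw [htp, hts]
    exact congrArg (fun q : O F n => q.1 (e p)) hs2
  have hmon := hL h hhM p hhp
  -- but it is not monomial
  obtain ⟨k, hk, hkp, hkq, -, -⟩ := exists_ne_four hK p₀ q₀ p₀ q₀
  obtain ⟨l, c, hl⟩ := hmon k
  obtain ⟨m, hm, hmp, hmq, hmk, hml⟩ := exists_ne_four hK p₀ q₀ k l
  have hexp : h.1 (e k) m = -8 * ((u k * u p₀ + w k * w p₀) * (u p₀ * u m + w p₀ * w m) +
      (u k * u q₀ + w k * w q₀) * (u q₀ * u m + w q₀ * w m)) := by
    have htk : t.1 (e k) = e k := by rw [ht, flips_e, if_neg (by simp [hkp, hkq]), one_smul]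
    have htsk : t.1 (s.1 (e k)) = s.1 (e k) + (4 * (u k * u p₀ + w k * w p₀)) • e p₀ +
        (4 * (u k * u q₀ + w k * w q₀)) • e q₀ := by
      funext i
      simp only [ht, flips_apply, Pi.add_apply, Pi.smul_apply, smul_eq_mul, Finset.mem_insert, Finset.mem_singleton]
      rcases eq_or_ne i p₀ with rfl | hip
      · rw [if_pos (Or.inl rfl), hscoord, e_same, e_ne hpq, e_ne (Ne.symm hkp)]; ring
      · rcases eq_or_ne i q₀ with rfl | hiq
        · rw [if_pos (Or.inr rfl), hscoord, e_same, e_ne hip, e_ne (Ne.symm hkq)]; ring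
        · rw [if_neg (by simp [hip, hiq]), e_ne hip, e_ne hiq]; ring
    show s.1 (t.1 (s.1 (t.1 (e k)))) m = _
    rw [htk, htsk, map_add, map_add, map_smul, map_smul,
      show s.1 (s.1 (e k)) = e k from congrArg (fun q : O F n => q.1 (e k)) hs2]
    simp only [Pi.add_apply, Pi.smul_apply, smul_eq_mul, hscoord, e_ne hmk, e_ne hmp, e_ne hmq]
    ring
  have hz : h.1 (e k) m = 0 := by rw [hl]; exact smul_e_coord c l m hml
  have h8' : (-8 : F) ≠ 0 := fun h0 => h2 (mul_self_eq_zero.1 (mul_self_eq_zero.1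
    (show 2 * 2 * (2 * 2) = (0 : F) by linear_combination -2 * h0)))
  have hxne : ∀ i ∈ K, x i ≠ 0 := fun i hi => hKR i hi p hp
  refine mul_ne_zero (mul_ne_zero (mul_ne_zero h8' (hxne k hk)) (hxne m hm)) hnz ?_
  have e1 := hform k hk p₀ hp₀
  have e2 := hform p₀ hp₀ m hm
  have e3 := hform k hk q₀ hq₀
  have e4 := hform q₀ hq₀ m hm
  rw [hexp] at hz
  linear_combination Q * Q * hz + 8 * (Q * (u p₀ * u m + w p₀ * w m)) * e1 + 8 * (x k * x p₀) * e2 +
    8 * (Q * (u q₀ * u m + w q₀ * w m)) * e3 + 8 * (x k * x q₀) * e4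

theorem false_of_wide {g : O F n} (hg : g ∈ M) (h8 : n ≠ 8) {a b : Fin n} (hab : a ≠ b)
    (hwide : ∀ i, g.1 (e a) i ≠ 0 ∨ g.1 (e b) i ≠ 0) : False := by
  classical
  set u := g.1 (e a) with hu
  set w := g.1 (e b) with hw
  let K : Fin n → Finset (Fin n) := fun i => Finset.univ.filter fun j => dd u w i j = 0
  have hmemK : ∀ i j, j ∈ K i ↔ dd u w i j = 0 := fun i j => by simp [K]
  have hKK : ∀ i, ∀ x ∈ K i, ∀ y ∈ K i, dd u w x y = 0 := fun i x hx y hy =>
    dd_trans (hwide i) ((hmemK i x).1 hx) ((hmemK i y).1 hy)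
  have hKout : ∀ i, ∀ x ∈ K i, ∀ y, y ∉ K i → dd u w x y ≠ 0 := fun i x hx y hy h => by
    refine hy ((hmemK i y).2 (dd_trans (hwide x) ?_ h))
    rw [dd_symm, (hmemK i x).1 hx, neg_zero]
  have hindS : ∀ S : Finset (Fin n), 4 ≤ S.card → (∀ c ∈ S, (K c ∩ S).card + 3 ≤ S.card) →
      ∀ i j, ∃ c ∈ S, ∃ d ∈ S, c ≠ i ∧ c ≠ j ∧ d ≠ i ∧ d ≠ j ∧ dd u w c d ≠ 0 := by
    intro S hS hsmall i j
    have hp : ({i, j} : Finset (Fin n)).card ≤ 2 := Finset.card_le_two
    obtain ⟨c, hc, hc'⟩ := Finset.exists_mem_notMem_of_card_lt_card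
      (show ({i, j} : Finset (Fin n)).card < S.card by omega)
    obtain ⟨d, hd, hd'⟩ := Finset.exists_mem_notMem_of_card_lt_card
      (show (K c ∩ S ∪ {i, j}).card < S.card by
        have := hsmall c hc
        have := Finset.card_union_le (K c ∩ S) {i, j}
        omega)
    simp only [Finset.mem_union, Finset.mem_inter, Finset.mem_insert, Finset.mem_singleton, not_or] at hc' hd'
    exact ⟨c, hc, d, hd, hc'.1, hc'.2, hd'.2.1, hd'.2.2, fun h => hd'.1 ⟨(hmemK c d).2 h, hd⟩⟩
  by_cases hbig : 9 ≤ n ∧ ∃ i, 4 ≤ (K i).card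
  · obtain ⟨hn9, i, h4⟩ := hbig
    obtain ⟨S, hS, hS4⟩ := Finset.exists_subset_card_eq h4
    exact false_of_good hO hn hL hg hab hwide (S := S) (by omega) (by rw [hS4]; decide)
      (Or.inl fun x hx y hy => hKK i x (hS hx) y (hS hy))
      (Or.inr (Or.inl (by rw [Finset.card_compl, Fintype.card_fin]; omega)))
  push Not at hbig
  by_cases hn10 : 10 ≤ n
  · have hbig' : ∀ i, (K i).card ≤ 3 := fun i => by have := hbig (by omega) i; omega
    have hgrow : ∀ k ≤ 4, ∃ S : Finset (Fin n), S.card = k ∧ ∀ i ∈ S, ∀ j ∈ S, i ≠ j → dd u w i j ≠ 0 := by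
      intro k hk
      induction k with
      | zero => exact ⟨∅, by simp, by simp⟩
      | succ k ih =>
        obtain ⟨S, hSk, hSp⟩ := ih (by omega)
        have hle : (S.biUnion K).card ≤ 9 := by
          refine Finset.card_biUnion_le.trans ((Finset.sum_le_card_nsmul _ _ 3 fun y _ => hbig' y).trans ?_)
          rw [smul_eq_mul]; omega
        obtain ⟨x, -, hxS⟩ := Finset.exists_mem_notMem_of_card_lt_card
          (show (S.biUnion K).card < (Finset.univ : Finset (Fin n)).card by
            rw [Finset.card_univ, Fintype.card_fin]; omega)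
        have hne : ∀ y ∈ S, dd u w y x ≠ 0 := fun y hy h =>
          hxS (Finset.mem_biUnion.2 ⟨y, hy, (hmemK y x).2 h⟩)
        have hxs : x ∉ S := fun h => hne x h (by rw [dd, sub_self])
        refine ⟨insert x S, by rw [Finset.card_insert_of_notMem hxs, hSk], ?_⟩
        intro i hi j hj hij
        rcases Finset.mem_insert.1 hi with rfl | hiS <;> rcases Finset.mem_insert.1 hj with rfl | hjS
        · exact absurd rfl hij
        · rw [dd_symm]; exact neg_ne_zero.2 (hne j hjS)
        · exact hne i hiS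
        · exact hSp i hiS j hjS hij
    obtain ⟨S, hS4, hSp⟩ := hgrow 4 le_rfl
    refine false_of_good hO hn hL hg hab hwide (S := S) (by omega) (by rw [hS4]; decide)
      (Or.inr (hindS S (by omega) fun c hc => ?_))
      (Or.inr (Or.inl (by rw [Finset.card_compl, Fintype.card_fin]; omega)))
    have hle : (K c ∩ S).card ≤ ({c} : Finset (Fin n)).card := Finset.card_le_card fun d hd => by
      rw [Finset.mem_inter, hmemK] at hd
      rw [Finset.mem_singleton]
      by_contra hne
      exact hSp c hc d hd.2 (Ne.symm hne) hd.1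
    rw [Finset.card_singleton] at hle
    omega
  -- seven or nine coordinates
  have hn79 : n = 7 ∨ n = 9 := by omega
  by_cases hall : ∀ i, (K i).card + 3 ≤ n
  · obtain ⟨o, ho⟩ : ∃ o, ∀ c, c ≠ o → (K c ∩ ({o} : Finset (Fin n))ᶜ).card + 3 ≤ n - 1 := by
      by_cases hmax : ∃ i, (K i).card + 3 = n
      · obtain ⟨i, hi⟩ := hmax
        obtain ⟨o, ho⟩ : (K i).Nonempty := Finset.card_pos.1 (by omega)
        refine ⟨o, fun c _ => ?_⟩
        have hlt : (K c ∩ ({o} : Finset (Fin n))ᶜ).card ≤ (K c).card := Finset.card_le_card Finset.inter_subset_left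
        by_cases hc : c ∈ K i
        · have hoc : o ∈ K c := (hmemK c o).2 (hKK i c hc o ho)
          have : (K c ∩ ({o} : Finset (Fin n))ᶜ).card < (K c).card := Finset.card_lt_card (by
            rw [Finset.ssubset_iff_of_subset Finset.inter_subset_left]
            exact ⟨o, hoc, by simp⟩)
          have := hall c
          omega
        · have hdis : Disjoint (K c) (K i) := Finset.disjoint_left.2 fun x hx hx' =>
            hKout i x hx' c hc (by rw [dd_symm, (hmemK c x).1 hx, neg_zero])
          have := Finset.card_union_of_disjoint hdis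
          have := Finset.card_le_univ (K c ∪ K i)
          rw [Fintype.card_fin] at this
          omega
      · push Not at hmax
        refine ⟨⟨0, by omega⟩, fun c _ => ?_⟩
        have := Finset.card_le_card (Finset.inter_subset_left (s₁ := K c) (s₂ := ({⟨0, by omega⟩} : Finset (Fin n))ᶜ))
        have := hall c
        have := hmax c
        omega
    have hScard : (({o} : Finset (Fin n))ᶜ).card = n - 1 := by
      rw [Finset.card_compl, Fintype.card_fin, Finset.card_singleton]
    refine false_of_good hO hn hL hg hab hwide (S := ({o} : Finset (Fin n))ᶜ) (by omega) ?_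
      (Or.inr (hindS _ (by omega) fun c hc => ?_)) (Or.inl (by rw [compl_compl, Finset.card_singleton]))
    · rw [hScard]
      rcases hn79 with rfl | rfl <;> decide
    · rw [hScard]
      exact ho c (by simpa using hc)
  push Not at hall
  obtain ⟨i, hi⟩ := hall
  have h7 : n = 7 := by
    rcases hn79 with h | h
    · exact h
    · have := hbig (by omega) i; omega
  have hRne : (K i)ᶜ.Nonempty := by
    rw [Finset.nonempty_iff_ne_empty, Ne, Finset.compl_eq_empty_iff]
    intro hKu
    obtain ⟨x, y, hxy⟩ := exists_dd_ne (u := u) (w := w) (by rw [hu, std_map, e_dot, e_same])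
      (by rw [hw, std_map, e_dot, e_same]) (by rw [hu, hw, dot_isom hO.two, e_dot_e, if_neg hab])
    exact hxy (hKK i x (by simp [hKu]) y (by simp [hKu]))
  by_cases hone : ∀ p, p ∉ K i → ∀ q, q ∉ K i → dd u w p q = 0
  · exact false_of_block hO hn hL hg hab hwide (K := K i) (by omega) hRne (hKK i) hone (hKout i)
  push Not at hone
  obtain ⟨p, hp, q, hq, hpq⟩ := hone
  have hpq' : p ≠ q := fun h => hpq (by rw [h, dd, sub_self])
  obtain ⟨S, hS, hS4⟩ := Finset.exists_subset_card_eq (show 4 ≤ (K i).card by omega)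
  have hpS : p ∉ S := fun h => hp (hS h)
  have hqS : q ∉ S := fun h => hq (hS h)
  obtain ⟨c, hc, hc'⟩ := Finset.exists_mem_notMem_of_card_lt_card (show S.card < (K i).card by omega)
  have hcard : Sᶜ.card = 3 := by rw [Finset.card_compl, Fintype.card_fin]; omega
  refine false_of_good hO hn hL hg hab hwide (S := S) (by omega) (by rw [hS4]; decide)
    (Or.inl fun x hx y hy => hKK i x (hS hx) y (hS hy)) (Or.inr (Or.inr ⟨hcard, ?_⟩))
  have hcp : c ≠ p := fun h => hp (h ▸ hc)
  have hcq : c ≠ q := fun h => hq (h ▸ hc)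
  have hSc : ({c, p, q} : Finset (Fin n)) = Sᶜ := Finset.eq_of_subset_of_card_le
    (by
      intro x hx
      simp only [Finset.mem_insert, Finset.mem_singleton] at hx
      rw [Finset.mem_compl]
      rcases hx with rfl | rfl | rfl <;> assumption)
    (by rw [hcard, Finset.card_eq_three.2 ⟨c, p, q, hcp, hcq, hpq', rfl⟩])
  intro x hx y hy hxy
  rw [← hSc] at hx hy
  simp only [Finset.mem_insert, Finset.mem_singleton] at hx hy
  have n1 := hKout i c hc p hp
  have n2 := hKout i c hc q hq
  rcases hx with rfl | rfl | rfl <;> rcases hy with rfl | rfl | rfl <;>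
    first
      | exact absurd rfl hxy
      | assumption
      | (rw [dd_symm]; exact neg_ne_zero.2 (by assumption))

end Step

/-- An element outside the monomial group fixing a frame vector. -/
theorem exists_one (hO : Over M) (hn : 7 ≤ n) (h8 : n ≠ 8) {g : O F n} (hg : g ∈ M)
    (hgm : g ∉ (Mon : Subgroup (O F n))) :
    ∃ j, ∃ h ∈ M, h.1 (e j) = e j ∧ h ∉ (Mon : Subgroup (O F n)) := by
  classical
  by_contra hno
  push Not at hno
  have hL : ∀ g ∈ M, ∀ k, g.1 (e k) = e k → g ∈ (Mon : Subgroup (O F n)) := fun g hg k hk => hno k g hg hk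
  obtain ⟨a, b, hab, hwide⟩ := exists_wide hO hn hL h8 hg hgm
  exact false_of_wide hO hn hL hg h8 hab hwide

end CfsgLib.Classical.FrameMax
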