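import Cfsg.Agent.Lib.Classical.FrameMax.Basic

/-!
# An overgroup of the monomial group has an element outside it fixing three frame vectors
-/

set_option autoImplicit false
set_option linter.unusedSectionVars false

namespace CfsgLib.Classical.FrameMax

open Module QuadraticMap Matrix CfsgLib.Orth

variable {F : Type*} [Field F] [Fintype F] {n : ℕ}

/-- The sets of a size bound. -/
theorem two_mul_le_two_pow : ∀ k : ℕ, 2 * k ≤ 2 ^ k
  | 0 => by simp
  | 1 => by simp
  | k + 2 => by
    have := two_mul_le_two_pow (k + 1)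
    rw [pow_succ]
    omega

/-- An elementary abelian group of permutations of `s` has square of order at most `2 ^ #s`. -/
theorem card_exp_two_sq_le {α : Type*} [Fintype α] [DecidableEq α] (s : Finset α) :
    ∀ P : Subgroup (Equiv.Perm α), (∀ p ∈ P, p * p = 1) → (∀ p ∈ P, ∀ x ∉ s, p x = x) →
      Nat.card P * Nat.card P ≤ 2 ^ s.card := by
  classical
  induction s using Finset.strongInduction with
  | _ s ih =>
  intro P hexp hfix
  have hcomm : ∀ p ∈ P, ∀ q ∈ P, p * q = q * p := by
    intro p hp q hq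
    have hp' : p⁻¹ = p := inv_eq_of_mul_eq_one_left (hexp p hp)
    have hq' : q⁻¹ = q := inv_eq_of_mul_eq_one_left (hexp q hq)
    have h := inv_eq_of_mul_eq_one_left (hexp _ (P.mul_mem hp hq))
    rw [_root_.mul_inv_rev, hp', hq'] at h
    exact h.symm
  rcases s.eq_empty_or_nonempty with rfl | ⟨x, hx⟩
  · have : P = ⊥ := (Subgroup.eq_bot_iff_forall P).2 fun p hp => Equiv.ext fun y =>
      hfix p hp y (Finset.notMem_empty y)
    subst this
    simp
  set B : Finset α := Finset.univ.filter fun y => ∃ p : P, p.1 x = y with hB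
  have hmemB : ∀ y, y ∈ B ↔ ∃ p : P, p.1 x = y := fun y => by simp [hB]
  have hxB : x ∈ B := (hmemB x).2 ⟨1, rfl⟩
  have hBs : B ⊆ s := by
    intro y hy
    obtain ⟨p, rfl⟩ := (hmemB y).1 hy
    by_contra h
    have h' : p.1 x = x := p.1.injective (hfix p.1 p.2 _ h)
    exact h (h'.symm ▸ hx)
  have hBinv : ∀ p : P, ∀ y, p.1 y ∈ B → y ∈ B := by
    intro p y hy
    obtain ⟨q, hq⟩ := (hmemB _).1 hy
    refine (hmemB y).2 ⟨p⁻¹ * q, ?_⟩
    show (p.1⁻¹ * q.1 : Equiv.Perm α) x = y
    rw [Equiv.Perm.mul_apply, hq]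
    exact p.1.symm_apply_apply y
  have hBinv' : ∀ p : P, ∀ y, y ∈ B → p.1 y ∈ B := fun p y hy => by
    obtain ⟨q, hq⟩ := (hmemB _).1 hy
    exact (hmemB _).2 ⟨p * q, by rw [← hq]; rfl⟩
  have hst : ∀ p : P, ∀ y, p.1 y ∉ B ↔ y ∉ B := fun p y =>
    ⟨fun h h' => h (hBinv' p y h'), fun h h' => h (hBinv p y h')⟩
  let r : P →* Equiv.Perm α := MonoidHom.mk'
    (fun p => Equiv.Perm.ofSubtype (p.1.subtypePerm (p := fun y => y ∉ B) (hst p)))
    fun p q => by rw [← map_mul]; rfl
  have hr_out : ∀ (p : P) y, y ∉ B → r p y = p.1 y := fun p y hy =>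
    Equiv.Perm.ofSubtype_apply_of_mem (p.1.subtypePerm (p := fun y => y ∉ B) (hst p)) hy
  have hr_in : ∀ (p : P) y, y ∈ B → r p y = y := fun p y hy =>
    Equiv.Perm.ofSubtype_apply_of_not_mem (p.1.subtypePerm (p := fun y => y ∉ B) (hst p)) (not_not.2 hy)
  have hlt : s \ B ⊂ s := Finset.sdiff_ssubset hBs ⟨x, hxB⟩
  have himg := ih _ hlt r.range
    (by rintro _ ⟨p, rfl⟩
        rw [← map_mul, show p * p = 1 from Subtype.ext (hexp p.1 p.2), map_one])
    (by rintro _ ⟨p, rfl⟩ y hy
        by_cases hyB : y ∈ B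
        · exact hr_in p y hyB
        · rw [hr_out p y hyB]
          exact hfix p.1 p.2 y fun h => hy (Finset.mem_sdiff.2 ⟨h, hyB⟩))
  have hmul : Nat.card P = Nat.card r.range * Nat.card r.ker := by
    rw [← Nat.card_congr (QuotientGroup.quotientKerEquivRange r).toEquiv]
    exact Subgroup.card_eq_card_quotient_mul_card_subgroup _
  have hker : Nat.card r.ker ≤ B.card := by
    rw [← Nat.card_eq_finsetCard]
    refine Nat.card_le_card_of_injective (fun p => (⟨p.1.1 x, (hmemB _).2 ⟨p.1, rfl⟩⟩ : B)) ?_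
    intro p q hpq
    have hpq' : p.1.1 x = q.1.1 x := congrArg Subtype.val hpq
    refine Subtype.ext (Subtype.ext (Equiv.ext fun y => ?_))
    by_cases hy : y ∈ B
    · obtain ⟨t, rfl⟩ := (hmemB y).1 hy
      rw [← Equiv.Perm.mul_apply, ← Equiv.Perm.mul_apply, hcomm _ p.1.2 _ t.2, hcomm _ q.1.2 _ t.2,
        Equiv.Perm.mul_apply, Equiv.Perm.mul_apply, hpq']
    · rw [← hr_out p.1 y hy, ← hr_out q.1 y hy, MonoidHom.mem_ker.1 p.2, MonoidHom.mem_ker.1 q.2]
  obtain ⟨k, hk⟩ : ∃ k, Nat.card r.ker = 2 ^ k := by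
    haveI : Fact (Nat.Prime 2) := ⟨Nat.prime_two⟩
    exact IsPGroup.iff_card.1 fun p => ⟨1, by
      rw [pow_one, pow_two]; exact Subtype.ext (Subtype.ext (hexp p.1.1 p.1.2))⟩
  have h1 : Nat.card r.ker * Nat.card r.ker ≤ 2 ^ B.card :=
    calc Nat.card r.ker * Nat.card r.ker = 2 ^ (2 * k) := by rw [hk, ← pow_add, two_mul]
      _ ≤ 2 ^ 2 ^ k := Nat.pow_le_pow_right two_pos (two_mul_le_two_pow k)
      _ ≤ 2 ^ B.card := Nat.pow_le_pow_right two_pos (hk ▸ hker)
  calc Nat.card P * Nat.card P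
      = (Nat.card r.range * Nat.card r.range) * (Nat.card r.ker * Nat.card r.ker) := by rw [hmul]; ring
    _ ≤ 2 ^ (s \ B).card * 2 ^ B.card := Nat.mul_le_mul himg h1
    _ = 2 ^ s.card := by rw [← pow_add, Finset.card_sdiff_add_card_eq_card hBs]

/-- If the frame vectors of `X` are sent into the coordinates of `Y` then `#X ≤ #Y`. -/
theorem card_le_of_supp (g : O F n) (X Y : Finset (Fin n))
    (h : ∀ a ∈ X, ∀ i, i ∉ Y → g.1 (e a) i = 0) : X.card ≤ Y.card := by
  classical
  let ext0 : (X → F) → (Fin n → F) := fun c a => if ha : a ∈ X then c ⟨a, ha⟩ else 0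
  have hinj : Function.Injective fun c : X → F => fun i : Y => g.1 (ext0 c) i.1 := by
    intro c d hcd
    have hv : g.1 (ext0 c) = g.1 (ext0 d) := by
      funext i
      by_cases hi : i ∈ Y
      · exact congrFun hcd ⟨i, hi⟩
      · rw [map_coord_zero g, map_coord_zero g]
        all_goals
          intro a
          by_cases ha : a ∈ X
          · exact Or.inr (h a ha i hi)
          · exact Or.inl (dif_neg ha)
    funext a
    have := congrFun (g.1.injective hv) a.1
    simpa [ext0] using this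
  have := Nat.card_le_card_of_injective _ hinj
  simp only [Nat.card_eq_fintype_card, Fintype.card_pi, Finset.prod_const, Finset.card_univ, Fintype.card_coe] at this
  exact (Nat.pow_le_pow_iff_right Fintype.one_lt_card).1 this

/-- The data of an overgroup inside `Ω`. -/
structure Over (M : Subgroup (O F n)) : Prop where
  two : (2 : F) ≠ 0
  flips' : ∀ S : Finset (Fin n), Even S.card → flips S ∈ M
  perm' : ∀ π : Equiv.Perm (Fin n), Equiv.Perm.sign π = 1 → permO π ∈ M
  le : M ≤ commutator (O F n)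

variable {M : Subgroup (O F n)}

theorem Over.flips_mem (hO : Over M) {S : Finset (Fin n)} (hS : Even S.card) : flips S ∈ M :=
  hO.flips' S hS

theorem Over.pair_mem (hO : Over M) {a b : Fin n} (h : a ≠ b) : flips {a, b} ∈ M :=
  hO.flips_mem (by rw [Finset.card_pair h]; exact even_two)

theorem Over.perm_mem (hO : Over M) {π : Equiv.Perm (Fin n)} (h : Equiv.Perm.sign π = 1) :
    permO π ∈ M :=
  hO.perm' π h

/-- The three-cycle `a → b → c → a`. -/
def cyc (a b c : Fin n) : Equiv.Perm (Fin n) := Equiv.swap a b * Equiv.swap b c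

theorem sign_cyc {a b c : Fin n} (hab : a ≠ b) (hbc : b ≠ c) : Equiv.Perm.sign (cyc a b c) = 1 := by
  rw [cyc, map_mul, Equiv.Perm.sign_swap hab, Equiv.Perm.sign_swap hbc]; rfl

theorem cyc_left {a b c : Fin n} (hab : a ≠ b) (hac : a ≠ c) : cyc a b c a = b := by
  simp [cyc, Equiv.swap_apply_of_ne_of_ne hab hac]

theorem cyc_mid {a b c : Fin n} (hac : a ≠ c) (hbc : b ≠ c) : cyc a b c b = c := by
  simp [cyc, Equiv.swap_apply_of_ne_of_ne (Ne.symm hac) (Ne.symm hbc)]

theorem cyc_right {a b c : Fin n} : cyc a b c c = a := by simp [cyc]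

theorem cyc_of_ne {a b c x : Fin n} (ha : x ≠ a) (hb : x ≠ b) (hc : x ≠ c) : cyc a b c x = x := by
  simp [cyc, Equiv.swap_apply_of_ne_of_ne hb hc, Equiv.swap_apply_of_ne_of_ne ha hb]

theorem exists_ne_four {s : Finset (Fin n)} (hs : 5 ≤ s.card) (a b c d : Fin n) :
    ∃ x ∈ s, x ≠ a ∧ x ≠ b ∧ x ≠ c ∧ x ≠ d := by
  classical
  have h4 : ({a, b, c, d} : Finset (Fin n)).card ≤ 4 := Finset.card_le_four
  obtain ⟨x, hx, hx'⟩ := Finset.exists_mem_notMem_of_card_lt_card (show ({a, b, c, d} : Finset (Fin n)).card < s.card by omega)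
  exact ⟨x, hx, by simp at hx'; exact hx'⟩

section Step

variable (hO : Over M) (hn : 7 ≤ n)
  (hL : ∀ g ∈ M, ∀ k, g.1 (e k) = e k → g ∈ (Mon : Subgroup (O F n)))

include hO hn hL

theorem mon_of_map {g : O F n} (hg : g ∈ M) {k l : Fin n} {c : F}
    (h : g.1 (e k) = c • e l) : g ∈ (Mon : Subgroup (O F n)) := by
  classical
  have hcc := coord_sq g h
  obtain ⟨z, -, hzk, hzl, -, -⟩ := exists_ne_four (s := (Finset.univ : Finset (Fin n)))
    (by rw [Finset.card_univ, Fintype.card_fin]; omega) k l k l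
  obtain ⟨π, hπ, hπl⟩ : ∃ π : Equiv.Perm (Fin n), Equiv.Perm.sign π = 1 ∧ π l = k := by
    rcases eq_or_ne l k with rfl | hlk
    · exact ⟨1, map_one _, rfl⟩
    · exact ⟨cyc l k z, sign_cyc hlk hzk.symm, cyc_left hlk hzl.symm⟩
  obtain ⟨S, hS, hSk⟩ : ∃ S : Finset (Fin n), Even S.card ∧ (if k ∈ S then (-1 : F) else 1) * c = 1 := by
    rcases mul_self_eq_one_iff.1 hcc with rfl | rfl
    · exact ⟨∅, by simp, by simp⟩
    · exact ⟨{k, z}, by rw [Finset.card_pair hzk.symm]; exact even_two, by simp⟩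
  set w : O F n := flips S * permO π with hw
  have hwM : w ∈ M := M.mul_mem (hO.flips_mem hS) (hO.perm_mem hπ)
  have hwmon : w ∈ (Mon : Subgroup (O F n)) := mul_mem (diag_le_mon (flips_mem_diag S)) (permO_mem_mon π)
  have := hL (w * g) (M.mul_mem hwM hg) k (by
    rw [mul_apply', h, map_smul, hw, mul_apply', permO_e, hπl, flips_e, smul_smul, mul_comm,
      hSk, one_smul])
  have h' := mul_mem (inv_mem hwmon) this
  rwa [inv_mul_cancel_left] at h'

theorem mon_of_split {g : O F n} (hg : g ∈ M) {X Y : Finset (Fin n)} (hne : X.Nonempty)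
    (hgX : ∀ a ∈ X, ∀ i, i ∉ Y → g.1 (e a) i = 0)
    (hgX' : ∀ a, a ∉ X → ∀ i ∈ Y, g.1 (e a) i = 0)
    (h3 : 3 ≤ Xᶜ.card) (h5 : Yᶜ.card = 3 ∨ 5 ≤ Yᶜ.card) : g ∈ (Mon : Subgroup (O F n)) := by
  classical
  obtain ⟨y₀, hy₀⟩ : Y.Nonempty := by
    rw [← Finset.card_pos]
    have := card_le_of_supp g X Y hgX
    have := hne.card_pos
    omega
  -- conjugates of the pairs
  have key : ∀ a ∈ Xᶜ, ∀ b ∈ Xᶜ, a ≠ b → g * flips {a, b} * g⁻¹ ∈ (Diag : Subgroup (O F n)) := by
    intro a ha b hb hab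
    rw [Finset.mem_compl] at ha hb
    set t : O F n := flips {a, b} with ht
    set h : O F n := g * t * g⁻¹ with hh
    have hhM : h ∈ M := M.mul_mem (M.mul_mem hg (hO.pair_mem hab)) (M.inv_mem hg)
    have hhY : ∀ y ∈ Y, h.1 (e y) = e y := by
      intro y hy
      show g.1 (t.1 ((g⁻¹).1 (e y))) = e y
      rw [fix_of_fix_e t, apply_inv']
      intro c
      by_cases hc : c ∈ ({a, b} : Finset (Fin n))
      · left
        rw [inv_coord hO.two]
        simp only [Finset.mem_insert, Finset.mem_singleton] at hc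
        rcases hc with rfl | rfl
        · exact hgX' _ ha y hy
        · exact hgX' _ hb y hy
      · right
        rw [ht, flips_e, if_neg hc, one_smul]
    have hhmon : h ∈ (Mon : Subgroup (O F n)) := hL h hhM y₀ (hhY _ hy₀)
    let hm : (Mon : Subgroup (O F n)) := ⟨h, hhmon⟩
    have hfixπ : ∀ i ∈ Y, img hm i = i := fun i hi =>
      img_eq hm (show h.1 (e i) = (1 : F) • e i by rw [one_smul]; exact hhY i hi)
    intro i
    suffices hii : img hm i = i by
      refine ⟨h.1 (e i) i, ?_⟩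
      have := img_spec hm i
      rwa [hii] at this
    by_contra hmv
    have hiout : i ∈ Yᶜ := by
      rw [Finset.mem_compl]
      exact fun hY' => hmv (hfixπ i hY')
    set b' := img hm i with hb'
    have hinj := img_injective hm
    have hout : ∀ x, img hm x ≠ x → img hm x ∈ Yᶜ := fun x hx => by
      rw [Finset.mem_compl]
      exact fun h' => hx (hinj (hfixπ _ h'))
    have hb'm := hout i hmv
    obtain ⟨x₀, hx₀⟩ := hne
    have hconj : ∀ τ : Equiv.Perm (Fin n), Equiv.Perm.sign τ = 1 → (∀ y ∈ Y, τ y = y) →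
        h * (permO τ * h * (permO τ)⁻¹) = permO τ * h * (permO τ)⁻¹ * h := by
      intro τ hsg hτfix
      set T : O F n := permO τ with hT
      set k : O F n := g⁻¹ * T * g with hk
      have hkmon : k ∈ (Mon : Subgroup (O F n)) :=
        hL k (M.mul_mem (M.mul_mem (M.inv_mem hg) (hO.perm_mem hsg)) hg) x₀ (by
          show (g⁻¹).1 (T.1 (g.1 (e x₀))) = e x₀
          rw [fix_of_fix_e T, inv_apply']
          intro c
          by_cases hc : c ∈ Y
          · right; rw [hT, permO_e, hτfix c hc]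
          · exact Or.inl (hgX _ hx₀ c hc))
      have h1 : T * h * T⁻¹ = g * (k * t * k⁻¹) * g⁻¹ := by rw [hh, hk]; group
      rw [h1, hh]
      have hd := diag_comm (flips_mem_diag (F := F) {a, b}) (diag_conj hkmon (flips_mem_diag {a, b}))
      rw [← ht] at hd
      calc g * t * g⁻¹ * (g * (k * t * k⁻¹) * g⁻¹) = g * (t * (k * t * k⁻¹)) * g⁻¹ := by group
        _ = g * (k * t * k⁻¹ * t) * g⁻¹ := by rw [hd]
        _ = _ := by group
    have himg : ∀ (τ : Equiv.Perm (Fin n)) (x : Fin n), img ⟨permO τ, permO_mem_mon τ⟩ x = τ x :=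
      fun τ x => img_eq ⟨permO τ, permO_mem_mon τ⟩ (show (permO τ : O F n).1 (e x) = (1 : F) • e (τ x) by
        rw [one_smul, permO_e])
    have hτinv : ∀ (τ : Equiv.Perm (Fin n)) (x : Fin n),
        img (⟨permO τ, permO_mem_mon τ⟩ : (Mon : Subgroup (O F n)))⁻¹ (τ x) = x := fun τ x => by
      rw [← himg τ x, ← img_mul, inv_mul_cancel]
      exact img_eq 1 (one_smul F (e x)).symm
    rcases h5 with h5 | h5
    · -- three coordinates outside `Y`
      have hb'i : img hm b' = i := by
        have hh2 : hm * hm = 1 := Subtype.ext (show h * h = 1 by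
          rw [hh, show g * t * g⁻¹ * (g * t * g⁻¹) = g * (t * t) * g⁻¹ by group, ht, flips_self, mul_one,
            mul_inv_cancel])
        rw [hb', ← img_mul, hh2]
        exact img_eq 1 (one_smul F (e i)).symm
      obtain ⟨l, hl, hl'⟩ := Finset.exists_mem_notMem_of_card_lt_card
        (show ({i, b'} : Finset (Fin n)).card < Yᶜ.card by
          have : ({i, b'} : Finset (Fin n)).card ≤ 2 := Finset.card_le_two
          omega)
      simp only [Finset.mem_insert, Finset.mem_singleton, not_or] at hl'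
      have hli : l ≠ i := hl'.1
      have hlb : l ≠ b' := hl'.2
      set τ : Equiv.Perm (Fin n) := cyc i b' l with hτ
      have hib : i ≠ b' := Ne.symm hmv
      have hτfix : ∀ y ∈ Y, τ y = y := fun y hy => by
        have hy' : ∀ x ∈ Yᶜ, y ≠ x := fun x hx e => Finset.mem_compl.1 hx (e ▸ hy)
        exact cyc_of_ne (hy' i hiout) (hy' b' hb'm) (hy' l hl)
      let tm : (Mon : Subgroup (O F n)) := ⟨permO τ, permO_mem_mon τ⟩
      have heq : img (hm * (tm * hm * tm⁻¹)) i = img (tm * hm * tm⁻¹ * hm) i :=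
        congrArg (fun q => img q i) (show hm * (tm * hm * tm⁻¹) = tm * hm * tm⁻¹ * hm from
          Subtype.ext (hconj τ (sign_cyc hib hlb.symm) hτfix))
      have hti : img tm⁻¹ i = l := by
        conv_lhs => rw [show i = τ l from cyc_right.symm, hτinv]
      have htb : img tm⁻¹ b' = i := by
        conv_lhs => rw [show b' = τ i from (cyc_left hib hli.symm).symm, hτinv]
      have hll : img hm l = l := by
        by_contra hne'
        have hm' := hout l hne'
        have h3' : ({i, b', l} : Finset (Fin n)).card = 3 :=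
          Finset.card_eq_three.2 ⟨i, b', l, hib, hli.symm, hlb.symm, rfl⟩
        have hsub : ({i, b', l} : Finset (Fin n)) = Yᶜ := Finset.eq_of_subset_of_card_le
          (Finset.insert_subset hiout (Finset.insert_subset hb'm (Finset.singleton_subset_iff.2 hl))) (by omega)
        rw [← hsub] at hm'
        simp only [Finset.mem_insert, Finset.mem_singleton] at hm'
        rcases hm' with h' | h' | h'
        · exact hlb (hinj (h'.trans hb'i.symm))
        · exact hli (hinj (h'.trans hb'))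
        · exact hne' h'
      have e1 : img (hm * (tm * hm * tm⁻¹)) i = b' := by
        rw [img_mul, img_mul, img_mul, hti, hll, himg τ l, show τ l = i from cyc_right, ← hb']
      have e2 : img (tm * hm * tm⁻¹ * hm) i = l := by
        rw [img_mul, img_mul, img_mul, ← hb', htb, ← hb', himg τ b', show τ b' = l from cyc_mid hli.symm hlb.symm]
      rw [e1, e2] at heq
      exact hlb heq.symm
    obtain ⟨l, hl, hli, hlb, -, -⟩ := exists_ne_four h5 i b' i b'
    obtain ⟨z, hz, hzi, hzb, hzl, hzπl⟩ := exists_ne_four h5 i b' l (img hm l)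
    set τ : Equiv.Perm (Fin n) := cyc b' l z with hτ
    have hτfix : ∀ x ∈ Y, τ x = x := fun x hx => by
      have hx' : x ∉ Yᶜ := by simp [hx]
      exact cyc_of_ne (fun e => hx' (e ▸ hb'm)) (fun e => hx' (e ▸ hl)) (fun e => hx' (e ▸ hz))
    let tm : (Mon : Subgroup (O F n)) := ⟨permO τ, permO_mem_mon τ⟩
    have hτb : τ b' = l := cyc_left hlb.symm hzb.symm
    have hτi : τ i = i := cyc_of_ne (Ne.symm hmv) hli.symm hzi.symm
    have heq : img (hm * (tm * hm * tm⁻¹)) i = img (tm * hm * tm⁻¹ * hm) i :=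
      congrArg (fun q => img q i) (show hm * (tm * hm * tm⁻¹) = tm * hm * tm⁻¹ * hm from
        Subtype.ext (hconj τ (sign_cyc hlb.symm hzl.symm) hτfix))
    have e1 : img (hm * (tm * hm * tm⁻¹)) i = img hm l := by
      rw [img_mul, img_mul, img_mul]
      congr 1
      conv_lhs => rw [show img tm⁻¹ i = i by conv_lhs => rw [← hτi, hτinv]]
      rw [← hb', himg τ b', hτb]
    have e2 : img (tm * hm * tm⁻¹ * hm) i = τ (img hm z) := by
      rw [img_mul, img_mul, img_mul, ← hb']
      have : img tm⁻¹ b' = z := by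
        conv_lhs => rw [show b' = τ z from (cyc_right).symm, hτinv]
      rw [this, himg τ (img hm z)]
    rw [e1, e2] at heq
    rcases eq_or_ne (img hm z) z with hzz | hzz
    · rw [hzz, hτ, cyc_right] at heq
      exact hli (hinj (heq.trans hb'))
    · rcases eq_or_ne (img hm z) l with hzl' | hzl'
      · rw [hzl', hτ, cyc_mid hzb.symm hzl.symm] at heq
        exact hzπl heq.symm
      · rw [hτ, cyc_of_ne (fun e' => hzi (hinj (e'.trans hb'))) hzl' hzz] at heq
        exact hzl (hinj heq).symm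
  -- a coordinate vector in the image
  obtain ⟨a, ha⟩ : Xᶜ.Nonempty := Finset.card_pos.1 (by omega)
  obtain ⟨b, hb, c, hc, hbc⟩ := Finset.one_lt_card.1 (show 1 < (Xᶜ.erase a).card by
    rw [Finset.card_erase_of_mem ha]; omega)
  obtain ⟨hba, hb⟩ := Finset.mem_erase.1 hb
  obtain ⟨hca, hc⟩ := Finset.mem_erase.1 hc
  have h1 := key a ha b hb hba.symm
  have h1' := key a ha c hc hca.symm
  obtain ⟨i, hi⟩ : ∃ i, g.1 (e a) i ≠ 0 := by
    by_contra h0
    push Not at h0
    have : g.1 (e a) = 0 := funext h0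
    rw [LinearEquiv.map_eq_zero_iff] at this
    simpa [e_same] using congrFun this a
  have hsupp : ∀ x y : Fin n, g * flips {x, y} * g⁻¹ ∈ (Diag : Subgroup (O F n)) → a = x →
      ∀ d, d ≠ x → d ≠ y → (g⁻¹).1 (e i) d = 0 := by
    rintro x y hD rfl d hd1 hd2
    obtain ⟨κ, hκ⟩ := hD i
    have hκ' : (flips {a, y}).1 ((g⁻¹).1 (e i)) = κ • (g⁻¹).1 (e i) := by
      have := congrArg (fun w => (g⁻¹).1 w) hκ
      simp only [mul_apply', map_smul, inv_apply'] at this
      exact this
    have ea := congrFun hκ' a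
    rw [flips_apply, if_pos (Finset.mem_insert_self _ _), Pi.smul_apply, smul_eq_mul, inv_coord hO.two] at ea
    have hκ1 : κ = -1 := mul_right_cancel₀ hi (by rw [← ea, neg_one_mul])
    have ed := congrFun hκ' d
    rw [flips_apply, if_neg (by simp [hd1, hd2]), Pi.smul_apply, smul_eq_mul, hκ1] at ed
    exact (mul_eq_zero.1 (show (2 : F) * (g⁻¹).1 (e i) d = 0 by linear_combination ed)).resolve_left hO.two
  have hginv : (g⁻¹).1 (e i) = (g⁻¹).1 (e i) a • e a := eq_smul_e fun d hd => by
    rcases eq_or_ne d b with rfl | hdb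
    · exact hsupp a c h1' rfl _ hd hbc
    · exact hsupp a b h1 rfl d hd hdb
  have := inv_mem (mon_of_map hO hn hL (M.inv_mem hg) hginv)
  rwa [inv_inv] at this

end Step

end CfsgLib.Classical.FrameMax
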