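import Cfsg.Agent.Lib.Classical.FrameMax.SmallHalf

/-!
# Five or six coordinates: conjugates of pair sign changes meeting the monomial group are diagonal
-/

set_option autoImplicit false
set_option linter.unusedSectionVars false

namespace CfsgLib.Classical.FrameMax

open Module QuadraticMap Matrix CfsgLib.Orth

variable {F : Type*} [Field F] [Fintype F] {n : ℕ} {M : Subgroup (O F n)}

section Step

variable (hO : Over M) (hn : n = 5 ∨ n = 6) (hL : Rigid M)

include hO hn hL

/-- If a conjugate of a pair sign change is monomial, so is the conjugating element. -/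
theorem fusion {g : O F n} (hg : g ∈ M) {p q : Fin n} (hpq : p ≠ q)
    (ht : g * flips {p, q} * g⁻¹ ∈ (Mon : Subgroup (O F n))) : g ∈ (Mon : Subgroup (O F n)) := by
  classical
  have h2 := hO.two
  have h4n : 4 ≤ n := by omega
  set u := g.1 (e p) with hu
  set w := g.1 (e q) with hw
  set t : O F n := g * flips {p, q} * g⁻¹ with htdef
  have hty : ∀ y, t.1 y = y - (2 * (u ⬝ᵥ y)) • u - (2 * (w ⬝ᵥ y)) • w := conj_pair_apply h2 g hpq
  have huu : u ⬝ᵥ u = 1 := by rw [hu, std_map, e_dot, e_same]
  have hww : w ⬝ᵥ w = 1 := by rw [hw, std_map, e_dot, e_same]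
  have huw : u ⬝ᵥ w = 0 := by rw [hu, hw, dot_isom h2, e_dot_e, if_neg hpq]
  by_cases hdiag : ∀ i, ∃ c : F, t.1 (e i) = c • e i
  · have hrow : ∀ i j, i ≠ j → u i * u j + w i * w j = 0 := by
      intro i j hij
      obtain ⟨c, hc⟩ := hdiag i
      have h' := congrFun hc j
      simp only [hty, Pi.sub_apply, Pi.smul_apply, smul_eq_mul, dot_e, e_ne (Ne.symm hij), mul_zero, zero_sub] at h'
      exact (mul_eq_zero.1 (show 2 * (u i * u j + w i * w j) = 0 by linear_combination -h')).resolve_left h2
    obtain ⟨i, j, hd⟩ := exists_dd_ne huu hww huw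
    have hij : i ≠ j := fun h' => hd (by rw [h', dd, sub_self])
    have hout : ∀ k, k ≠ i → k ≠ j → u k = 0 ∧ w k = 0 := fun k hki hkj => by
      have e1 := hrow k i hki
      have e2 := hrow k j hkj
      exact ⟨(mul_eq_zero.1 (show u k * dd u w i j = 0 by rw [dd]; linear_combination w j * e1 - w i * e2)).resolve_right hd,
        (mul_eq_zero.1 (show w k * dd u w i j = 0 by rw [dd]; linear_combination u i * e2 - u j * e1)).resolve_right hd⟩
    obtain ⟨π, hπ, hπi, hπj⟩ := exists_even_perm h4n hij hpq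
    have hz : ∀ z, z ≠ p → z ≠ q → π.symm z ≠ i ∧ π.symm z ≠ j := fun z zp zq =>
      ⟨fun h' => zp (by rw [← hπi, ← h', Equiv.apply_symm_apply]),
        fun h' => zq (by rw [← hπj, ← h', Equiv.apply_symm_apply])⟩
    have := mon_of_pair hO hn hL (M.mul_mem (hO.perm_mem hπ) hg) hpq
      (fun z zp zq => by rw [mul_apply', permO_apply]; exact (hout _ (hz z zp zq).1 (hz z zp zq).2).1)
      (fun z zp zq => by rw [mul_apply', permO_apply]; exact (hout _ (hz z zp zq).1 (hz z zp zq).2).2)
    have h' := mul_mem (inv_mem (permO_mem_mon (F := F) π)) this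
    rwa [inv_mul_cancel_left] at h'
  exfalso
  push Not at hdiag
  obtain ⟨a, ha⟩ := hdiag
  obtain ⟨b, c, hc⟩ := ht a
  have hba : b ≠ a := fun h' => ha c (by rw [hc, h'])
  have hcc := coord_sq t hc
  have ht2 : ∀ y, t.1 (t.1 y) = y := fun y => by
    rw [← mul_apply', htdef, show g * flips {p, q} * g⁻¹ * (g * flips {p, q} * g⁻¹) =
      g * (flips {p, q} * flips {p, q}) * g⁻¹ by group, flips_self, mul_one, mul_inv_cancel, one_apply']
  have hcb : t.1 (e b) = c • e a := by
    have := congrArg t.1 hc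
    rw [ht2, map_smul] at this
    rw [this, smul_smul, hcc, one_smul]
  have hc0 : c ≠ 0 := fun h' => by rw [h', mul_zero] at hcc; exact zero_ne_one hcc
  set r : Fin n → F := e a - c • e b with hr
  have htr : t.1 r = -r := by
    rw [hr, map_sub, map_smul, hc, hcb, smul_smul, hcc, one_smul, neg_sub]
  have hplane : ∀ y, t.1 y = -y → y = (u ⬝ᵥ y) • u + (w ⬝ᵥ y) • w := by
    intro y hy
    rw [hty] at hy
    have : (2 : F) • (y - ((u ⬝ᵥ y) • u + (w ⬝ᵥ y) • w)) = 0 := by linear_combination (norm := module) hy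
    exact sub_eq_zero.1 ((smul_eq_zero.1 this).resolve_left h2)
  have hra : r a = 1 := by simp [hr, e_same, e_ne (Ne.symm hba)]
  have hrb : r b = -c := by simp [hr, e_same, e_ne hba]
  have hro : ∀ z, z ≠ a → z ≠ b → r z = 0 := fun z z1 z2 => by simp [hr, e_ne z1, e_ne z2]
  set A := u ⬝ᵥ r with hA
  set B := w ⬝ᵥ r with hB
  have hrAB : r = A • u + B • w := hplane r htr
  have hAB : A * A + B * B = 2 := by
    have h' : r ⬝ᵥ r = 2 := by rw [dot_two (Ne.symm hba) hro, hra, hrb]; linear_combination hcc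
    conv at h' => lhs; arg 1; rw [hrAB]
    simp [add_dotProduct, smul_dotProduct, ← hA, ← hB] at h'
    linear_combination h'
  set r' : Fin n → F := B • u - A • w with hr'
  have hur' : u ⬝ᵥ r' = B := by rw [hr', dotProduct_sub, dotProduct_smul, dotProduct_smul, huu, huw]; simp
  have hwr' : w ⬝ᵥ r' = -A := by rw [hr', dotProduct_sub, dotProduct_smul, dotProduct_smul, hww, dotProduct_comm w u, huw]; simp
  have hperp : ∀ y, t.1 y = -y → r ⬝ᵥ y = 0 → ∃ κ : F, y = κ • r' := by
    intro y hy hry
    refine ⟨((u ⬝ᵥ y) * B - (w ⬝ᵥ y) * A) * 2⁻¹, ?_⟩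
    rw [hrAB, add_dotProduct, smul_dotProduct, smul_dotProduct, smul_eq_mul, smul_eq_mul] at hry
    conv_lhs => rw [hplane y hy]
    rw [hr']
    match_scalars
    · field_simp; linear_combination -(u ⬝ᵥ y) * hAB + A * hry
    · field_simp; linear_combination -(w ⬝ᵥ y) * hAB + B * hry
  have hr'r' : r' ⬝ᵥ r' = 2 := by
    rw [hr', sub_dotProduct, smul_dotProduct, smul_dotProduct, ← hr', hur', hwr', smul_eq_mul, smul_eq_mul]
    linear_combination hAB
  have htu : t.1 u = -u := by rw [hty, huu, dotProduct_comm w u, huw]; module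
  have htw : t.1 w = -w := by rw [hty, huw, hww]; module
  have htr' : t.1 r' = -r' := by rw [hr', map_sub, map_smul, map_smul, htu, htw]; module
  -- one column would be a root
  have hAne : A ≠ 0 := by
    intro h'
    rw [h', zero_mul, zero_add] at hAB
    rw [h', zero_smul, zero_add] at hrAB
    have hB0 : B ≠ 0 := fun h'' => by rw [h'', mul_zero] at hAB; exact h2 hAB.symm
    have hwz : ∀ z, w z = B⁻¹ * r z := fun z => by
      rw [hrAB, Pi.smul_apply, smul_eq_mul, inv_mul_cancel_left₀ hB0]
    refine no_root hO hn hL hg (p := q) (Ne.symm hba) (fun z z1 z2 => ?_) ?_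
    · rw [← hw, hwz, hro z z1 z2, mul_zero]
    · rw [← hw, hwz, hwz, hra, hrb]; linear_combination -(B⁻¹ * B⁻¹) * hcc
  have hBne : B ≠ 0 := by
    intro h'
    rw [h', zero_smul, add_zero] at hrAB
    have huz : ∀ z, u z = A⁻¹ * r z := fun z => by
      rw [hrAB, Pi.smul_apply, smul_eq_mul, inv_mul_cancel_left₀ hAne]
    refine no_root hO hn hL hg (p := p) (Ne.symm hba) (fun z z1 z2 => ?_) ?_
    · rw [← hu, huz, hro z z1 z2, mul_zero]
    · rw [← hu, huz, huz, hra, hrb]; linear_combination -(A⁻¹ * A⁻¹) * hcc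
  -- the second eigenvector outside the two coordinates
  obtain ⟨i, hia, hib, hi⟩ : ∃ i, i ≠ a ∧ i ≠ b ∧ r' i ≠ 0 := by
    by_contra hcon
    push Not at hcon
    have e1 : t.1 r' = (r' a * c) • e b + (r' b * c) • e a := by
      conv_lhs => rw [eq_two (Ne.symm hba) hcon, map_add, map_smul, map_smul, hc, hcb, smul_smul, smul_smul]
    rw [htr'] at e1
    have ea := congrFun e1 a
    simp [e_same, e_ne (Ne.symm hba)] at ea
    have hrr' : r ⬝ᵥ r' = 0 := by
      rw [hrAB, add_dotProduct, smul_dotProduct, smul_dotProduct, hur', hwr', smul_eq_mul, smul_eq_mul]; ring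
    rw [dot_two (Ne.symm hba) hro, hra, hrb] at hrr'
    have z1 : r' a = 0 := (mul_eq_zero.1 (show 2 * r' a = 0 by linear_combination hrr' - ea)).resolve_left h2
    have z2 : r' b = 0 := (mul_eq_zero.1 (show c * r' b = 0 by linear_combination z1 - hrr')).resolve_left hc0
    rw [dot_two (Ne.symm hba) hcon, z1, z2] at hr'r'
    exact h2 (by linear_combination -hr'r')
  obtain ⟨j, d, hd⟩ := ht i
  have hdd := coord_sq t hd
  -- the sign change of the pair preserves the two eigenvectors
  have hx1r : (flips {a, b} : O F n).1 r = -r := by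
    funext z
    rw [flips_apply, Pi.neg_apply]
    by_cases hz : z ∈ ({a, b} : Finset (Fin n))
    · rw [if_pos hz]
    · simp only [Finset.mem_insert, Finset.mem_singleton, not_or] at hz
      rw [if_neg (by simp [hz]), hro z hz.1 hz.2, neg_zero]
  have fin : r' a = 0 → r' b = 0 → A * A = 1 ∧ B * B = 1 := by
    intro ra rb
    have hx1r' : (flips {a, b} : O F n).1 r' = r' := by
      funext z
      rw [flips_apply]
      split_ifs with hz
      · simp only [Finset.mem_insert, Finset.mem_singleton] at hz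
        rcases hz with rfl | rfl
        · rw [ra, neg_zero]
        · rw [rb, neg_zero]
      · rfl
    set ρ : O F n := g⁻¹ * flips {a, b} * g with hρ
    have hu2 : (2 : F) • u = A • r + B • r' := by
      rw [hr']
      conv_rhs => rw [hrAB]
      match_scalars <;> first
        | ring1
        | linear_combination hAB
        | linear_combination -hAB
    have hw2 : (2 : F) • w = B • r - A • r' := by
      rw [hr']
      conv_rhs => rw [hrAB]
      match_scalars <;> first
        | ring1
        | linear_combination hAB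
        | linear_combination -hAB
    have hxu : (flips {a, b} : O F n).1 u = (2⁻¹ * (B * B - A * A)) • u + (-(A * B)) • w := by
      refine smul_right_injective _ h2 ?_
      show (2 : F) • (flips {a, b} : O F n).1 u = (2 : F) • _
      rw [← map_smul, hu2, map_add, map_smul, map_smul, hx1r, hx1r', hr']
      conv_lhs => rw [hrAB]
      match_scalars
      · field_simp; ring
      · ring
    have hxw : (flips {a, b} : O F n).1 w = (-(A * B)) • u + (2⁻¹ * (A * A - B * B)) • w := by
      refine smul_right_injective _ h2 ?_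
      show (2 : F) • (flips {a, b} : O F n).1 w = (2 : F) • _
      rw [← map_smul, hw2, map_sub, map_smul, map_smul, hx1r, hx1r', hr']
      conv_lhs => rw [hrAB]
      match_scalars
      · ring
      · field_simp; ring
    have hρp : ρ.1 (e p) = (2⁻¹ * (B * B - A * A)) • e p + (-(A * B)) • e q := by
      rw [hρ, mul_apply', mul_apply', ← hu, hxu, map_add, map_smul, map_smul, hu, hw, inv_apply', inv_apply']
    have hρq : ρ.1 (e q) = (-(A * B)) • e p + (2⁻¹ * (A * A - B * B)) • e q := by
      rw [hρ, mul_apply', mul_apply', ← hw, hxw, map_add, map_smul, map_smul, hu, hw, inv_apply', inv_apply']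
    have hmon : ρ ∈ (Mon : Subgroup (O F n)) :=
      mon_of_pair hO hn hL (M.mul_mem (M.mul_mem (M.inv_mem hg) (hO.pair_mem (Ne.symm hba))) hg) hpq
        (fun z z1 z2 => by rw [hρp]; simp [e_ne z1, e_ne z2])
        (fun z z1 z2 => by rw [hρq]; simp [e_ne z1, e_ne z2])
    have := line_coord (hmon p) (Ne.symm hpq) (i := q) (by
      rw [hρp]; simp [e_same, e_ne hpq.symm, hAne, hBne])
    rw [hρp] at this
    simp [e_same, e_ne hpq, h2] at this
    exact ⟨(mul_left_cancel₀ h2 (by linear_combination hAB - this)),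
      (mul_left_cancel₀ h2 (by linear_combination hAB + this))⟩
  have hrdot : ∀ z, z ≠ a → z ≠ b → r ⬝ᵥ e z = 0 := fun z z1 z2 => by rw [dot_e, hro z z1 z2]
  by_cases hji : j = i
  · -- a transposition and a frame vector
    subst hji
    have hd1 : d = -1 := by
      have h' := dot_isom h2 t r' (e j)
      rw [htr', hd, dotProduct_smul, neg_dotProduct, dot_e, smul_eq_mul] at h'
      exact mul_right_cancel₀ hi (by linear_combination -h')
    have htj : t.1 (e j) = -e j := by rw [hd, hd1, neg_one_smul]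
    obtain ⟨κ, hκ⟩ := hperp (e j) htj (hrdot j hia hib)
    have hκ0 : κ ≠ 0 := fun h' => by
      have := congrFun hκ j
      rw [h', e_same] at this
      simp at this
    have hr'z : ∀ z, z ≠ j → r' z = 0 := fun z hz => by
      have := congrFun hκ z
      rw [e_ne hz, Pi.smul_apply, smul_eq_mul] at this
      exact (mul_eq_zero.1 this.symm).resolve_left hκ0
    obtain ⟨hA2, hB2⟩ := fin (hr'z a (Ne.symm hia)) (hr'z b (Ne.symm hib))
    have hjj : e j = u j • u + w j • w := by
      have := hplane (e j) htj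
      rwa [dot_e, dot_e] at this
    have hg' : (g⁻¹).1 (e j) = u j • e p + w j • e q := by
      conv_lhs => rw [hjj, map_add, map_smul, map_smul, hu, hw, inv_apply', inv_apply']
    refine no_root hO hn hL (M.inv_mem hg) (p := j) hpq (fun z z1 z2 => ?_) ?_
    · rw [hg']; simp [e_ne z1, e_ne z2]
    · rw [hg']
      simp [e_same, e_ne hpq, e_ne hpq.symm]
      have e1 : u j = u ⬝ᵥ e j := (dot_e _ _).symm
      have e2 : w j = w ⬝ᵥ e j := (dot_e _ _).symm
      rw [e1, e2, hκ, dotProduct_smul, dotProduct_smul, hur', hwr', smul_eq_mul, smul_eq_mul]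
      linear_combination κ * κ * hB2 - κ * κ * hA2
  -- two transpositions
  have hja : j ≠ a := by
    rintro rfl
    have h' : t.1 (c • e i) = t.1 (d • e b) := by rw [map_smul, map_smul, hd, hcb, smul_smul, smul_smul, mul_comm]
    have := congrFun (t.1.injective h') i
    simp [e_same, e_ne hib] at this
    exact hc0 this
  have hjb : j ≠ b := by
    rintro rfl
    have h' : t.1 (c • e i) = t.1 (d • e a) := by rw [map_smul, map_smul, hd, hc, smul_smul, smul_smul, mul_comm]
    have := congrFun (t.1.injective h') i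
    simp [e_same, e_ne hia] at this
    exact hc0 this
  have hdj : t.1 (e j) = d • e i := by
    have := congrArg t.1 hd
    rw [ht2, map_smul] at this
    rw [this, smul_smul, hdd, one_smul]
  set s : Fin n → F := e i - d • e j with hs
  have hts : t.1 s = -s := by rw [hs, map_sub, map_smul, hd, hdj, smul_smul, hdd, one_smul, neg_sub]
  obtain ⟨κ, hκ⟩ := hperp s hts (by
    rw [hs, dotProduct_sub, dotProduct_smul, hrdot i hia hib, hrdot j hja hjb]; simp)
  have hκ0 : κ ≠ 0 := fun h' => by
    have := congrFun hκ i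
    simp [hs, h', e_same, e_ne (Ne.symm hji)] at this
  have hr'z : ∀ z, κ * r' z = s z := fun z => by rw [hκ, Pi.smul_apply, smul_eq_mul]
  have hr'zero : ∀ z, z ≠ i → z ≠ j → r' z = 0 := fun z z1 z2 => by
    have := hr'z z
    simp [hs, e_ne z1, e_ne z2] at this
    exact this.resolve_left hκ0
  obtain ⟨hA2, hB2⟩ := fin (hr'zero a (Ne.symm hia) (Ne.symm hja)) (hr'zero b (Ne.symm hib) (Ne.symm hjb))
  have hr'i : κ * r' i = 1 := by rw [hr'z, hs]; simp [e_same, e_ne (Ne.symm hji)]
  have hr'j : κ * r' j = -d := by rw [hr'z, hs]; simp [e_same, e_ne hji]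
  have hκκ : κ * κ = 1 := by
    have h' : r' ⬝ᵥ r' = r' i * r' i + r' j * r' j := dot_two (Ne.symm hji) hr'zero r'
    rw [hr'r'] at h'
    refine (mul_left_cancel₀ h2 ?_)
    linear_combination (κ * κ) * h' + (κ * r' i + 1) * hr'i + (κ * r' j - d) * hr'j + hdd
  have hu2 : ∀ z, 2 * u z = A * r z + B * r' z := fun z => by
    simp only [hr', Pi.sub_apply, Pi.smul_apply, smul_eq_mul]
    conv_rhs => rw [hrAB]
    simp only [Pi.add_apply, Pi.smul_apply, smul_eq_mul]
    linear_combination -(u z) * hAB
  have hw2 : ∀ z, 2 * w z = B * r z - A * r' z := fun z => by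
    simp only [hr', Pi.sub_apply, Pi.smul_apply, smul_eq_mul]
    conv_rhs => rw [hrAB]
    simp only [Pi.add_apply, Pi.smul_apply, smul_eq_mul]
    linear_combination -(w z) * hAB
  have ra0 := hr'zero a (Ne.symm hia) (Ne.symm hja)
  have rb0 := hr'zero b (Ne.symm hib) (Ne.symm hjb)
  have ri0 := hro i hia hib
  have rj0 := hro j hja hjb
  have cancel : ∀ {x y : F}, 2 * x = 2 * y → x = y := fun h' => mul_left_cancel₀ h2 h'
  have c4 : ∀ {x y : F}, (2 * x) * (2 * x) = (2 * y) * (2 * y) → x * x = y * y := fun h' =>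
    mul_left_cancel₀ (mul_ne_zero h2 h2) (by linear_combination h')
  have Ua : 2 * u a = A := by rw [hu2, hra, ra0]; ring
  have Ub : 2 * u b = -(A * c) := by rw [hu2, hrb, rb0]; ring
  have Ui : 2 * u i = B * κ := by
    rw [hu2, ri0]
    linear_combination (B * κ) * hr'i - (B * r' i) * hκκ
  have Uj : 2 * u j = -(B * κ * d) := by
    rw [hu2, rj0]
    linear_combination (B * κ) * hr'j - (B * r' j) * hκκ
  refine no_half hO hn hL hg (p := p) (q := q) (Ne.symm hba) (Ne.symm hia) (Ne.symm hja) (Ne.symm hib) (Ne.symm hjb)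
    (Ne.symm hji) (ε := A * B) (by linear_combination (B * B) * hA2 + hB2) ?_ ?_ ?_ ?_ ?_ ?_ ?_ ?_ ?_
  · intro z za zb zi zj
    rw [← hu]
    refine (mul_eq_zero.1 (?_ : 2 * u z = 0)).resolve_left h2
    rw [hu2, hro z za zb, hr'zero z zi zj]; ring
  · rw [← hu]; refine c4 ?_; rw [Ua, Ub]; linear_combination (A * A) * hcc
  · rw [← hu]; refine c4 ?_; rw [Ua, Ui]; linear_combination (κ * κ) * hB2 + hκκ - hA2
  · rw [← hu]; refine c4 ?_; rw [Ua, Uj]; linear_combination (κ * κ * (d * d)) * hB2 + (d * d) * hκκ + hdd - hA2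
  · intro z za zb zi zj
    rw [← hw]
    refine (mul_eq_zero.1 (?_ : 2 * w z = 0)).resolve_left h2
    rw [hw2, hro z za zb, hr'zero z zi zj]; ring
  · rw [← hu, ← hw]; refine cancel ?_; rw [hw2, hra, ra0]; linear_combination -(A * B) * Ua - B * hA2
  · rw [← hu, ← hw]; refine cancel ?_; rw [hw2, hrb, rb0]; linear_combination -(A * B) * Ub + (B * c) * hA2
  · rw [← hu, ← hw]; refine cancel ?_; rw [hw2, ri0]
    linear_combination (A * B) * Ui + (A * κ) * hB2 - (A * κ) * hr'i + (A * r' i) * hκκ
  · rw [← hu, ← hw]; refine cancel ?_; rw [hw2, rj0]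
    linear_combination (A * B) * Uj - (A * κ * d) * hB2 - (A * κ) * hr'j + (A * r' j) * hκκ

end Step

end CfsgLib.Classical.FrameMax
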