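import Cfsg.Agent.Lib.Classical.FrameMax.SmallRoot
import Cfsg.Agent.Lib.Classical.FrameMax.Reach

/-!
# Five or six coordinates: no two half columns on the same four coordinates
-/

set_option autoImplicit false
set_option linter.unusedSectionVars false

namespace CfsgLib.Classical.FrameMax

open Module QuadraticMap Matrix CfsgLib.Orth

variable {F : Type*} [Field F] [Fintype F] {n : ℕ} {M : Subgroup (O F n)}

/-- The conjugate of a pair sign change. -/
theorem conj_pair_apply (h2 : (2 : F) ≠ 0) (g : O F n) {p q : Fin n} (hpq : p ≠ q) (y : Fin n → F) :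
    (g * flips {p, q} * g⁻¹).1 y = y - (2 * (g.1 (e p) ⬝ᵥ y)) • g.1 (e p) - (2 * (g.1 (e q) ⬝ᵥ y)) • g.1 (e q) := by
  have e1 : (flips {p, q} : O F n).1 ((g⁻¹).1 y) =
      (g⁻¹).1 y - (2 * (g⁻¹).1 y p) • e p - (2 * (g⁻¹).1 y q) • e q := by
    funext i
    simp only [flips_apply, Pi.sub_apply, Pi.smul_apply, smul_eq_mul, Finset.mem_insert, Finset.mem_singleton]
    rcases eq_or_ne i p with rfl | hip
    · rw [if_pos (Or.inl rfl), e_same, e_ne hpq]; ring
    rcases eq_or_ne i q with rfl | hiq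
    · rw [if_pos (Or.inr rfl), e_same, e_ne hip]; ring
    · rw [if_neg (by simp [hip, hiq]), e_ne hip, e_ne hiq]; ring
  rw [mul_apply', mul_apply', e1, map_sub, map_sub, map_smul, map_smul, apply_inv', ← dot_e ((g⁻¹).1 y) p,
    ← dot_e ((g⁻¹).1 y) q, ← dot_isom h2 g, ← dot_isom h2 g ((g⁻¹).1 y) (e q), apply_inv',
    dotProduct_comm y, dotProduct_comm y]

theorem dot_four {u : Fin n → F} {a b i j : Fin n} (hab : a ≠ b) (hai : a ≠ i) (haj : a ≠ j) (hbi : b ≠ i)
    (hbj : b ≠ j) (hij : i ≠ j) (h : ∀ z, z ≠ a → z ≠ b → z ≠ i → z ≠ j → u z = 0) (y : Fin n → F) :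
    u ⬝ᵥ y = u a * y a + u b * y b + u i * y i + u j * y j := by
  classical
  rw [dotProduct, ← Finset.sum_subset (Finset.subset_univ ({a, b, i, j} : Finset (Fin n))) fun z _ hz => by
    simp only [Finset.mem_insert, Finset.mem_singleton, not_or] at hz
    rw [h z hz.1 hz.2.1 hz.2.2.1 hz.2.2.2, zero_mul]]
  rw [Finset.sum_insert (by simp [hab, hai, haj]), Finset.sum_insert (by simp [hbi, hbj]), Finset.sum_pair hij]
  ring

/-- A permutation with four given values. -/
theorem exists_perm_four {a b i j p q r t : Fin n} (hab : a ≠ b) (hai : a ≠ i) (haj : a ≠ j) (hbi : b ≠ i)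
    (hbj : b ≠ j) (hij : i ≠ j) (hpq : p ≠ q) (hpr : p ≠ r) (hpt : p ≠ t) (hqr : q ≠ r) (hqt : q ≠ t) (hrt : r ≠ t) :
    ∃ π : Equiv.Perm (Fin n), π a = p ∧ π b = q ∧ π i = r ∧ π j = t := by
  have keep : ∀ (π : Equiv.Perm (Fin n)) {x z y w : Fin n}, π x = y → x ≠ z → y ≠ w →
      (Equiv.swap (π z) w * π) x = y := fun π x z y w h hxz hyw => by
    rw [Equiv.Perm.mul_apply, h]
    exact Equiv.swap_apply_of_ne_of_ne (fun e' => hxz (π.injective (h.trans e'))) hyw
  have new : ∀ (π : Equiv.Perm (Fin n)) (z w : Fin n), (Equiv.swap (π z) w * π) z = w := fun π z w => by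
    rw [Equiv.Perm.mul_apply, Equiv.swap_apply_left]
  let π1 : Equiv.Perm (Fin n) := Equiv.swap ((1 : Equiv.Perm (Fin n)) a) p * 1
  let π2 := Equiv.swap (π1 b) q * π1
  let π3 := Equiv.swap (π2 i) r * π2
  have a1 : π1 a = p := new 1 a p
  have a2 : π2 a = p := keep π1 a1 hab hpq
  have b2 : π2 b = q := new π1 b q
  have a3 : π3 a = p := keep π2 a2 hai hpr
  have b3 : π3 b = q := keep π2 b2 hbi hqr
  have i3 : π3 i = r := new π2 i r
  exact ⟨_, keep π3 a3 haj hpt, keep π3 b3 hbj hqt, keep π3 i3 hij hrt, new π3 j t⟩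

section Step

variable (hO : Over M) (hn : n = 5 ∨ n = 6) (hL : Rigid M)

include hO hn hL

/-- Two columns cannot be half vectors on the same four coordinates. -/
theorem no_half {g : O F n} (hg : g ∈ M) {p q a b i j : Fin n} (hab : a ≠ b) (hai : a ≠ i)
    (haj : a ≠ j) (hbi : b ≠ i) (hbj : b ≠ j) (hij : i ≠ j) {ε : F} (hε : ε * ε = 1)
    (hu0 : ∀ z, z ≠ a → z ≠ b → z ≠ i → z ≠ j → g.1 (e p) z = 0)
    (hub : g.1 (e p) b * g.1 (e p) b = g.1 (e p) a * g.1 (e p) a)
    (hui : g.1 (e p) i * g.1 (e p) i = g.1 (e p) a * g.1 (e p) a)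
    (huj : g.1 (e p) j * g.1 (e p) j = g.1 (e p) a * g.1 (e p) a)
    (hw0 : ∀ z, z ≠ a → z ≠ b → z ≠ i → z ≠ j → g.1 (e q) z = 0)
    (hwa : g.1 (e q) a = ε * g.1 (e p) a) (hwb : g.1 (e q) b = ε * g.1 (e p) b)
    (hwi : g.1 (e q) i = -(ε * g.1 (e p) i)) (hwj : g.1 (e q) j = -(ε * g.1 (e p) j)) : False := by
  classical
  have h2 := hO.two
  have h4n : 4 ≤ n := by rcases hn with e' | e' <;> rw [e'] <;> norm_num
  set h := g.1 (e p) a with hh
  have h4 : 4 * (h * h) = 1 := by
    have := std_map g (e p)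
    rw [dot_four hab hai haj hbi hbj hij hu0, e_dot, e_same, hub, hui, huj, ← hh] at this
    linear_combination this
  have hne : h ≠ 0 := fun e' => by rw [e'] at h4; simp at h4
  obtain ⟨f₀, hf₀⟩ := exists_avoid ({a, b, i, j} : Finset (Fin n))
    (lt_of_le_of_lt Finset.card_le_four (by rcases hn with e' | e' <;> rw [e'] <;> norm_num))
  simp only [Finset.mem_insert, Finset.mem_singleton, not_or] at hf₀
  -- a sign change making all four coordinates equal
  obtain ⟨S, hS, hSfour⟩ : ∃ S : Finset (Fin n), Even S.card ∧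
      ∀ z, z = a ∨ z = b ∨ z = i ∨ z = j → (if z ∈ S then -g.1 (e p) z else g.1 (e p) z) = h := by
    set T := ({a, b, i, j} : Finset (Fin n)).filter (fun z => g.1 (e p) z ≠ h) with hT
    have hval : ∀ z, z = a ∨ z = b ∨ z = i ∨ z = j → (if z ∈ T then -g.1 (e p) z else g.1 (e p) z) = h := by
      intro z hz
      have hz' : z ∈ ({a, b, i, j} : Finset (Fin n)) := by simpa using hz
      have hsq : g.1 (e p) z * g.1 (e p) z = h * h := by
        rcases hz with rfl | rfl | rfl | rfl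
        exacts [rfl, hub, hui, huj]
      split_ifs with hmem
      · rcases mul_self_eq_mul_self_iff.1 hsq with e' | e'
        · exact absurd e' (Finset.mem_filter.1 hmem).2
        · rw [e', neg_neg]
      · by_contra hne'
        exact hmem (Finset.mem_filter.2 ⟨hz', hne'⟩)
    rcases Nat.even_or_odd T.card with hev | hodd
    · exact ⟨T, hev, hval⟩
    · have hf : f₀ ∉ T := fun hm => by simpa [hf₀] using (Finset.mem_filter.1 hm).1
      refine ⟨insert f₀ T, ?_, fun z hz => ?_⟩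
      · rw [Finset.card_insert_of_notMem hf]; exact hodd.add_one
      · have : z ≠ f₀ := by
          rintro rfl
          rcases hz with hz | hz | hz | hz
          exacts [hf₀.1 hz, hf₀.2.1 hz, hf₀.2.2.1 hz, hf₀.2.2.2 hz]
        simpa [Finset.mem_insert, this] using hval z hz
  set G : O F n := flips S * g with hG
  have hGM : G ∈ M := M.mul_mem (hO.flips_mem hS) hg
  set U := G.1 (e p) with hU
  set W := G.1 (e q) with hW
  have hUapp : ∀ z, U z = if z ∈ S then -g.1 (e p) z else g.1 (e p) z := fun z => by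
    rw [hU, hG, mul_apply', flips_apply]
  have hWapp : ∀ z, W z = if z ∈ S then -g.1 (e q) z else g.1 (e q) z := fun z => by
    rw [hW, hG, mul_apply', flips_apply]
  clear_value U W
  clear_value G
  have hU0 : ∀ z, z ≠ a → z ≠ b → z ≠ i → z ≠ j → U z = 0 := fun z z1 z2 z3 z4 => by
    rw [hUapp, hu0 z z1 z2 z3 z4]; simp
  have hW0 : ∀ z, z ≠ a → z ≠ b → z ≠ i → z ≠ j → W z = 0 := fun z z1 z2 z3 z4 => by
    rw [hWapp, hw0 z z1 z2 z3 z4]; simp
  have hUa : U a = h := by rw [hUapp]; exact hSfour a (Or.inl rfl)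
  have hUb : U b = h := by rw [hUapp]; exact hSfour b (Or.inr (Or.inl rfl))
  have hUi : U i = h := by rw [hUapp]; exact hSfour i (Or.inr (Or.inr (Or.inl rfl)))
  have hUj : U j = h := by rw [hUapp]; exact hSfour j (Or.inr (Or.inr (Or.inr rfl)))
  have hWa : W a = ε * h := by
    rw [hWapp, hwa]; have hsf := hSfour a (Or.inl rfl); split_ifs at hsf ⊢ <;> linear_combination ε * hsf
  have hWb : W b = ε * h := by
    rw [hWapp, hwb]; have hsf := hSfour b (Or.inr (Or.inl rfl)); split_ifs at hsf ⊢ <;> linear_combination ε * hsf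
  have hWi : W i = -(ε * h) := by
    rw [hWapp, hwi]; have hsf := hSfour i (Or.inr (Or.inr (Or.inl rfl))); split_ifs at hsf ⊢ <;> linear_combination (-ε) * hsf
  have hWj : W j = -(ε * h) := by
    rw [hWapp, hwj]; have hsf := hSfour j (Or.inr (Or.inr (Or.inr rfl))); split_ifs at hsf ⊢ <;> linear_combination (-ε) * hsf
  have hεh : ε * h ≠ 0 := mul_ne_zero (fun e' => by rw [e', mul_zero] at hε; exact zero_ne_one hε) hne
  -- two further columns
  set τ := cyc b i j with hτ
  have hτa : τ a = a := cyc_of_ne hab hai haj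
  have hτout : ∀ z, z ≠ b → z ≠ i → z ≠ j → τ.symm z = z := fun z z1 z2 z3 => by
    rw [Equiv.symm_apply_eq]; exact (cyc_of_ne z1 z2 z3).symm
  have hτi : τ.symm i = b := by rw [Equiv.symm_apply_eq]; exact (cyc_left hbi hbj).symm
  have hτj : τ.symm j = i := by rw [Equiv.symm_apply_eq]; exact (cyc_mid hbj hij).symm
  have hτb : τ.symm b = j := by rw [Equiv.symm_apply_eq]; exact cyc_right.symm
  have hPU : (permO τ : O F n).1 U = U := by
    funext z
    rw [permO_apply]
    rcases eq_or_ne z b with rfl | zb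
    · rw [hτb, hUb, hUj]
    rcases eq_or_ne z i with rfl | zi
    · rw [hτi, hUb, hUi]
    rcases eq_or_ne z j with rfl | zj
    · rw [hτj, hUi, hUj]
    rw [hτout z zb zi zj]
  have hρ : G⁻¹ * permO τ * G ∈ (Mon : Subgroup (O F n)) :=
    hL _ (M.mul_mem (M.mul_mem (M.inv_mem hGM) (hO.perm_mem (sign_cyc hbi hij))) hGM) p (by
      rw [mul_apply', mul_apply', ← hU, hPU, hU, inv_apply'])
  have hstep : ∀ z, ∃ z', ∃ s : F, s * s = 1 ∧ (permO τ).1 (G.1 (e z)) = s • G.1 (e z') := by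
    intro z
    obtain ⟨z', s, hs⟩ := hρ z
    refine ⟨z', s, coord_sq _ hs, ?_⟩
    have := congrArg G.1 hs
    rwa [mul_apply', mul_apply', apply_inv', map_smul] at this
  obtain ⟨q₂, s₂, hs₂, hW2⟩ := hstep q
  obtain ⟨q₃, s₃, hs₃, hW3⟩ := hstep q₂
  rw [← hW] at hW2
  set W2 := G.1 (e q₂) with hW2def
  set W3 := G.1 (e q₃) with hW3def
  have hW2z : ∀ z, W2 z = s₂ * W (τ.symm z) := fun z => by
    have := congrFun hW2 z
    rw [permO_apply, Pi.smul_apply, smul_eq_mul] at this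
    linear_combination -s₂ * this - (W2 z) * hs₂
  have hW3z : ∀ z, W3 z = s₃ * W2 (τ.symm z) := fun z => by
    have := congrFun hW3 z
    rw [permO_apply, Pi.smul_apply, smul_eq_mul] at this
    linear_combination -s₃ * this - (W3 z) * hs₃
  have hW2a : W2 a = s₂ * (ε * h) := by rw [hW2z, hτout a hab hai haj, hWa]
  have hW2b : W2 b = s₂ * -(ε * h) := by rw [hW2z, hτb, hWj]
  have hW2i : W2 i = s₂ * (ε * h) := by rw [hW2z, hτi, hWb]
  have hW2j : W2 j = s₂ * -(ε * h) := by rw [hW2z, hτj, hWi]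
  have hW3a : W3 a = s₃ * (s₂ * (ε * h)) := by rw [hW3z, hτout a hab hai haj, hW2a]
  have hW3b : W3 b = s₃ * (s₂ * -(ε * h)) := by rw [hW3z, hτb, hW2j]
  have hW3i : W3 i = s₃ * (s₂ * -(ε * h)) := by rw [hW3z, hτi, hW2b]
  have hW3j : W3 j = s₃ * (s₂ * (ε * h)) := by rw [hW3z, hτj, hW2i]
  have hW20 : ∀ z, z ≠ a → z ≠ b → z ≠ i → z ≠ j → W2 z = 0 := fun z z1 z2 z3 z4 => by
    rw [hW2z, hτout z z2 z3 z4, hW0 z z1 z2 z3 z4, mul_zero]
  have hW30 : ∀ z, z ≠ a → z ≠ b → z ≠ i → z ≠ j → W3 z = 0 := fun z z1 z2 z3 z4 => by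
    rw [hW3z, hτout z z2 z3 z4, hW20 z z1 z2 z3 z4, mul_zero]
  have hdne : ∀ x y : Fin n, G.1 (e x) ⬝ᵥ G.1 (e y) = 0 → x ≠ y := fun x y hd hxy => by
    rw [hxy, std_map, e_dot, e_same] at hd; exact one_ne_zero hd
  have npq' : p ≠ q := hdne _ _ (by rw [← hU, ← hW, dot_four hab hai haj hbi hbj hij hU0, hUa, hUb, hUi, hUj, hWa, hWb, hWi, hWj]; ring)
  have np2 : p ≠ q₂ := hdne _ _ (by rw [← hU, ← hW2def, dot_four hab hai haj hbi hbj hij hU0, hUa, hUb, hUi, hUj, hW2a, hW2b, hW2i, hW2j]; ring)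
  have np3 : p ≠ q₃ := hdne _ _ (by rw [← hU, ← hW3def, dot_four hab hai haj hbi hbj hij hU0, hUa, hUb, hUi, hUj, hW3a, hW3b, hW3i, hW3j]; ring)
  have nq2 : q ≠ q₂ := hdne _ _ (by rw [← hW, ← hW2def, dot_four hab hai haj hbi hbj hij hW0, hWa, hWb, hWi, hWj, hW2a, hW2b, hW2i, hW2j]; ring)
  have nq3 : q ≠ q₃ := hdne _ _ (by rw [← hW, ← hW3def, dot_four hab hai haj hbi hbj hij hW0, hWa, hWb, hWi, hWj, hW3a, hW3b, hW3i, hW3j]; ring)
  have n23 : q₂ ≠ q₃ := hdne _ _ (by rw [← hW2def, ← hW3def, dot_four hab hai haj hbi hbj hij hW20, hW2a, hW2b, hW2i, hW2j, hW3a, hW3b, hW3i, hW3j]; ring)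
  obtain ⟨m, hm⟩ := exists_avoid ({p, q, q₂, q₃} : Finset (Fin n))
    (lt_of_le_of_lt Finset.card_le_four (by rcases hn with e' | e' <;> rw [e'] <;> norm_num))
  simp only [Finset.mem_insert, Finset.mem_singleton, not_or] at hm
  set v := G.1 (e m) with hv
  have hperp : ∀ x, x ≠ m → G.1 (e x) ⬝ᵥ v = 0 := fun x hx => by
    rw [hv, dot_isom h2, e_dot_e, if_neg hx]
  have r0 := hperp p (Ne.symm hm.1)
  have r1 := hperp q (Ne.symm hm.2.1)
  have r2 := hperp q₂ (Ne.symm hm.2.2.1)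
  have r3 := hperp q₃ (Ne.symm hm.2.2.2)
  rw [← hU, dot_four hab hai haj hbi hbj hij hU0, hUa, hUb, hUi, hUj] at r0
  rw [← hW, dot_four hab hai haj hbi hbj hij hW0, hWa, hWb, hWi, hWj] at r1
  rw [← hW2def, dot_four hab hai haj hbi hbj hij hW20, hW2a, hW2b, hW2i, hW2j] at r2
  rw [← hW3def, dot_four hab hai haj hbi hbj hij hW30, hW3a, hW3b, hW3i, hW3j] at r3
  have t0 : v a + v b + v i + v j = 0 :=
    (mul_eq_zero.1 (show h * (v a + v b + v i + v j) = 0 by linear_combination r0)).resolve_left hne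
  have hs0 : s₂ ≠ 0 := fun e' => by rw [e', mul_zero] at hs₂; exact zero_ne_one hs₂
  have hs0' : s₃ ≠ 0 := fun e' => by rw [e', mul_zero] at hs₃; exact zero_ne_one hs₃
  have t1 : v a + v b - v i - v j = 0 :=
    (mul_eq_zero.1 (show (ε * h) * (v a + v b - v i - v j) = 0 by linear_combination r1)).resolve_left hεh
  have t2 : v a - v b + v i - v j = 0 :=
    (mul_eq_zero.1 (show (s₂ * (ε * h)) * (v a - v b + v i - v j) = 0 by linear_combination r2)).resolve_left
      (mul_ne_zero hs0 hεh)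
  have t3 : v a - v b - v i + v j = 0 :=
    (mul_eq_zero.1 (show (s₃ * (s₂ * (ε * h))) * (v a - v b - v i + v j) = 0 by linear_combination r3)).resolve_left
      (mul_ne_zero hs0' (mul_ne_zero hs0 hεh))
  have h44 : (2 : F) * 2 ≠ 0 := mul_ne_zero h2 h2
  have hva : v a = 0 := (mul_eq_zero.1 (show 2 * 2 * v a = 0 by linear_combination t0 + t1 + t2 + t3)).resolve_left h44
  have hvb : v b = 0 := (mul_eq_zero.1 (show 2 * 2 * v b = 0 by linear_combination t0 + t1 - t2 - t3)).resolve_left h44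
  have hvi : v i = 0 := (mul_eq_zero.1 (show 2 * 2 * v i = 0 by linear_combination t0 - t1 + t2 - t3)).resolve_left h44
  have hvj : v j = 0 := (mul_eq_zero.1 (show 2 * 2 * v j = 0 by linear_combination t0 - t1 - t2 + t3)).resolve_left h44
  have hGn : G ∉ (Mon : Subgroup (O F n)) := fun hm' => hne (by
    rw [← hUb, hU]; exact line_coord (hm' p) hab (by rw [← hU, hUa]; exact hne))
  by_cases hline : IsLine v
  · exact hGn (mon_of_line hO h4n hL hGM (k := m) hline)
  obtain ⟨e₁, he₁⟩ : ∃ z, v z ≠ 0 := by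
    by_contra h'
    push Not at h'
    exact hline (isLine_of_zero (a := a) fun z _ => h' z)
  obtain ⟨e₂, he12, he₂⟩ : ∃ z, z ≠ e₁ ∧ v z ≠ 0 := by
    by_contra h'
    push Not at h'
    exact hline (isLine_of_zero h')
  have hout : ∀ {z}, v z ≠ 0 → z ≠ a ∧ z ≠ b ∧ z ≠ i ∧ z ≠ j := fun hz =>
    ⟨fun e' => hz (e' ▸ hva), fun e' => hz (e' ▸ hvb), fun e' => hz (e' ▸ hvi), fun e' => hz (e' ▸ hvj)⟩
  obtain ⟨o1a, o1b, o1i, o1j⟩ := hout he₁
  obtain ⟨o2a, o2b, o2i, o2j⟩ := hout he₂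
  have hzero : ∀ z, z ≠ e₁ → z ≠ e₂ → v z = 0 := by
    intro z z1 z2
    by_contra hz
    obtain ⟨za, zb, zi, zj⟩ := hout hz
    have hcard : ({a, b, i, j, e₁, e₂, z} : Finset (Fin n)).card = 7 := by
      simp [hab, hai, haj, hbi, hbj, hij, Ne.symm o1a, Ne.symm o1b, Ne.symm o1i, Ne.symm o1j, Ne.symm o2a,
        Ne.symm o2b, Ne.symm o2i, Ne.symm o2j, Ne.symm he12, Ne.symm za, Ne.symm zb, Ne.symm zi, Ne.symm zj,
        Ne.symm z1, Ne.symm z2]
    have := Finset.card_le_univ ({a, b, i, j, e₁, e₂, z} : Finset (Fin n))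
    rw [hcard, Fintype.card_fin] at this
    rcases hn with e' | e' <;> rw [e'] at this <;> exact absurd this (by norm_num)
  -- two translations sending the first column to a line
  obtain ⟨π, hπ, hπa, hπb, hπi, hπj⟩ : ∃ π : Equiv.Perm (Fin n), Equiv.Perm.sign π = 1 ∧
      π a = p ∧ π b = q ∧ (π i = q₂ ∨ π i = q₃) ∧ (π j = q₂ ∨ π j = q₃) := by
    obtain ⟨π₀, e0, e1, e2, e3⟩ := exists_perm_four hab hai haj hbi hbj hij npq' np2 np3 nq2 nq3 n23
    rcases Int.units_eq_one_or (Equiv.Perm.sign π₀) with hs | hs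
    · exact ⟨π₀, hs, e0, e1, Or.inl e2, Or.inr e3⟩
    · refine ⟨π₀ * Equiv.swap i j, by rw [map_mul, Equiv.Perm.sign_swap hij, hs]; rfl, ?_, ?_, Or.inr ?_, Or.inl ?_⟩
      · rw [Equiv.Perm.mul_apply, Equiv.swap_apply_of_ne_of_ne hai haj, e0]
      · rw [Equiv.Perm.mul_apply, Equiv.swap_apply_of_ne_of_ne hbi hbj, e1]
      · rw [Equiv.Perm.mul_apply, Equiv.swap_apply_left, e3]
      · rw [Equiv.Perm.mul_apply, Equiv.swap_apply_right, e2]
  have hπij : π i ≠ π j := fun e' => hij (π.injective e')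
  -- signs
  set sg : Fin n → F := fun z => if z = q then ε else if z = q₂ then ε * s₂ else if z = q₃ then ε * s₂ * s₃ else 1
    with hsg
  have hsg2 : ∀ z, sg z * sg z = 1 := fun z => by
    simp only [hsg]
    split_ifs
    · exact hε
    · linear_combination (s₂ * s₂) * hε + hs₂
    · linear_combination (s₂ * s₂ * (s₃ * s₃)) * hε + (s₃ * s₃) * hs₂ + hs₃
    · ring
  obtain ⟨T, hT, hTsg⟩ : ∃ T : Finset (Fin n), Even T.card ∧
      ∀ z, z = p ∨ z = q ∨ z = q₂ ∨ z = q₃ → (if z ∈ T then (-1 : F) else 1) = sg z := by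
    set T := ({p, q, q₂, q₃} : Finset (Fin n)).filter (fun z => sg z ≠ 1) with hT
    have hval : ∀ z, z = p ∨ z = q ∨ z = q₂ ∨ z = q₃ → (if z ∈ T then (-1 : F) else 1) = sg z := by
      intro z hz
      split_ifs with hmem
      · exact ((mul_self_eq_one_iff.1 (hsg2 z)).resolve_left (Finset.mem_filter.1 hmem).2).symm
      · by_contra hne'
        exact hmem (Finset.mem_filter.2 ⟨by simpa using hz, Ne.symm hne'⟩)
    rcases Nat.even_or_odd T.card with hev | hodd
    · exact ⟨T, hev, hval⟩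
    · have hf : π e₁ ∉ T := fun hmem => by
        have h' := (Finset.mem_filter.1 hmem).1
        simp only [Finset.mem_insert, Finset.mem_singleton] at h'
        rcases h' with h' | h' | h' | h'
        · exact o1a (π.injective (h'.trans hπa.symm))
        · exact o1b (π.injective (h'.trans hπb.symm))
        all_goals
          rcases hπi with e' | e' <;> rcases hπj with e'' | e''
          all_goals first
            | exact hπij (e'.trans e''.symm)
            | exact o1i (π.injective (h'.trans e'.symm))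
            | exact o1j (π.injective (h'.trans e''.symm))
      refine ⟨insert (π e₁) T, by rw [Finset.card_insert_of_notMem hf]; exact hodd.add_one, fun z hz => ?_⟩
      have : z ≠ π e₁ := fun e' => by
        rcases hz with rfl | rfl | rfl | rfl
        · exact o1a (π.injective (e'.symm.trans hπa.symm))
        · exact o1b (π.injective (e'.symm.trans hπb.symm))
        all_goals
          rcases hπi with e₃ | e₃ <;> rcases hπj with e₄ | e₄
          all_goals first
            | exact hπij (e₃.trans e₄.symm)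
            | exact o1i (π.injective (e'.symm.trans e₃.symm))
            | exact o1j (π.injective (e'.symm.trans e₄.symm))
      simpa [Finset.mem_insert, this] using hval z hz
  have hUeq : U = h • e a + h • e b + h • e i + h • e j := by
    funext z
    simp only [Pi.add_apply, Pi.smul_apply, smul_eq_mul]
    by_cases za : z = a
    · subst za; simp [hUa, e_same, e_ne hab, e_ne hai, e_ne haj]
    by_cases zb : z = b
    · subst zb; simp [hUb, e_same, e_ne za, e_ne hbi, e_ne hbj]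
    by_cases zi : z = i
    · subst zi; simp [hUi, e_same, e_ne za, e_ne zb, e_ne hij]
    by_cases zj : z = j
    · subst zj; simp [hUj, e_same, e_ne za, e_ne zb, e_ne zi]
    simp [hU0 z za zb zi zj, e_ne za, e_ne zb, e_ne zi, e_ne zj]
  have hgline : ∀ σ : Equiv.Perm (Fin n), Equiv.Perm.sign σ = 1 → σ a = p → σ b = q →
      ((σ i = q₂ ∧ σ j = q₃) ∨ (σ i = q₃ ∧ σ j = q₂)) →
      IsLine (G.1 ((flips T * permO σ : O F n).1 v)) := by
    intro σ hσ σa σb σij
    have hline' : IsLine (G.1 ((flips T * permO σ : O F n).1 (G.1 (e p)))) := by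
      refine ⟨a, h * (4 * h), ?_⟩
      have hz : ∀ z, z = p ∨ z = q ∨ z = q₂ ∨ z = q₃ →
          G.1 ((flips T).1 (e z)) = sg z • G.1 (e z) := fun z hz => by
        rw [flips_e, hTsg z hz, map_smul]
      have hsum : sg p • U + sg q • W + (sg q₂ • W2 + sg q₃ • W3) = (4 * h) • e a := by
        funext z
        simp only [Pi.add_apply, Pi.smul_apply, smul_eq_mul, hsg]
        simp only [npq', np2, np3, nq2.symm, nq3.symm, n23.symm, if_true, if_false]
        by_cases za : z = a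
        · subst za; rw [hUa, hWa, hW2a, hW3a, e_same]
          linear_combination (h * (1 + s₂ * s₂ + s₂ * s₂ * (s₃ * s₃))) * hε + (h * (1 + s₃ * s₃)) * hs₂ + h * hs₃
        by_cases zb : z = b
        · subst zb; rw [hUb, hWb, hW2b, hW3b, e_ne za]
          linear_combination (h * (1 - s₂ * s₂ - s₂ * s₂ * (s₃ * s₃))) * hε - (h * (1 + s₃ * s₃)) * hs₂ - h * hs₃
        by_cases zi : z = i
        · subst zi; rw [hUi, hWi, hW2i, hW3i, e_ne za]
          linear_combination (h * (-1 + s₂ * s₂ - s₂ * s₂ * (s₃ * s₃))) * hε + (h * (1 - s₃ * s₃)) * hs₂ - h * hs₃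
        by_cases zj : z = j
        · subst zj; rw [hUj, hWj, hW2j, hW3j, e_ne za]
          linear_combination (h * (-1 - s₂ * s₂ + s₂ * s₂ * (s₃ * s₃))) * hε + (h * (-1 + s₃ * s₃)) * hs₂ + h * hs₃
        rw [hU0 z za zb zi zj, hW0 z za zb zi zj, hW20 z za zb zi zj, hW30 z za zb zi zj, e_ne za]
        ring
      rw [← hU, hUeq, mul_apply']
      simp only [map_add, map_smul, permO_e, σa, σb]
      rcases σij with ⟨σi, σj⟩ | ⟨σi, σj⟩ <;> rw [σi, σj, hz p (by simp), hz q (by simp), hz q₂ (by simp),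
        hz q₃ (by simp), ← hU, ← hW, ← hW2def, ← hW3def, ← smul_add, ← smul_add, ← smul_add]
      · rw [add_assoc, hsum, smul_smul]
      · rw [add_assoc, add_comm (sg q₃ • W3), hsum, smul_smul]
    have := (sandwich_mon hO h4n hL hGM (M.mul_mem (hO.flips_mem hT) (hO.perm_mem hσ)) hline') m
    rwa [mul_apply', mul_apply', ← hv] at this
  have hσij : (π i = q₂ ∧ π j = q₃) ∨ (π i = q₃ ∧ π j = q₂) := by
    rcases hπi with e' | e' <;> rcases hπj with e'' | e''
    · exact absurd (e'.trans e''.symm) hπij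
    · exact Or.inl ⟨e', e''⟩
    · exact Or.inr ⟨e', e''⟩
    · exact absurd (e'.trans e''.symm) hπij
  let π' : Equiv.Perm (Fin n) := π * (Equiv.swap i j * Equiv.swap e₁ e₂)
  have hl1 := hgline π hπ hπa hπb hσij
  have hl2 := hgline π' (by
      rw [map_mul, map_mul, hπ, Equiv.Perm.sign_swap hij, Equiv.Perm.sign_swap (Ne.symm he12)]; rfl)
    (by simp [π', Equiv.swap_apply_of_ne_of_ne (Ne.symm o1a) (Ne.symm o2a),
      Equiv.swap_apply_of_ne_of_ne hai haj, hπa])
    (by simp [π', Equiv.swap_apply_of_ne_of_ne (Ne.symm o1b) (Ne.symm o2b),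
      Equiv.swap_apply_of_ne_of_ne hbi hbj, hπb])
    (by
      have e3 : π' i = π j := by simp [π', Equiv.swap_apply_of_ne_of_ne (Ne.symm o1i) (Ne.symm o2i)]
      have e4 : π' j = π i := by simp [π', Equiv.swap_apply_of_ne_of_ne (Ne.symm o1j) (Ne.symm o2j)]
      rw [e3, e4]
      rcases hσij with ⟨x, y⟩ | ⟨x, y⟩
      · exact Or.inr ⟨y, x⟩
      · exact Or.inl ⟨y, x⟩)
  refine no_root hO hn hL hGM (p := m) (Ne.symm he12) hzero ?_
  rw [← hv]
  set Sw : O F n := permO (Equiv.swap i j * Equiv.swap e₁ e₂) with hSw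
  have hY : (flips T * permO π' : O F n).1 v = (flips T * permO π : O F n).1 (Sw.1 v) := by
    rw [mul_apply', mul_apply', hSw]
    refine congrArg (flips T : O F n).1 ?_
    conv_rhs => rw [← mul_apply', ← map_mul]
  have hS1 : Sw.1 v e₁ = v e₂ := by
    rw [hSw, permO_apply]
    show v (Equiv.swap e₁ e₂ (Equiv.swap i j e₁)) = _
    rw [Equiv.swap_apply_of_ne_of_ne o1i o1j, Equiv.swap_apply_left]
  have hS2 : Sw.1 v e₂ = v e₁ := by
    rw [hSw, permO_apply]
    show v (Equiv.swap e₁ e₂ (Equiv.swap i j e₂)) = _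
    rw [Equiv.swap_apply_of_ne_of_ne o2i o2j, Equiv.swap_apply_right]
  rcases two_point h2 G hl1 hl2 ((std_map _ v).trans (std_map _ v).symm) with h' | h' | h'
  · rw [hY, dot_isom h2, dot_two (Ne.symm he12) hzero, hS1, hS2] at h'
    exfalso
    exact mul_ne_zero (mul_ne_zero h2 he₁) he₂ (by linear_combination h')
  · rw [hY] at h'
    have := congrFun ((flips T * permO π : O F n).1.injective h') e₁
    rw [hS1] at this
    rw [this]
  · rw [hY, ← map_neg] at h'
    have := congrFun ((flips T * permO π : O F n).1.injective h') e₁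
    rw [hS1, Pi.neg_apply] at this
    rw [this, neg_mul_neg]

end Step

end CfsgLib.Classical.FrameMax
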