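import Cfsg.Agent.Lib.Classical.FrameMax.SmallOdd

/-!
# Five or six coordinates: some element outside `Mon` fixes a frame vector
-/

set_option autoImplicit false
set_option linter.unusedSectionVars false

namespace CfsgLib.Classical.FrameMax

open Module QuadraticMap Matrix CfsgLib.Orth
open scoped Pointwise

variable {F : Type*} [Field F] [Fintype F] {n : ℕ} {M : Subgroup (O F n)}

theorem perm5_word : ∀ σ : Equiv.Perm (Fin 5), σ ^ 5 = 1 → σ ≠ 1 → ∀ τ : Equiv.Perm (Fin 5),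
    ((τ 0 = 0 ∧ τ (σ 0) = σ (σ 0)) ∨ (τ 0 = σ (σ 0) ∧ τ (σ 0) = 0)) →
    ∃ i : Fin 5, (((σ ^ (i : ℕ) * τ) ^ 3 = 1 ∧ σ ^ (i : ℕ) * τ ≠ 1) ∨
      ((σ ^ (i : ℕ) * τ * (σ ^ (i : ℕ) * τ)) ^ 3 = 1 ∧ σ ^ (i : ℕ) * τ * (σ ^ (i : ℕ) * τ) ≠ 1) ∨
      ((σ ^ (i : ℕ) * τ) ^ 4 = 1 ∧ (σ ^ (i : ℕ) * τ) ^ 2 ≠ 1)) := by
  decide +kernel

theorem perm5_four : ∀ ρ : Equiv.Perm (Fin 5), ρ ^ 4 = 1 → ρ ^ 2 ≠ 1 →
    (Finset.univ.filter fun r => ρ r ≠ r).card = 4 ∧
      ∀ r r' : Fin 5, ρ r ≠ r → ρ r' ≠ r' → ∃ i : Fin 4, (ρ ^ (i : ℕ)) r = r' := by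
  decide +kernel

theorem orbit_of_prime {ρ : Equiv.Perm (Fin n)} {l : ℕ} (hl : l.Prime) (h1 : ρ ^ l = 1) (hne : ρ ≠ 1) (hn : n < 2 * l) :
    (Finset.univ.filter fun r => ρ r ≠ r).card = l ∧
      ∀ r r' : Fin n, ρ r ≠ r → ρ r' ≠ r' → ∃ i : ℕ, (ρ ^ i) r = r' := by
  classical
  haveI : Fact l.Prime := ⟨hl⟩
  have ho : orderOf ρ = l := orderOf_eq_prime h1 hne
  have hc : ρ.IsCycle := Equiv.Perm.isCycle_of_prime_order' (ho ▸ hl) (by rw [Fintype.card_fin, ho]; exact hn)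
  refine ⟨?_, fun r r' hr hr' => hc.exists_pow_eq hr hr'⟩
  rw [← ho, hc.orderOf]
  congr 1

section Step

variable (hO : Over M) (hn : n = 5 ∨ n = 6) (hL : Rigid M)

include hO hn hL

theorem false_of_pair_trans {y : O F n} (hy : y ∈ M) (hyn : y ∉ (Mon : Subgroup (O F n))) (hyinv : y⁻¹ = y)
    (K : Subgroup (O F n)) (hK : ∀ k ∈ K, k ∈ (Mon : Subgroup (O F n)))
    (hK' : ∀ k ∈ K, y * k * y⁻¹ ∈ (Mon : Subgroup (O F n)))
    (a₀ b₀ : Fin n) (hab : a₀ ≠ b₀)
    (htr : ∀ i j : Fin n, i ≠ j → ∃ k : K, ({i, j} : Finset (Fin n)).image (img ⟨k.1, hK _ k.2⟩) = {a₀, b₀}) :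
    False := by
  classical
  have h2 := hO.two
  let φ : K →* Equiv.Perm (Fin n) := permHom.comp
    (MonoidHom.mk' (fun k : K => (⟨k.1, hK _ k.2⟩ : (Mon : Subgroup (O F n)))) fun _ _ => rfl)
  let ψ : K →* Equiv.Perm (Fin n) := permHom.comp
    (MonoidHom.mk' (fun k : K => (⟨y * k.1 * y⁻¹, hK' _ k.2⟩ : (Mon : Subgroup (O F n))))
      fun k l => Subtype.ext (by show y * (k.1 * l.1) * y⁻¹ = y * k.1 * y⁻¹ * (y * l.1 * y⁻¹); group))
  set A : Fin n → Fin n → F := fun c r => y.1 (e c) r with hA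
  have hsymm : ∀ c r, A c r = A r c := fun c r => by
    simp only [hA]; conv_lhs => rw [← inv_coord h2, hyinv]
  have hrel : ∀ (k : K) (c r : Fin n), A (φ k c) (ψ k r) * A (φ k c) (ψ k r) = A c r * A c r := by
    intro k c r
    have h1 := mon_sq h2 ⟨y * k.1 * y⁻¹, hK' _ k.2⟩ (y.1 (e c)) r
    set x := img (⟨k.1, hK _ k.2⟩ : (Mon : Subgroup (O F n))) c with hx
    have hs := img_spec (⟨k.1, hK _ k.2⟩ : (Mon : Subgroup (O F n))) c
    rw [← hx] at hs
    have hc := coord_sq k.1 hs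
    simp only [mul_apply', inv_apply'] at h1
    rw [hs, map_smul, Pi.smul_apply, smul_eq_mul] at h1
    show y.1 (e x) (img ⟨y * k.1 * y⁻¹, hK' _ k.2⟩ r) * y.1 (e x) (img ⟨y * k.1 * y⁻¹, hK' _ k.2⟩ r) = _
    rw [← h1]
    linear_combination -(y.1 (e x) (img ⟨y * k.1 * y⁻¹, hK' _ k.2⟩ r) * y.1 (e x) (img ⟨y * k.1 * y⁻¹, hK' _ k.2⟩ r)) * hc
  -- two columns with equal squares
  have hcols : ∀ c d, c ≠ d → (∀ r, A c r * A c r = A d r * A d r) → False := by
    intro c d hcd h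
    obtain ⟨r₁, -, r₂, -, h12⟩ := Finset.one_lt_card.1 (show 1 < (Finset.univ : Finset (Fin n)).card by
      rw [Finset.card_univ, Fintype.card_fin]; rcases hn with e' | e' <;> rw [e'] <;> norm_num)
    obtain ⟨r₃, hr₃⟩ := exists_avoid ({r₁, r₂} : Finset (Fin n))
      (lt_of_le_of_lt Finset.card_le_two (by rcases hn with e' | e' <;> rw [e'] <;> norm_num))
    simp only [Finset.mem_insert, Finset.mem_singleton, not_or] at hr₃
    refine false_of_sq hO hn hL hy hyn hcd h12 (Ne.symm hr₃.1) (Ne.symm hr₃.2) fun r r' _ _ => ?_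
    have e1 := h r
    have e2 := h r'
    simp only [hA] at e1 e2
    linear_combination (y.1 (e d) r' * y.1 (e d) r') * e1 - (y.1 (e d) r * y.1 (e d) r) * e2
  have hconst : ∀ (O₁ : Finset (Fin n)) (c d : Fin n), c ≠ d → 3 ≤ O₁.card →
      (∀ r ∈ O₁, ∀ r' ∈ O₁, A c r * A c r = A c r' * A c r') →
      (∀ r ∈ O₁, ∀ r' ∈ O₁, A d r * A d r = A d r' * A d r') → False := by
    intro O₁ c d hcd h3 hc hd
    obtain ⟨T, hT, hT3⟩ := Finset.exists_subset_card_eq h3
    obtain ⟨r₁, r₂, r₃, h12, h13, h23, rfl⟩ := Finset.card_eq_three.1 hT3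
    have hm : ∀ r, (r = r₁ ∨ r = r₂ ∨ r = r₃) → r ∈ O₁ := fun r hr => hT (by simpa using hr)
    refine false_of_sq hO hn hL hy hyn hcd h12 h13 h23 fun r r' hr hr' => ?_
    have e1 := hc r (hm r hr) r' (hm r' hr')
    have e2 := hd r (hm r hr) r' (hm r' hr')
    simp only [hA] at e1 e2
    linear_combination (y.1 (e d) r' * y.1 (e d) r') * e1 - (y.1 (e c) r' * y.1 (e c) r') * e2
  -- the two images have the same kernel
  have hker : ∀ k : K, φ k = 1 ↔ ψ k = 1 := by
    intro k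
    constructor <;> intro h <;> by_contra h'
    · obtain ⟨r, hr⟩ : ∃ r, ψ k r ≠ r := by
        by_contra hh
        push Not at hh
        exact h' (Equiv.ext hh)
      refine hcols (ψ k r) r hr fun c => ?_
      rw [hsymm (ψ k r) c, hsymm r c]
      have := hrel k c r
      rwa [h, Equiv.Perm.one_apply] at this
    · obtain ⟨c, hc⟩ : ∃ c, φ k c ≠ c := by
        by_contra hh
        push Not at hh
        exact h' (Equiv.ext hh)
      refine hcols (φ k c) c hc fun r => ?_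
      have := hrel k c r
      rwa [h, Equiv.Perm.one_apply] at this
  have hkerp : ∀ (k : K) (m : ℕ), φ k ^ m = 1 ↔ ψ k ^ m = 1 := fun k m => by
    rw [← map_pow, ← map_pow]; exact hker _
  -- a column fixed by a power-connected element
  have hcol : ∀ (k : K) (c : Fin n), φ k c = c → ∀ r r' : Fin n, (∃ i : ℕ, (ψ k ^ i) r = r') →
      A c r * A c r = A c r' * A c r' := by
    rintro k c hc r r' ⟨i, rfl⟩
    have h1 := hrel (k ^ i) c r
    have hfix : (φ k ^ i) c = c := by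
      clear h1
      induction i with
      | zero => rfl
      | succ i ih => rw [pow_succ, Equiv.Perm.mul_apply, hc, ih]
    rw [map_pow, map_pow, hfix] at h1
    exact h1.symm
  have hmover : ∀ c : Fin n, ∃ k : K, φ k c ≠ c := by
    intro c
    by_contra h
    push Not at h
    have hiff : ∀ i j : Fin n, i ≠ j → (c = i ∨ c = j ↔ c = a₀ ∨ c = b₀) := by
      intro i j hij
      obtain ⟨k, hk⟩ := htr i j hij
      have h1 : img (⟨k.1, hK _ k.2⟩ : (Mon : Subgroup (O F n))) c = c := h k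
      have h3 := Finset.ext_iff.1 hk c
      conv_lhs at h3 => rw [← h1]
      rw [Finset.mem_image] at h3
      simp only [(img_injective (⟨k.1, hK _ k.2⟩ : (Mon : Subgroup (O F n)))).eq_iff, exists_eq_right,
        Finset.mem_insert, Finset.mem_singleton] at h3
      exact h3
    obtain ⟨i, hi⟩ := exists_avoid ({c} : Finset (Fin n))
      (lt_of_le_of_lt (le_of_eq (Finset.card_singleton c)) (by rcases hn with e' | e' <;> rw [e'] <;> norm_num))
    obtain ⟨j, hj⟩ := exists_avoid ({c, i} : Finset (Fin n))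
      (lt_of_le_of_lt Finset.card_le_two (by rcases hn with e' | e' <;> rw [e'] <;> norm_num))
    simp only [Finset.mem_insert, Finset.mem_singleton, not_or] at hi hj
    rcases (hiff i j (Ne.symm hj.2)).2 ((hiff c i (Ne.symm hi)).1 (Or.inl rfl)) with h' | h'
    · exact hi h'.symm
    · exact hj.1 h'.symm
  have hbig : ∀ (k : K) (c : Fin n), φ k c = c → n + 3 ≤ 2 * (Finset.univ.filter fun r => ψ k r ≠ r).card →
      (∀ r r' : Fin n, ψ k r ≠ r → ψ k r' ≠ r' → ∃ i : ℕ, (ψ k ^ i) r = r') → False := by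
    intro k c hc hcard horb
    set O₁ := Finset.univ.filter fun r => ψ k r ≠ r with hO₁
    obtain ⟨k₀, hk₀⟩ := hmover c
    set O₂ := O₁.image (ψ k₀) with hO₂
    have h1 : ∀ r ∈ O₁, ∀ r' ∈ O₁, A c r * A c r = A c r' * A c r' := fun r hr r' hr' =>
      hcol k c hc r r' (horb r r' (Finset.mem_filter.1 hr).2 (Finset.mem_filter.1 hr').2)
    have h3 : ∀ r ∈ O₂, ∀ r' ∈ O₂, A (φ k₀ c) r * A (φ k₀ c) r = A (φ k₀ c) r' * A (φ k₀ c) r' := by
      intro r hr r' hr'
      obtain ⟨x, hx, rfl⟩ := Finset.mem_image.1 hr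
      obtain ⟨x', hx', rfl⟩ := Finset.mem_image.1 hr'
      rw [hrel, hrel]
      exact h1 x hx x' hx'
    refine hconst (O₁ ∩ O₂) c (φ k₀ c) (Ne.symm hk₀) ?_
      (fun r hr r' hr' => h1 r (Finset.mem_inter.1 hr).1 r' (Finset.mem_inter.1 hr').1)
      (fun r hr r' hr' => h3 r (Finset.mem_inter.1 hr).2 r' (Finset.mem_inter.1 hr').2)
    have e1 := Finset.card_union_add_card_inter O₁ O₂
    have e2 : O₂.card = O₁.card := Finset.card_image_of_injective _ (ψ k₀).injective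
    have e3 := Finset.card_le_univ (O₁ ∪ O₂)
    rw [Fintype.card_fin] at e3
    omega
  -- an element of order five
  let P : Subgroup (Equiv.Perm (Fin n)) := φ.range
  have hP5 : 5 ∣ Nat.card P := by
    let t : Finset (Fin n) := {a₀, b₀}
    have h1 : MulAction.orbit P t = {s : Finset (Fin n) | s.card = 2} := by
      ext s
      constructor
      · rintro ⟨σ, rfl⟩
        show (σ • t).card = 2
        rw [Finset.card_smul_finset]
        exact Finset.card_pair hab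
      · intro hs
        obtain ⟨i, j, hij, rfl⟩ := Finset.card_eq_two.1 (hs : s.card = 2)
        obtain ⟨k, hk⟩ := htr i j hij
        refine ⟨⟨φ k⁻¹, ⟨_, rfl⟩⟩, ?_⟩
        show t.image (φ k⁻¹) = _
        simp only [t, ← hk, Finset.image_image]
        conv_rhs => rw [← Finset.image_id (s := ({i, j} : Finset (Fin n)))]
        refine Finset.image_congr fun x _ => ?_
        show φ k⁻¹ (φ k x) = x
        rw [← Equiv.Perm.mul_apply, ← map_mul, inv_mul_cancel, map_one, Equiv.Perm.one_apply]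
    have h3 := MulAction.card_orbit_mul_card_stabilizer_eq_card_group P t
    simp only [← Nat.card_eq_fintype_card, h1] at h3
    rw [← h3]
    refine Dvd.dvd.mul_right ?_ _
    have h4 : Nat.card {s : Finset (Fin n) | s.card = 2} = n.choose 2 := by
      rw [Set.coe_ofPred, Nat.card_eq_fintype_card]; simp
    rw [h4]
    rcases hn with e' | e' <;> rw [e'] <;> decide
  haveI : Fact (Nat.Prime 5) := ⟨by norm_num⟩
  obtain ⟨σ, hσ⟩ := exists_prime_orderOf_dvd_card' (G := P) 5 hP5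
  obtain ⟨k₁, hk₁⟩ := σ.2
  have hk5 : φ k₁ ^ 5 = 1 := by
    rw [hk₁, ← hσ, ← Subgroup.orderOf_coe, pow_orderOf_eq_one]
  have hk1 : φ k₁ ≠ 1 := fun h => by
    rw [hk₁] at h
    rw [← Subgroup.orderOf_coe, h, orderOf_one] at hσ
    exact absurd hσ (by norm_num)
  have hlt : ∀ (k : K) (l : ℕ), (Finset.univ.filter fun r => φ k r ≠ r).card = l → l < n → ∃ c, φ k c = c := by
    intro k l h1 h3
    by_contra h
    push Not at h
    rw [Finset.filter_true_of_mem (fun r _ => h r), Finset.card_univ, Fintype.card_fin] at h1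
    omega
  rcases hn with rfl | rfl
  · -- five coordinates
    obtain ⟨τ, hτ⟩ : ∃ τ : K, (φ τ 0 = 0 ∧ φ τ (φ k₁ 0) = φ k₁ (φ k₁ 0)) ∨
        (φ τ 0 = φ k₁ (φ k₁ 0) ∧ φ τ (φ k₁ 0) = 0) := by
      obtain ⟨hcard, horb⟩ := orbit_of_prime (by norm_num : Nat.Prime 5) hk5 hk1 (by norm_num)
      have hmove : ∀ r, φ k₁ r ≠ r := fun r h => by
        have h' : (Finset.univ.filter fun r => φ k₁ r ≠ r) ⊂ Finset.univ := by
          refine Finset.filter_ssubset.2 ⟨r, Finset.mem_univ r, ?_⟩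
          simpa using h
        have := Finset.card_lt_card h'
        rw [hcard, Finset.card_univ, Fintype.card_fin] at this
        omega
      have hne2 : φ k₁ (φ k₁ 0) ≠ 0 := by
        intro h
        have he : ∀ m : ℕ, (φ k₁ ^ (2 * m)) 0 = 0 := fun m => by
          induction m with
          | zero => rfl
          | succ m ih =>
            rw [show 2 * (m + 1) = 2 * m + 1 + 1 by ring, pow_succ, pow_succ, Equiv.Perm.mul_apply, Equiv.Perm.mul_apply, h,
              ih]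
        have h6 := he 3
        rw [show 2 * 3 = 1 + 5 from rfl, pow_add, hk5, mul_one, pow_one] at h6
        exact hmove 0 h6
      obtain ⟨u, hu⟩ := htr 0 (φ k₁ 0) (Ne.symm (hmove 0))
      obtain ⟨w, hw⟩ := htr 0 (φ k₁ (φ k₁ 0)) (Ne.symm hne2)
      refine ⟨w⁻¹ * u, ?_⟩
      have heq : ({0, φ k₁ 0} : Finset (Fin 5)).image (φ (w⁻¹ * u)) = {0, φ k₁ (φ k₁ 0)} := by
        rw [map_mul, Equiv.Perm.coe_mul, ← Finset.image_image]
        have hu' : ({0, φ k₁ 0} : Finset (Fin 5)).image (φ u) = {a₀, b₀} := hu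
        have hw' : ({0, φ k₁ (φ k₁ 0)} : Finset (Fin 5)).image (φ w) = {a₀, b₀} := hw
        rw [hu', ← hw', Finset.image_image]
        conv_rhs => rw [← Finset.image_id (s := ({0, φ k₁ (φ k₁ 0)} : Finset (Fin 5)))]
        refine Finset.image_congr fun x _ => ?_
        show φ w⁻¹ (φ w x) = x
        rw [← Equiv.Perm.mul_apply, ← map_mul, inv_mul_cancel, map_one, Equiv.Perm.one_apply]
      rw [Finset.image_insert, Finset.image_singleton] at heq
      have hd : φ (w⁻¹ * u) 0 ≠ φ (w⁻¹ * u) (φ k₁ 0) := fun h => hmove 0 ((φ _).injective h).symm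
      have m1 : φ (w⁻¹ * u) 0 ∈ ({0, φ k₁ (φ k₁ 0)} : Finset (Fin 5)) := heq ▸ Finset.mem_insert_self _ _
      have m2 : φ (w⁻¹ * u) (φ k₁ 0) ∈ ({0, φ k₁ (φ k₁ 0)} : Finset (Fin 5)) :=
        heq ▸ Finset.mem_insert_of_mem (Finset.mem_singleton_self _)
      simp only [Finset.mem_insert, Finset.mem_singleton] at m1 m2
      rcases m1 with m1 | m1 <;> rcases m2 with m2 | m2
      · exact absurd (m1.trans m2.symm) hd
      · exact Or.inl ⟨m1, m2⟩
      · exact Or.inr ⟨m1, m2⟩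
      · exact absurd (m1.trans m2.symm) hd
    obtain ⟨i, hi⟩ := perm5_word _ hk5 hk1 _ hτ
    set ρ : K := k₁ ^ (i : ℕ) * τ with hρ
    have hρφ : φ ρ = φ k₁ ^ (i : ℕ) * φ τ := by rw [hρ, map_mul, map_pow]
    have three : ∀ k : K, φ k ^ 3 = 1 → φ k ≠ 1 → False := by
      intro k h1 h3
      obtain ⟨hc1, -⟩ := orbit_of_prime (by norm_num : Nat.Prime 3) h1 h3 (by norm_num)
      obtain ⟨hc2, ho2⟩ := orbit_of_prime (by norm_num : Nat.Prime 3) ((hkerp k 3).1 h1)
        (fun h => h3 ((hker k).2 h)) (by norm_num)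
      have hfix : (Finset.univ.filter fun r => ¬φ k r ≠ r).card = 2 := by
        have := Finset.card_filter_add_card_filter_not (s := (Finset.univ : Finset (Fin 5))) (fun r => φ k r ≠ r)
        rw [hc1, Finset.card_univ, Fintype.card_fin] at this
        omega
      obtain ⟨c, hc, d, hd, hcd⟩ := Finset.one_lt_card.1 (show 1 < (Finset.univ.filter fun r => ¬φ k r ≠ r).card by omega)
      simp only [Finset.mem_filter, Finset.mem_univ, true_and, not_not] at hc hd
      exact hconst _ c d hcd (le_of_eq hc2.symm)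
        (fun r hr r' hr' => hcol k c hc r r' (ho2 r r' (Finset.mem_filter.1 hr).2 (Finset.mem_filter.1 hr').2))
        (fun r hr r' hr' => hcol k d hd r r' (ho2 r r' (Finset.mem_filter.1 hr).2 (Finset.mem_filter.1 hr').2))
    rw [← hρφ] at hi
    rcases hi with ⟨h1, h3⟩ | ⟨h1, h3⟩ | ⟨h1, h3⟩
    · exact three ρ h1 h3
    · rw [← map_mul] at h1 h3
      exact three (ρ * ρ) h1 h3
    · obtain ⟨hc1, -⟩ := perm5_four _ h1 h3
      obtain ⟨hc2, ho2⟩ := perm5_four _ ((hkerp ρ 4).1 h1) (fun h => h3 ((hkerp ρ 2).2 h))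
      obtain ⟨c, hc⟩ := hlt ρ 4 hc1 (by norm_num)
      exact hbig ρ c hc (by rw [hc2]) fun r r' hr hr' => (ho2 r r' hr hr').elim fun i hi => ⟨i, hi⟩
  · -- six coordinates
    obtain ⟨hc1, -⟩ := orbit_of_prime (by norm_num : Nat.Prime 5) hk5 hk1 (by norm_num)
    obtain ⟨hc2, ho2⟩ := orbit_of_prime (by norm_num : Nat.Prime 5) ((hkerp k₁ 5).1 hk5)
      (fun h => hk1 ((hker k₁).2 h)) (by norm_num)
    obtain ⟨c, hc⟩ := hlt k₁ 5 hc1 (by norm_num)
    exact hbig k₁ c hc (by rw [hc2]; norm_num) ho2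

end Step

/-- Some element of `M` outside `Mon` fixes a frame vector. -/
theorem exists_one_small (hO : Over M) (hn : n = 5 ∨ n = 6) {g : O F n} (hg : g ∈ M)
    (hgm : g ∉ (Mon : Subgroup (O F n))) :
    ∃ j, ∃ h ∈ M, h.1 (e j) = e j ∧ h ∉ (Mon : Subgroup (O F n)) := by
  classical
  by_contra hno
  push Not at hno
  have hL : Rigid M := fun g hg k hk => hno k g hg hk
  obtain ⟨a₀, b₀, hab⟩ : ∃ a b : Fin n, a ≠ b :=
    ⟨⟨0, by rcases hn with e' | e' <;> omega⟩, ⟨1, by rcases hn with e' | e' <;> omega⟩, by simp⟩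
  obtain ⟨y, hy, hyn, hyinv, hys⟩ := exists_mid hO hn hL hg hgm hab hab
  let K : Subgroup (O F n) := Mon ⊓ (Mon : Subgroup (O F n)).comap (MulAut.conj y).toMonoidHom
  refine false_of_pair_trans hO hn hL hy hyn hyinv K (fun k hk => hk.1) (fun k hk => hk.2) a₀ b₀ hab fun i j hij => ?_
  obtain ⟨y', hy', hyn', hyinv', hys'⟩ := exists_mid hO hn hL hg hgm hij hab
  have hyy : y * y = 1 := by rw [← mul_inv_cancel y, hyinv]
  have hc : y * y' * flips {i, j} * (y * y')⁻¹ = flips {a₀, b₀} := by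
    rw [_root_.mul_inv_rev, hyinv, hyinv', show y * y' * flips {i, j} * (y' * y) = y * (y' * flips {i, j} * y') * y by group,
      hys', ← hys, show y * (y * flips {a₀, b₀} * y) * y = y * y * flips {a₀, b₀} * (y * y) by group, hyy, one_mul,
      mul_one]
  have hmon : y * y' ∈ (Mon : Subgroup (O F n)) := fusion hO hn hL (M.mul_mem hy hy') hij (by
    rw [hc]; exact diag_le_mon (flips_mem_diag _))
  have hk : y * y' ∈ K := ⟨hmon, by
    show y * (y * y') * y⁻¹ ∈ Mon
    rw [← mul_assoc, hyy, one_mul, hyinv]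
    have := inv_mem hmon
    rwa [_root_.mul_inv_rev, hyinv, hyinv'] at this⟩
  refine ⟨⟨_, hk⟩, flips_injective hO.two ?_⟩
  rw [← hc, ← conj_flips ⟨y * y', hmon⟩]

end CfsgLib.Classical.FrameMax
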