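import Cfsg.Agent.Lib.Classical.FrameMax.Main
import Cfsg.Agent.Lib.Classical.FrameMax.SmallOne

/-!
# Five or six coordinates: nothing lies between the monomial group and `Ω`
-/

set_option autoImplicit false
set_option linter.unusedSectionVars false

namespace CfsgLib.Classical.FrameMax

open Module QuadraticMap Matrix CfsgLib.Orth

variable {F : Type*} [Field F] [Fintype F] {n : ℕ}

/-- An overgroup of the even signed permutations in dimension five or six leaving `Mon` contains `Ω`. -/
theorem commutator_le_small (hp : (Fintype.card F).Prime) (h2 : (2 : F) ≠ 0) (hn : n = 5 ∨ n = 6)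
    (M : Subgroup (O F n)) (hflips : ∀ S : Finset (Fin n), Even S.card → (flips S : O F n) ∈ M)
    (hperm : ∀ π : Equiv.Perm (Fin n), Equiv.Perm.sign π = 1 → (permO π : O F n) ∈ M)
    {g : O F n} (hg : g ∈ M) (hgc : g ∈ commutator (O F n)) (hgm : g ∉ (Mon : Subgroup (O F n))) :
    commutator (O F n) ≤ M := by
  classical
  suffices h : commutator (O F n) ≤ M ⊓ commutator (O F n) from fun y hy => (h hy).1
  have hO : Over (M ⊓ commutator (O F n)) := ⟨h2,
    fun S hS => ⟨hflips S hS, flips_mem_commutator h2 hS⟩,
    fun π hπ => ⟨hperm π hπ, permO_mem_commutator h2 hπ⟩, inf_le_right⟩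
  obtain ⟨j, h, hh, hhj, hhm⟩ := exists_one_small hO hn (g := g) ⟨hg, hgc⟩ hgm
  exact commutator_le_of_fix hp hO (by rcases hn with e' | e' <;> omega) hh hhj hhm

end CfsgLib.Classical.FrameMax
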