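import Cfsg.Agent.Lib.Classical.FrameMax.Reduce

/-!
# Five or six coordinates: elementary moves
-/

set_option autoImplicit false
set_option linter.unusedSectionVars false

namespace CfsgLib.Classical.FrameMax

open Module QuadraticMap Matrix CfsgLib.Orth

variable {F : Type*} [Field F] [Fintype F] {n : ℕ} {M : Subgroup (O F n)}

/-- A multiple of a frame vector. -/
def IsLine (v : Fin n → F) : Prop := ∃ j, ∃ c : F, v = c • e j

/-- Every element of `M` fixing a frame vector is monomial. -/
def Rigid (M : Subgroup (O F n)) : Prop := ∀ g ∈ M, ∀ k, g.1 (e k) = e k → g ∈ (Mon : Subgroup (O F n))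

theorem mon_iff_isLine {g : O F n} : g ∈ (Mon : Subgroup (O F n)) ↔ ∀ i, IsLine (g.1 (e i)) := Iff.rfl

theorem exists_mem_avoid {S : Finset (Fin n)} (T : Finset (Fin n)) (h : T.card < S.card) :
    ∃ x ∈ S, x ∉ T := Finset.exists_mem_notMem_of_card_lt_card h

theorem exists_avoid (T : Finset (Fin n)) (h : T.card < n) : ∃ x, x ∉ T := by
  obtain ⟨x, -, hx⟩ := Finset.exists_mem_notMem_of_card_lt_card
    (show T.card < (Finset.univ : Finset (Fin n)).card by rwa [Finset.card_univ, Fintype.card_fin])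
  exact ⟨x, hx⟩

/-- An element of `M` outside the frame coordinates. -/
theorem exists_even_perm (hn : 4 ≤ n) {a b p l : Fin n} (hab : a ≠ b) (hpl : p ≠ l) :
    ∃ π : Equiv.Perm (Fin n), Equiv.Perm.sign π = 1 ∧ π a = p ∧ π b = l := by
  classical
  let π₀ : Equiv.Perm (Fin n) := Equiv.swap (Equiv.swap a p b) l * Equiv.swap a p
  have hπ₀a : π₀ a = p := by
    simp only [π₀, Equiv.Perm.mul_apply, Equiv.swap_apply_left]
    refine Equiv.swap_apply_of_ne_of_ne ?_ hpl
    intro h
    exact hab ((Equiv.swap a p).injective (by rw [Equiv.swap_apply_left, ← h]))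
  have hπ₀b : π₀ b = l := by simp [π₀]
  rcases Int.units_eq_one_or (Equiv.Perm.sign π₀) with hs | hs
  · exact ⟨π₀, hs, hπ₀a, hπ₀b⟩
  obtain ⟨c, hc⟩ := exists_avoid ({p, l} : Finset (Fin n))
    (by have : ({p, l} : Finset (Fin n)).card ≤ 2 := Finset.card_le_two; omega)
  obtain ⟨d, hd⟩ := exists_avoid ({p, l, c} : Finset (Fin n))
    (by have : ({p, l, c} : Finset (Fin n)).card ≤ 3 := Finset.card_le_three; omega)
  simp only [Finset.mem_insert, Finset.mem_singleton, not_or] at hc hd
  refine ⟨Equiv.swap c d * π₀, by rw [map_mul, Equiv.Perm.sign_swap (Ne.symm hd.2.2), hs]; rfl, ?_, ?_⟩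
  · rw [Equiv.Perm.mul_apply, hπ₀a, Equiv.swap_apply_of_ne_of_ne (Ne.symm hc.1) (Ne.symm hd.1)]
  · rw [Equiv.Perm.mul_apply, hπ₀b, Equiv.swap_apply_of_ne_of_ne (Ne.symm hc.2) (Ne.symm hd.2.1)]

/-- An element mapping the first frame vector to the second, up to a given sign. -/
theorem exists_move (hO : Over M) (hn : 4 ≤ n) (k l : Fin n) {c : F} (hc : c * c = 1) :
    ∃ w ∈ M, w ∈ (Mon : Subgroup (O F n)) ∧ w.1 (e k) = c • e l := by
  classical
  obtain ⟨z, hz⟩ := exists_avoid ({k, l} : Finset (Fin n))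
    (by have : ({k, l} : Finset (Fin n)).card ≤ 2 := Finset.card_le_two; omega)
  simp only [Finset.mem_insert, Finset.mem_singleton, not_or] at hz
  obtain ⟨π, hπ, hπk, -⟩ := exists_even_perm hn (Ne.symm hz.1) (Ne.symm hz.2)
  rcases mul_self_eq_one_iff.1 hc with rfl | rfl
  · exact ⟨permO π, hO.perm_mem hπ, permO_mem_mon π, by rw [permO_e, hπk, one_smul]⟩
  · refine ⟨flips {l, z} * permO π, M.mul_mem (hO.pair_mem (Ne.symm hz.2)) (hO.perm_mem hπ),
      mul_mem (diag_le_mon (flips_mem_diag _)) (permO_mem_mon π), ?_⟩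
    rw [mul_apply', permO_e, hπk, flips_e, if_pos (Finset.mem_insert_self _ _)]

/-- An element of `M` sending some frame vector to a frame line is monomial. -/
theorem mon_of_line (hO : Over M) (hn : 4 ≤ n) (hL : Rigid M) {g : O F n} (hg : g ∈ M) {k : Fin n}
    (h : IsLine (g.1 (e k))) : g ∈ (Mon : Subgroup (O F n)) := by
  obtain ⟨l, c, hl⟩ := h
  obtain ⟨w, hw, hwm, hwl⟩ := exists_move hO hn l k (coord_sq g hl)
  have h1 : (w * g).1 (e k) = e k := by
    rw [mul_apply', hl, map_smul, hwl, smul_smul, coord_sq g hl, one_smul]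
  have := mul_mem (inv_mem hwm) (hL _ (M.mul_mem hw hg) k h1)
  rwa [inv_mul_cancel_left] at this

/-- An element of `M` mapping some frame vector of a monomial translate to a line. -/
theorem sandwich_mon (hO : Over M) (hn : 4 ≤ n) (hL : Rigid M) {g w : O F n} (hg : g ∈ M) (hw : w ∈ M) {k : Fin n}
    (h : IsLine (g.1 (w.1 (g.1 (e k))))) : g * w * g ∈ (Mon : Subgroup (O F n)) :=
  mon_of_line hO hn hL (M.mul_mem (M.mul_mem hg hw) hg) (k := k) h

/-- Two vectors of the same length sent to lines are orthogonal or equal up to sign. -/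
theorem two_point (h2 : (2 : F) ≠ 0) (g : O F n) {x y : Fin n → F} (hx : IsLine (g.1 x)) (hy : IsLine (g.1 y))
    (hxy : x ⬝ᵥ x = y ⬝ᵥ y) : x ⬝ᵥ y = 0 ∨ y = x ∨ y = -x := by
  obtain ⟨i, c, hc⟩ := hx
  obtain ⟨j, d, hd⟩ := hy
  by_cases hij : i = j
  · subst hij
    have hcd : c * c = d * d := by
      have e1 := std_map g x
      have e2 := std_map g y
      rw [hc, smul_dotProduct, dotProduct_smul, e_dot, e_same, smul_eq_mul, smul_eq_mul, mul_one] at e1
      rw [hd, smul_dotProduct, dotProduct_smul, e_dot, e_same, smul_eq_mul, smul_eq_mul, mul_one] at e2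
      rw [e1, e2, hxy]
    right
    rcases mul_self_eq_mul_self_iff.1 hcd with h | h
    · exact Or.inl (g.1.injective (by rw [hd, hc, h]))
    · exact Or.inr (g.1.injective (by rw [map_neg, hd, hc, h, neg_smul, neg_neg]))
  · left
    rw [← dot_isom h2 g, hc, hd, smul_dotProduct, dotProduct_smul, e_dot_e, if_neg hij]
    simp

/-- The dot product with a vector with one coordinate changed in sign. -/
theorem dot_flips_one (v : Fin n → F) (c : Fin n) :
    v ⬝ᵥ (flips {c}).1 v = v ⬝ᵥ v - 2 * (v c * v c) := by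
  classical
  simp only [dotProduct]
  rw [← Finset.sum_erase_add _ _ (Finset.mem_univ c), ← Finset.sum_erase_add Finset.univ (fun i => v i * v i) (Finset.mem_univ c)]
  rw [Finset.sum_congr rfl (g := fun i => v i * v i) fun i hi => by
    rw [flips_apply, if_neg (by simpa using (Finset.mem_erase.1 hi).1)]]
  rw [flips_apply, if_pos (Finset.mem_singleton_self c)]
  ring

/-- Coordinates fixed by all three-cycles outside a set are equal. -/
theorem eq_of_cycles {X : Finset (Fin n)} {v : Fin n → F}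
    (h : ∀ c d f, c ∉ X → d ∉ X → f ∉ X → c ≠ d → c ≠ f → d ≠ f → (permO (cyc c d f)).1 v = v)
    (hX : X.card + 3 ≤ n) {c d : Fin n} (hc : c ∉ X) (hd : d ∉ X) : v c = v d := by
  classical
  rcases eq_or_ne c d with rfl | hcd
  · rfl
  obtain ⟨f, hf⟩ := exists_avoid (X ∪ {c, d}) (by
    have := Finset.card_union_le X {c, d}
    have : ({c, d} : Finset (Fin n)).card ≤ 2 := Finset.card_le_two
    omega)
  simp only [Finset.mem_union, Finset.mem_insert, Finset.mem_singleton, not_or] at hf
  have := congrFun (h c d f hc hd hf.1 hcd (Ne.symm hf.2.1) (Ne.symm hf.2.2)) d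
  rw [permO_apply, show (cyc c d f).symm d = c by rw [Equiv.symm_apply_eq]; exact (cyc_left hcd (Ne.symm hf.2.1)).symm]
    at this
  exact this

end CfsgLib.Classical.FrameMax
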