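import Cfsg.Agent.Lib.Classical.FrameMax.SmallFusion

/-!
# Five or six coordinates: two pair sign changes generate a dihedral group of twice odd order
-/

set_option autoImplicit false
set_option linter.unusedSectionVars false

namespace CfsgLib.Classical.FrameMax

open Module QuadraticMap Matrix CfsgLib.Orth

variable {F : Type*} [Field F] [Fintype F] {n : ℕ} {M : Subgroup (O F n)}

theorem flips_injective (h2 : (2 : F) ≠ 0) {S T : Finset (Fin n)} (h : (flips S : O F n) = flips T) : S = T := by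
  classical
  ext i
  have h' := congrFun (congrArg (fun q : O F n => q.1 (e i)) h) i
  simp only [flips_apply, e_same] at h'
  by_cases h1 : i ∈ S <;> by_cases h3 : i ∈ T
  · simp [h1, h3]
  · rw [if_pos h1, if_neg h3] at h'; exact absurd (show (2 : F) = 0 by linear_combination -h') h2
  · rw [if_neg h1, if_pos h3] at h'; exact absurd (show (2 : F) = 0 by linear_combination h') h2
  · simp [h1, h3]

theorem flips_empty : (flips ∅ : O F n) = 1 :=
  ext_e fun i => by rw [flips_e, if_neg (Finset.notMem_empty i), one_smul]; rfl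

theorem flips_mul (S T : Finset (Fin n)) :
    (flips S : O F n) * flips T = flips ((S ∪ T) \ (S ∩ T)) := by
  classical
  refine ext_e fun i => ?_
  rw [mul_apply', flips_e, map_smul, flips_e, flips_e, smul_smul]
  congr 1
  by_cases h1 : i ∈ S <;> by_cases h3 : i ∈ T <;> simp [h1, h3]

theorem flips_compl_mul (S : Finset (Fin n)) : (flips Sᶜ : O F n) = flips S * flips Finset.univ := by
  classical
  rw [flips_mul]
  congr 1
  ext i
  simp

theorem flips_univ_comm (g : O F n) : g * flips Finset.univ = flips Finset.univ * g := by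
  classical
  refine ext_e fun i => ?_
  rw [mul_apply', mul_apply', flips_e, map_smul]
  funext z
  rw [flips_apply]
  simp

/-- A monomial conjugate of a sign change. -/
theorem conj_flips (g : (Mon : Subgroup (O F n))) (S : Finset (Fin n)) :
    g.1 * flips S * g.1⁻¹ = flips (S.image (img g)) := by
  classical
  rw [mul_inv_eq_iff_eq_mul]
  refine ext_e fun i => ?_
  rw [mul_apply', mul_apply', flips_e, map_smul, img_spec g i, map_smul, flips_e, smul_comm]
  simp [Finset.mem_image, (img_injective g).eq_iff]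

/-- Squares of coordinates are carried along by a monomial isometry. -/
theorem mon_sq (h2 : (2 : F) ≠ 0) (g : (Mon : Subgroup (O F n))) (v : Fin n → F) (r : Fin n) :
    g.1.1 v (img g r) * g.1.1 v (img g r) = v r * v r := by
  have h := dot_isom h2 g.1 v (e r)
  rw [img_spec g r, dotProduct_smul, dot_e, dot_e, smul_eq_mul] at h
  have hc := coord_sq g.1 (img_spec g r)
  rw [← h]
  linear_combination -(g.1.1 v (img g r) * g.1.1 v (img g r)) * hc

/-- Three rows of two columns cannot agree up to signs. -/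
theorem exists_dd_zero (h2 : (2 : F) ≠ 0) {u w : Fin n → F} {a b c : Fin n}
    (e1 : (u a * w b) * (u a * w b) = (u b * w a) * (u b * w a))
    (e2 : (u a * w c) * (u a * w c) = (u c * w a) * (u c * w a))
    (e3 : (u b * w c) * (u b * w c) = (u c * w b) * (u c * w b)) :
    dd u w a b = 0 ∨ dd u w a c = 0 ∨ dd u w b c = 0 := by
  rcases mul_self_eq_mul_self_iff.1 e1 with h1 | h1
  · exact Or.inl (by rw [dd, h1, sub_self])
  rcases mul_self_eq_mul_self_iff.1 e2 with h3 | h3
  · exact Or.inr (Or.inl (by rw [dd, h3, sub_self]))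
  rcases mul_self_eq_mul_self_iff.1 e3 with h4 | h4
  · exact Or.inr (Or.inr (by rw [dd, h4, sub_self]))
  have h5 : 2 * (u b * u c * w a) = 0 := by linear_combination (u c) * h1 + (u b) * h3 - (u a) * h4
  rcases mul_eq_zero.1 h5 with h5 | h5
  · exact absurd h5 h2
  rcases mul_eq_zero.1 h5 with h6 | h6
  · rcases mul_eq_zero.1 h6 with h7 | h7
    · left; rw [dd]; linear_combination h1 - (2 * w a) * h7
    · right; left; rw [dd]; linear_combination h3 - (2 * w a) * h7
  · left; rw [dd]; linear_combination h1 - (2 * u b) * h6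

section Step

variable (hO : Over M) (hn : n = 5 ∨ n = 6) (hL : Rigid M)

include hO hn hL

/-- A monomial conjugate of a sign change of one or two coordinates, or of all but one or two, comes from a
monomial isometry. -/
theorem mon_of_conj_flips {g : O F n} (hg : g ∈ M) {T : Finset (Fin n)}
    (hT : T.card = 1 ∨ T.card = 2 ∨ Tᶜ.card = 1 ∨ Tᶜ.card = 2)
    (ht : g * flips T * g⁻¹ ∈ (Mon : Subgroup (O F n))) : g ∈ (Mon : Subgroup (O F n)) := by
  classical
  have h2 := hO.two
  have h4n : 4 ≤ n := by rcases hn with e' | e' <;> rw [e'] <;> norm_num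
  have htc : g * flips Tᶜ * g⁻¹ ∈ (Mon : Subgroup (O F n)) := by
    have : g * flips Tᶜ * g⁻¹ = (g * flips T * g⁻¹) * flips Finset.univ := by
      rw [flips_compl_mul, mul_assoc (g * flips T) g⁻¹, flips_univ_comm g⁻¹]; group
    rw [this]
    exact mul_mem ht (diag_le_mon (flips_mem_diag _))
  have one : ∀ c, g * flips {c} * g⁻¹ ∈ (Mon : Subgroup (O F n)) → g ∈ (Mon : Subgroup (O F n)) := by
    intro c hc
    set w := g.1 (e c) with hw
    have hform : ∀ i, (g * flips {c} * g⁻¹).1 (e i) = e i - (2 * w i) • w := by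
      intro i
      have e1 : (flips {c} : O F n).1 ((g⁻¹).1 (e i)) = (g⁻¹).1 (e i) - (2 * (g⁻¹).1 (e i) c) • e c := by
        funext z
        simp only [flips_apply, Finset.mem_singleton, Pi.sub_apply, Pi.smul_apply, smul_eq_mul]
        rcases eq_or_ne z c with rfl | hz
        · rw [if_pos rfl, e_same]; ring
        · rw [if_neg hz, e_ne hz]; ring
      rw [mul_apply', mul_apply', e1, map_sub, map_smul, apply_inv', inv_coord h2]
    by_contra hgn
    obtain ⟨i, hi⟩ : ∃ i, w i ≠ 0 := by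
      by_contra h
      push Not at h
      exact hgn (mon_of_line hO h4n hL hg (k := c) (isLine_of_zero (a := c) fun z _ => h z))
    obtain ⟨i', hii, hi'⟩ : ∃ z, z ≠ i ∧ w z ≠ 0 := by
      by_contra h
      push Not at h
      exact hgn (mon_of_line hO h4n hL hg (k := c) (isLine_of_zero h))
    have hline : IsLine (e i - (2 * w i) • w) := hform i ▸ hc i
    have hne : (e i - (2 * w i) • w : Fin n → F) i' ≠ 0 := by simp [e_ne hii, h2, hi, hi']
    have hsupp : ∀ z, z ≠ i → z ≠ i' → w z = 0 := fun z hz hz' => by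
      have := line_coord hline (Ne.symm hz') hne
      simp [e_ne hz, h2, hi] at this
      exact this
    refine no_root hO hn hL hg (p := c) (Ne.symm hii) hsupp ?_
    have h1 := line_coord hline hii hne
    simp [e_same] at h1
    have h3 : w ⬝ᵥ w = 1 := by rw [hw, std_map, e_dot, e_same]
    rw [dot_two (Ne.symm hii) hsupp] at h3
    exact mul_left_cancel₀ h2 (by linear_combination -2 * h3 - 2 * h1)
  rcases hT with h | h | h | h
  · obtain ⟨c, rfl⟩ := Finset.card_eq_one.1 h; exact one c ht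
  · obtain ⟨p, q, hpq, rfl⟩ := Finset.card_eq_two.1 h; exact fusion hO hn hL hg hpq ht
  · obtain ⟨c, hc⟩ := Finset.card_eq_one.1 h; exact one c (hc ▸ htc)
  · obtain ⟨p, q, hpq, hc⟩ := Finset.card_eq_two.1 h; exact fusion hO hn hL hg hpq (hc ▸ htc)

/-- The product of two conjugate pair sign changes has odd order. -/
theorem odd_order {g : O F n} (hg : g ∈ M) (hgn : g ∉ (Mon : Subgroup (O F n))) {i j p q : Fin n} (hij : i ≠ j)
    (hpq : p ≠ q) : Odd (orderOf (flips {i, j} * (g * flips {p, q} * g⁻¹))) := by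
  classical
  set z : O F n := flips {i, j} with hz
  set s : O F n := g * flips {p, q} * g⁻¹ with hs
  set d : O F n := z * s with hd
  have hzz : z * z = 1 := flips_self _
  have hss : s * s = 1 := by
    rw [hs, show g * flips {p, q} * g⁻¹ * (g * flips {p, q} * g⁻¹) = g * (flips {p, q} * flips {p, q}) * g⁻¹ by group,
      flips_self, mul_one, mul_inv_cancel]
  have hzM : z ∈ M := hO.pair_mem hij
  have hsM : s ∈ M := M.mul_mem (M.mul_mem hg (hO.pair_mem hpq)) (M.inv_mem hg)
  have hdM : d ∈ M := M.mul_mem hzM hsM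
  have hzinv : z⁻¹ = z := inv_eq_of_mul_eq_one_left hzz
  have hsinv : s⁻¹ = s := inv_eq_of_mul_eq_one_left hss
  have hzd : z * d * z⁻¹ = d⁻¹ := by rw [hd, _root_.mul_inv_rev, hzinv, hsinv, ← mul_assoc z z, hzz, one_mul]
  have hzdk : ∀ k : ℕ, z * d ^ k = (d ^ k)⁻¹ * z := fun k => by
    rw [← inv_pow, ← hzd, conj_pow]; group
  rw [← Nat.not_even_iff_odd]
  rintro ⟨m, hm⟩
  have hpos : 0 < orderOf d := (isOfFinOrder_of_finite d).orderOf_pos
  set u : O F n := d ^ m with hu
  have huu : u * u = 1 := by rw [hu, ← pow_add, ← hm, pow_orderOf_eq_one]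
  have huinv : u⁻¹ = u := inv_eq_of_mul_eq_one_left huu
  have hu1 : u ≠ 1 := fun h => by
    have := Nat.le_of_dvd (by omega) (orderOf_dvd_of_pow_eq_one h)
    omega
  have huM : u ∈ M := M.pow_mem hdM m
  have hzu : z * u = u * z := by rw [hu, hzdk, ← hu, huinv]
  have huz : u ∈ (Mon : Subgroup (O F n)) :=
    mon_of_comm_flips hO hn hL huM (Or.inr (Or.inl (Finset.card_pair hij))) hzu.symm
  obtain ⟨h, x, y, hh, hxy, hconj⟩ : ∃ (h : O F n) (x y : Fin n), h ∈ M ∧ x ≠ y ∧ z * u = h * flips {x, y} * h⁻¹ := by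
    rcases Nat.even_or_odd m with ⟨l, hl⟩ | ⟨l, hl⟩
    · refine ⟨(d ^ l)⁻¹, i, j, M.inv_mem (M.pow_mem hdM l), hij, ?_⟩
      rw [hu, hl, pow_add, ← mul_assoc, hzdk, inv_inv]
    · refine ⟨(d ^ l)⁻¹ * g, p, q, M.mul_mem (M.inv_mem (M.pow_mem hdM l)) hg, hpq, ?_⟩
      have hzd1 : z * d = s := by rw [hd, ← mul_assoc, hzz, one_mul]
      calc z * u = z * d ^ l * (d * d ^ l) := by rw [hu, hl, mul_assoc, ← pow_succ', ← pow_add]; congr 2; omega
        _ = (d ^ l)⁻¹ * (z * d) * d ^ l := by rw [hzdk]; group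
        _ = _ := by rw [hzd1, hs]; group
  have hhn : h ∈ (Mon : Subgroup (O F n)) := fusion hO hn hL hh hxy (by
    rw [← hconj]; exact mul_mem (diag_le_mon (flips_mem_diag _)) huz)
  have h' := conj_flips ⟨h, hhn⟩ ({x, y} : Finset (Fin n))
  rw [← hconj] at h'
  obtain ⟨P, hP, hzP⟩ : ∃ P : Finset (Fin n), P.card = 2 ∧ z * u = flips P := ⟨_, by
    rw [Finset.card_image_of_injective _ (img_injective _), Finset.card_pair hxy], h'⟩
  set T : Finset (Fin n) := ({i, j} ∪ P) \ ({i, j} ∩ P) with hT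
  have huT : u = flips T := by rw [hT, ← flips_mul, ← hzP, ← hz, ← mul_assoc, hzz, one_mul]
  have hTne : T.card ≠ 0 := fun h0 => hu1 (by rw [huT, Finset.card_eq_zero.1 h0, flips_empty])
  have hTc : T.card = 1 ∨ T.card = 2 ∨ Tᶜ.card = 1 ∨ Tᶜ.card = 2 := by
    have e1 := Finset.card_union_add_card_inter ({i, j} : Finset (Fin n)) P
    rw [Finset.card_pair hij, hP] at e1
    have e2 : T.card + ({i, j} ∩ P).card = ({i, j} ∪ P).card := by
      rw [hT]; exact Finset.card_sdiff_add_card_eq_card (Finset.inter_subset_union)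
    have e3 := Finset.card_add_card_compl T
    rw [Fintype.card_fin] at e3
    omega
  have hsu : u * s = s * u := by
    have hs' : s = z * d := by rw [hd, ← mul_assoc, hzz, one_mul]
    rw [hs', ← mul_assoc, ← hzu, mul_assoc, mul_assoc, hu, ← pow_succ, ← pow_succ']
  refine hgn ?_
  have hv : g⁻¹ * u * g ∈ (Mon : Subgroup (O F n)) := by
    refine mon_of_comm_flips hO hn hL (M.mul_mem (M.mul_mem (M.inv_mem hg) huM) hg)
      (Or.inr (Or.inl (Finset.card_pair hpq))) ?_
    have h'' := congrArg (fun q => g⁻¹ * q * g) hsu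
    simp only [hs] at h''
    calc g⁻¹ * u * g * flips {p, q} = g⁻¹ * (u * (g * flips {p, q} * g⁻¹)) * g := by group
      _ = g⁻¹ * ((g * flips {p, q} * g⁻¹) * u) * g := h''
      _ = flips {p, q} * (g⁻¹ * u * g) := by group
  rw [← inv_mem_iff]
  refine mon_of_conj_flips hO hn hL (M.inv_mem hg) hTc ?_
  rwa [inv_inv, ← huT]

/-- No minor of two columns vanishes. -/
theorem minor_ne {g : O F n} (hg : g ∈ M) (hgn : g ∉ (Mon : Subgroup (O F n))) {p q r r' : Fin n} (hpq : p ≠ q)
    (hrr : r ≠ r') : dd (g.1 (e p)) (g.1 (e q)) r r' ≠ 0 := by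
  classical
  have h2 := hO.two
  intro hdd
  set u := g.1 (e p) with hu
  set w := g.1 (e q) with hw
  obtain ⟨a, b, hab, e1, e2⟩ : ∃ a b : F, ¬(a = 0 ∧ b = 0) ∧ a * u r + b * w r = 0 ∧ a * u r' + b * w r' = 0 := by
    by_cases h : u r = 0 ∧ w r = 0
    · by_cases h' : u r' = 0 ∧ w r' = 0
      · exact ⟨1, 0, by simp, by simp [h.1], by simp [h'.1]⟩
      · exact ⟨w r', -u r', fun hh => h' ⟨neg_eq_zero.1 hh.2, hh.1⟩, by rw [h.1, h.2]; ring, by ring⟩
    · refine ⟨w r, -u r, fun hh => h ⟨neg_eq_zero.1 hh.2, hh.1⟩, by ring, ?_⟩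
      rw [dd] at hdd
      linear_combination -hdd
  have huu : u ⬝ᵥ u = 1 := by rw [hu, std_map, e_dot, e_same]
  have hww : w ⬝ᵥ w = 1 := by rw [hw, std_map, e_dot, e_same]
  have huw : u ⬝ᵥ w = 0 := by rw [hu, hw, dot_isom h2, e_dot_e, if_neg hpq]
  set x := a • u + b • w with hx
  have hxz : (flips {r, r'} : O F n).1 x = x := by
    funext t
    rw [flips_apply]
    split_ifs with ht
    · simp only [Finset.mem_insert, Finset.mem_singleton] at ht
      rcases ht with rfl | rfl
      · simp [hx, e1]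
      · simp [hx, e2]
    · rfl
  have hxu : u ⬝ᵥ x = a := by simp [hx, dotProduct_add, dotProduct_smul, huu, huw]
  have hxw : w ⬝ᵥ x = b := by simp [hx, dotProduct_add, dotProduct_smul, hww, dotProduct_comm w u, huw]
  have hxs : (g * flips {p, q} * g⁻¹).1 x = -x := by
    rw [conj_pair_apply h2 g hpq, ← hu, ← hw, hxu, hxw, hx]; module
  have hxd : (flips {r, r'} * (g * flips {p, q} * g⁻¹)).1 x = -x := by rw [mul_apply', hxs, map_neg, hxz]
  have hpow : ∀ k : ℕ, ((flips {r, r'} * (g * flips {p, q} * g⁻¹)) ^ (2 * k + 1)).1 x = -x := by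
    intro k
    induction k with
    | zero => simpa using hxd
    | succ k ih =>
      rw [show 2 * (k + 1) + 1 = 2 * k + 1 + 1 + 1 by ring, pow_succ, mul_apply', hxd, map_neg, pow_succ,
        mul_apply', hxd, map_neg, ih, neg_neg]
  obtain ⟨k, hk⟩ := odd_order hO hn hL hg hgn hrr hpq
  have h0 := hpow k
  rw [← hk, pow_orderOf_eq_one, one_apply'] at h0
  have hxx : x = 0 := by
    have : (2 : F) • x = 0 := by rw [two_smul]; nth_rw 2 [h0]; exact add_neg_cancel x
    exact (smul_eq_zero.1 this).resolve_left h2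
  refine hab ⟨?_, ?_⟩
  · rw [← hxu, hxx, dotProduct_zero]
  · rw [← hxw, hxx, dotProduct_zero]

/-- Three rows of two columns cannot agree up to signs. -/
theorem false_of_sq {g : O F n} (hg : g ∈ M) (hgn : g ∉ (Mon : Subgroup (O F n))) {p q a b c : Fin n} (hpq : p ≠ q)
    (hab : a ≠ b) (hac : a ≠ c) (hbc : b ≠ c)
    (h : ∀ r r' : Fin n, (r = a ∨ r = b ∨ r = c) → (r' = a ∨ r' = b ∨ r' = c) →
      (g.1 (e p) r * g.1 (e q) r') * (g.1 (e p) r * g.1 (e q) r') =
        (g.1 (e p) r' * g.1 (e q) r) * (g.1 (e p) r' * g.1 (e q) r)) : False := by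
  rcases exists_dd_zero hO.two (h a b (by simp) (by simp)) (h a c (by simp) (by simp)) (h b c (by simp) (by simp))
    with h' | h' | h'
  exacts [minor_ne hO hn hL hg hgn hpq hab h', minor_ne hO hn hL hg hgn hpq hac h',
    minor_ne hO hn hL hg hgn hpq hbc h']

/-- An involution in `M` outside `Mon` interchanging two pair sign changes. -/
theorem exists_mid {g : O F n} (hg : g ∈ M) (hgn : g ∉ (Mon : Subgroup (O F n))) {i j p q : Fin n} (hij : i ≠ j)
    (hpq : p ≠ q) : ∃ y ∈ M, y ∉ (Mon : Subgroup (O F n)) ∧ y⁻¹ = y ∧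
      y * flips {i, j} * y = g * flips {p, q} * g⁻¹ := by
  classical
  set z : O F n := flips {i, j} with hz
  set s : O F n := g * flips {p, q} * g⁻¹ with hs
  obtain ⟨k, hk⟩ := odd_order hO hn hL hg hgn hij hpq
  set d : O F n := z * s with hd
  have hzz : z * z = 1 := flips_self _
  have hss : s * s = 1 := by
    rw [hs, show g * flips {p, q} * g⁻¹ * (g * flips {p, q} * g⁻¹) = g * (flips {p, q} * flips {p, q}) * g⁻¹ by group,
      flips_self, mul_one, mul_inv_cancel]
  have hzinv : z⁻¹ = z := inv_eq_of_mul_eq_one_left hzz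
  have hsinv : s⁻¹ = s := inv_eq_of_mul_eq_one_left hss
  have hzd : z * d * z⁻¹ = d⁻¹ := by rw [hd, _root_.mul_inv_rev, hzinv, hsinv, ← mul_assoc z z, hzz, one_mul]
  have hzdk : z * d ^ (k + 1) * z = (d ^ (k + 1))⁻¹ := by
    conv_lhs => arg 2; rw [← hzinv]
    rw [← conj_pow, hzd, inv_pow]
  have hyy : z * d ^ (k + 1) * (z * d ^ (k + 1)) = 1 := by rw [← mul_assoc, hzdk, inv_mul_cancel]
  have hyM : z * d ^ (k + 1) ∈ M := M.mul_mem (hO.pair_mem hij)
    (M.pow_mem (M.mul_mem (hO.pair_mem hij) (M.mul_mem (M.mul_mem hg (hO.pair_mem hpq)) (M.inv_mem hg))) _)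
  have hysy : z * d ^ (k + 1) * z * (z * d ^ (k + 1)) = s := by
    rw [show z * d ^ (k + 1) * z * (z * d ^ (k + 1)) = z * (d ^ (k + 1) * (z * z) * d ^ (k + 1)) by group,
      hzz, mul_one, ← pow_add, show k + 1 + (k + 1) = orderOf d + 1 by rw [hk]; ring, pow_succ, pow_orderOf_eq_one,
      one_mul, hd, ← mul_assoc, hzz, one_mul]
  refine ⟨_, hyM, fun hm => hgn ?_, inv_eq_of_mul_eq_one_left hyy, hysy⟩
  refine fusion hO hn hL hg hpq ?_
  rw [← hs, ← hysy]
  exact mul_mem (mul_mem hm (diag_le_mon (flips_mem_diag _))) hm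

end Step

end CfsgLib.Classical.FrameMax
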