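import Cfsg.Agent.Lib.Classical.FrameMax.SmallN

/-!
# Five or six coordinates: roots and pairs

In a rigid overgroup no column is a root, and whatever preserves a pair of frame lines is monomial.
-/

set_option autoImplicit false
set_option linter.unusedSectionVars false

namespace CfsgLib.Classical.FrameMax

open Module QuadraticMap Matrix CfsgLib.Orth

variable {F : Type*} [Field F] [Fintype F] {n : ℕ} {M : Subgroup (O F n)}

theorem isLine_of_zero {v : Fin n → F} {a : Fin n} (h : ∀ i, i ≠ a → v i = 0) : IsLine v :=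
  ⟨a, v a, eq_smul_e h⟩

theorem line_coord {v : Fin n → F} (h : IsLine v) {i j : Fin n} (hij : i ≠ j) (hi : v i ≠ 0) : v j = 0 := by
  obtain ⟨k, c, rfl⟩ := h
  rcases eq_or_ne i k with rfl | hik
  · simp [e_ne (Ne.symm hij)]
  · simp [e_ne hik] at hi

theorem dot_two {u : Fin n → F} {a b : Fin n} (hab : a ≠ b) (h : ∀ i, i ≠ a → i ≠ b → u i = 0) (y : Fin n → F) :
    u ⬝ᵥ y = u a * y a + u b * y b := by
  rw [dotProduct]
  exact Finset.sum_eq_add a b hab (fun c _ hc => by rw [h c hc.1 hc.2, zero_mul]) (by simp) (by simp)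

theorem eq_two {u : Fin n → F} {a b : Fin n} (hab : a ≠ b) (h : ∀ i, i ≠ a → i ≠ b → u i = 0) :
    u = u a • e a + u b • e b := by
  funext i
  simp only [Pi.add_apply, Pi.smul_apply, smul_eq_mul]
  rcases eq_or_ne i a with rfl | hia
  · simp [e_same, e_ne hab]
  rcases eq_or_ne i b with rfl | hib
  · simp [e_same, e_ne hia]
  · simp [e_ne hia, e_ne hib, h i hia hib]

/-- A monomial isometry fixing a vector with two coordinates fixes or negates the companion vector. -/
theorem companion {y : O F n} (hy : y ∈ (Mon : Subgroup (O F n))) {x : Fin n → F} {i i' : Fin n} (hii : i ≠ i')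
    (hx : ∀ j, j ≠ i → j ≠ i' → x j = 0) (hi : x i ≠ 0) (hi' : x i' ≠ 0) (hfix : y.1 x = x) :
    y.1 (x i • e i - x i' • e i') = x i • e i - x i' • e i' ∨
      y.1 (x i • e i - x i' • e i') = -(x i • e i - x i' • e i') := by
  obtain ⟨j, c, hj⟩ := hy i
  obtain ⟨j', c', hj'⟩ := hy i'
  have hjj : j ≠ j' := by
    rintro rfl
    have h : y.1 (c' • e i) = y.1 (c • e i') := by rw [map_smul, map_smul, hj, hj', smul_smul, smul_smul, mul_comm]
    have h' := congrFun (y.1.injective h) i
    simp [e_same, e_ne hii] at h'
    have := coord_sq y hj'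
    rw [h', mul_zero] at this
    exact zero_ne_one this
  have hc : c ≠ 0 := fun h => by have := coord_sq y hj; rw [h, mul_zero] at this; exact zero_ne_one this
  have hc' : c' ≠ 0 := fun h => by have := coord_sq y hj'; rw [h, mul_zero] at this; exact zero_ne_one this
  conv at hfix => lhs; rw [eq_two hii hx, map_add, map_smul, map_smul, hj, hj', smul_smul, smul_smul]
  have ej := congrFun hfix j
  have ej' := congrFun hfix j'
  simp [e_same, e_ne hjj, e_ne hjj.symm] at ej ej'
  have h1 : j = i ∨ j = i' := by
    by_contra h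
    push Not at h
    rw [hx j h.1 h.2] at ej
    exact mul_ne_zero hi hc ej
  have h1' : j' = i ∨ j' = i' := by
    by_contra h
    push Not at h
    rw [hx j' h.1 h.2] at ej'
    exact mul_ne_zero hi' hc' ej'
  rw [map_sub, map_smul, map_smul, hj, hj', smul_smul, smul_smul, ej, ej']
  rcases h1 with e1 | e1 <;> rcases h1' with e1' | e1'
  · exact absurd (e1.trans e1'.symm) hjj
  · rw [e1, e1']; exact Or.inl rfl
  · rw [e1, e1']; exact Or.inr (neg_sub _ _).symm
  · exact absurd (e1.trans e1'.symm) hjj

section Step

variable (hO : Over M) (hn : n = 5 ∨ n = 6) (hL : Rigid M)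

include hO hn hL

/-- No column is a root. -/
theorem no_root {g : O F n} (hg : g ∈ M) {p a b : Fin n} (hab : a ≠ b)
    (hsupp : ∀ i, i ≠ a → i ≠ b → g.1 (e p) i = 0)
    (hsq : g.1 (e p) a * g.1 (e p) a = g.1 (e p) b * g.1 (e p) b) : False := by
  classical
  have h2 := hO.two
  have h4n : 4 ≤ n := by omega
  set u := g.1 (e p) with hu
  have huu : u ⬝ᵥ u = 1 := by rw [hu, std_map, e_dot, e_same]
  have hu2 : 2 * (u a * u a) = 1 := by
    rw [dot_two hab hsupp, ← hsq] at huu
    linear_combination huu
  have ha0 : u a ≠ 0 := fun h => by rw [h] at hu2; simp at hu2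
  have hb0 : u b ≠ 0 := fun h => by rw [h, mul_zero] at hsq; exact ha0 (mul_self_eq_zero.1 hsq)
  set r : Fin n → F := u a • e a - u b • e b with hr
  have hra : r a = u a := by simp [hr, e_same, e_ne hab]
  have hrb : r b = -u b := by simp [hr, e_same, e_ne hab.symm]
  have hro : ∀ i, i ≠ a → i ≠ b → r i = 0 := fun i h1 h1' => by simp [hr, e_ne h1, e_ne h1']
  set x := (g⁻¹).1 r with hx
  have hgx : g.1 x = r := by rw [hx, apply_inv']
  have hxx : x ⬝ᵥ x = 1 := by
    rw [← std_map g, hgx, dot_two hab hro, hra, hrb]
    linear_combination hu2 - hsq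
  have hxp : x p = 0 := by
    rw [← dot_e x p, ← dot_isom h2 g, hgx, dot_two hab hro, hra, hrb, ← hu]
    linear_combination hsq
  -- everything orthogonal to `u` and `r` vanishes on the two coordinates
  have hperp : ∀ y : Fin n → F, y p = 0 → x ⬝ᵥ y = 0 → g.1 y a = 0 ∧ g.1 y b = 0 := by
    intro y hy hy'
    have e1 : u a * g.1 y a + u b * g.1 y b = 0 := by
      rw [← dot_two hab hsupp, hu, dot_isom h2, e_dot, hy]
    have e2 : u a * g.1 y a + (-u b) * g.1 y b = 0 := by
      rw [← hra, ← hrb, ← dot_two hab hro, ← hgx, dot_isom h2, hy']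
    exact ⟨(mul_eq_zero.1 (show 2 * u a * g.1 y a = 0 by linear_combination e1 + e2)).resolve_left
        (mul_ne_zero h2 ha0),
      (mul_eq_zero.1 (show 2 * u b * g.1 y b = 0 by linear_combination e1 - e2)).resolve_left (mul_ne_zero h2 hb0)⟩
  -- pulled back monomial isometries
  have hpull : ∀ t : O F n, t ∈ M → t.1 u = u → g⁻¹ * t * g ∈ (Mon : Subgroup (O F n)) := fun t ht htu =>
    hL _ (M.mul_mem (M.mul_mem (M.inv_mem hg) ht) hg) p (by
      rw [mul_apply', mul_apply', ← hu, htu, hu, inv_apply'])
  -- the second vector is a line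
  obtain ⟨l, cl, hl⟩ : IsLine x := by
    by_contra hnl
    set μ : O F n := g⁻¹ * flips {a, b} * g with hμ
    have hflip : ∀ y : Fin n → F,
        (flips {a, b}).1 y = y - (2 * (u ⬝ᵥ y)) • u - (2 * (r ⬝ᵥ y)) • r := by
      intro y
      funext i
      rw [flips_apply, dot_two hab hsupp, dot_two hab hro, hra, hrb]
      simp only [Pi.sub_apply, Pi.smul_apply, smul_eq_mul, Finset.mem_insert, Finset.mem_singleton]
      rcases eq_or_ne i a with rfl | hia
      · rw [if_pos (Or.inl rfl), hra]
        linear_combination (2 * y i) * hu2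
      rcases eq_or_ne i b with rfl | hib
      · rw [if_pos (Or.inr rfl), hrb]
        linear_combination (2 * y i) * hu2 - (4 * y i) * hsq
      · rw [if_neg (by simp [hia, hib]), hsupp i hia hib, hro i hia hib]; ring
    have hμy : ∀ y : Fin n → F, μ.1 y = y - (2 * y p) • e p - (2 * (x ⬝ᵥ y)) • x := by
      intro y
      rw [hμ, mul_apply', mul_apply', hflip, map_sub, map_sub, map_smul, map_smul, inv_apply', ← hgx, inv_apply',
        hu, inv_apply', dot_isom h2, dot_isom h2, e_dot]
    have hμmon : μ ∈ (Mon : Subgroup (O F n)) := by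
      refine mon_of_line hO h4n hL (M.mul_mem (M.mul_mem (M.inv_mem hg) (hO.pair_mem hab)) hg) (k := p)
        ⟨p, -1, ?_⟩
      rw [hμy, e_same, dot_e, hxp]
      module
    obtain ⟨i, hi⟩ : ∃ i, x i ≠ 0 := by
      by_contra h
      push Not at h
      rw [show x = 0 from funext h, zero_dotProduct] at hxx
      exact zero_ne_one hxx
    obtain ⟨i', hii, hi'⟩ : ∃ j, j ≠ i ∧ x j ≠ 0 := by
      by_contra h
      push Not at h
      exact hnl (isLine_of_zero h)
    have hip : i ≠ p := fun h => hi (h ▸ hxp)
    have hμi : μ.1 (e i) = e i - (2 * x i) • x := by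
      rw [hμy, e_ne (Ne.symm hip), dot_e]; simp
    have hline : IsLine (e i - (2 * x i) • x) := hμi ▸ hμmon i
    have hi2 : (e i - (2 * x i) • x : Fin n → F) i' ≠ 0 := by
      simp [e_ne hii, h2, hi, hi']
    have hxi : 2 * (x i * x i) = 1 := by
      have := line_coord hline hii hi2
      simp [e_same] at this
      linear_combination -this
    have hxo : ∀ j, j ≠ i → j ≠ i' → x j = 0 := fun j hj hj' => by
      have := line_coord hline (Ne.symm hj') hi2
      simp [e_ne hj, h2, hi] at this
      exact this
    have hxi' : 2 * (x i' * x i') = 1 := by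
      rw [dot_two (Ne.symm hii) hxo] at hxx
      linear_combination 2 * hxx - hxi
    set xp : Fin n → F := x i • e i - x i' • e i' with hxp'
    set v := g.1 xp with hv
    have hxp0 : xp i ≠ 0 := by simp [hxp', e_same, e_ne (Ne.symm hii), hi]
    have hpp : xp p = 0 := by
      have hi'p : i' ≠ p := fun h => hi' (h ▸ hxp)
      simp [hxp', e_ne (Ne.symm hip), e_ne (Ne.symm hi'p)]
    have hxxp : x ⬝ᵥ xp = 0 := by
      rw [dot_two (Ne.symm hii) hxo, hxp']
      simp [e_same, e_ne hii, e_ne (Ne.symm hii)]
      refine (mul_eq_zero.1 (show (2 : F) * _ = 0 from ?_)).resolve_left h2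
      linear_combination hxi - hxi'
    obtain ⟨hva, hvb⟩ := hperp xp hpp hxxp
    have hfix2 : ∀ t : O F n, (∀ c, c = a ∨ c = b → t.1 (e c) = e c) → t.1 u = u ∧ t.1 r = r := by
      intro t ht
      refine ⟨fix_of_fix_e t fun c => ?_, fix_of_fix_e t fun c => ?_⟩ <;>
      · by_cases hc : c = a ∨ c = b
        · exact Or.inr (ht c hc)
        · push Not at hc
          first
            | exact Or.inl (hsupp c hc.1 hc.2)
            | exact Or.inl (hro c hc.1 hc.2)
    have hcomp : ∀ t : O F n, t ∈ M → (∀ c, c = a ∨ c = b → t.1 (e c) = e c) → t.1 v = v ∨ t.1 v = -v := by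
      intro t ht htc
      obtain ⟨htu, htr⟩ := hfix2 t htc
      have hy := hpull t ht htu
      have hyx : (g⁻¹ * t * g).1 x = x := by rw [mul_apply', mul_apply', hgx, htr]
      rcases companion hy (Ne.symm hii) hxo hi hi' hyx with h | h <;>
        rw [mul_apply', mul_apply', ← hv, ← hxp'] at h
      · left
        have := congrArg g.1 h
        rwa [apply_inv', ← hv] at this
      · right
        have := congrArg g.1 h
        rwa [apply_inv', map_neg, ← hv] at this
    -- the companion is constant outside the two coordinates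
    have hcyc : ∀ c d f, c ∉ ({a, b} : Finset (Fin n)) → d ∉ ({a, b} : Finset (Fin n)) →
        f ∉ ({a, b} : Finset (Fin n)) → c ≠ d → c ≠ f → d ≠ f → (permO (cyc c d f)).1 v = v := by
      intro c d f hc hd hf hcd hcf hdf
      simp only [Finset.mem_insert, Finset.mem_singleton, not_or] at hc hd hf
      have hfix : ∀ z, z = a ∨ z = b → (permO (cyc c d f) : O F n).1 (e z) = e z := by
        rintro z (rfl | rfl)
        · rw [permO_e, cyc_of_ne (Ne.symm hc.1) (Ne.symm hd.1) (Ne.symm hf.1)]
        · rw [permO_e, cyc_of_ne (Ne.symm hc.2) (Ne.symm hd.2) (Ne.symm hf.2)]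
      rcases hcomp _ (hO.perm_mem (sign_cyc hcd hdf)) hfix with h | h
      · exact h
      exfalso
      have h3 : cyc c d f * (cyc c d f * cyc c d f) = 1 := by
        refine Equiv.ext fun z => ?_
        simp only [Equiv.Perm.mul_apply, Equiv.Perm.one_apply]
        by_cases hzc : z = c
        · subst hzc; rw [cyc_left hcd hcf, cyc_mid hcf hdf, cyc_right]
        by_cases hzd : z = d
        · subst hzd; rw [cyc_mid hcf hdf, cyc_right, cyc_left hcd hcf]
        by_cases hzf : z = f
        · subst hzf; rw [cyc_right, cyc_left hcd hcf, cyc_mid hcf hdf]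
        rw [cyc_of_ne hzc hzd hzf, cyc_of_ne hzc hzd hzf, cyc_of_ne hzc hzd hzf]
      have h4 : (permO (cyc c d f) : O F n).1 ((permO (cyc c d f)).1 ((permO (cyc c d f)).1 v)) = v := by
        rw [← mul_apply', ← mul_apply', ← map_mul, ← map_mul, mul_assoc, h3, map_one, one_apply']
      rw [h, map_neg, h, neg_neg, h] at h4
      have h5 : (2 : F) • v = 0 := by rw [two_smul]; nth_rw 1 [← h4]; exact neg_add_cancel v
      have hv0 : v = 0 := (smul_eq_zero.1 h5).resolve_left h2
      rw [hv, LinearEquiv.map_eq_zero_iff] at hv0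
      exact hxp0 (by rw [hv0]; rfl)
    obtain ⟨c, hc⟩ := exists_avoid ({a, b} : Finset (Fin n))
      (by have : ({a, b} : Finset (Fin n)).card ≤ 2 := Finset.card_le_two; omega)
    obtain ⟨d, hd⟩ := exists_avoid ({a, b, c} : Finset (Fin n))
      (by have : ({a, b, c} : Finset (Fin n)).card ≤ 3 := Finset.card_le_three; omega)
    obtain ⟨f, hf⟩ := exists_avoid ({a, b, c, d} : Finset (Fin n))
      (by have : ({a, b, c, d} : Finset (Fin n)).card ≤ 4 := Finset.card_le_four; omega)
    simp only [Finset.mem_insert, Finset.mem_singleton, not_or] at hc hd hf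
    have hX : ({a, b} : Finset (Fin n)).card + 3 ≤ n := by
      have : ({a, b} : Finset (Fin n)).card ≤ 2 := Finset.card_le_two
      omega
    have heq : ∀ z, z ≠ a → z ≠ b → v z = v c := fun z hza hzb =>
      eq_of_cycles hcyc hX (by simp [hza, hzb]) (by simp [hc])
    have hvc : v c ≠ 0 := by
      intro h0
      have hv0 : v = 0 := funext fun z => by
        rcases eq_or_ne z a with rfl | hza
        · exact hva
        rcases eq_or_ne z b with rfl | hzb
        · exact hvb
        rw [heq z hza hzb, h0]; rfl
      rw [hv, LinearEquiv.map_eq_zero_iff] at hv0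
      exact hxp0 (by rw [hv0]; rfl)
    have hfl : ∀ z, z = a ∨ z = b → (flips {c, d} : O F n).1 (e z) = e z := by
      intro z hz
      rw [flips_e, if_neg, one_smul]
      simp only [Finset.mem_insert, Finset.mem_singleton, not_or]
      rcases hz with rfl | rfl
      · exact ⟨Ne.symm hc.1, Ne.symm hd.1⟩
      · exact ⟨Ne.symm hc.2, Ne.symm hd.2.1⟩
    rcases hcomp _ (hO.pair_mem (Ne.symm hd.2.2)) hfl with h | h
    · have := congrFun h c
      rw [flips_apply, if_pos (Finset.mem_insert_self _ _)] at this
      exact hvc ((mul_eq_zero.1 (show 2 * v c = 0 by linear_combination -this)).resolve_left h2)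
    · have := congrFun h f
      rw [flips_apply, if_neg (by simp [hf.2.2.1, hf.2.2.2]), Pi.neg_apply, heq f hf.1 hf.2.1] at this
      exact hvc ((mul_eq_zero.1 (show 2 * v c = 0 by linear_combination this)).resolve_left h2)
  -- the second column
  have hlp : l ≠ p := by
    rintro rfl
    rw [hl] at hxp hxx
    simp [e_same] at hxp
    subst hxp
    simp at hxx
  have hcl : cl * cl = 1 := by
    rw [hl, smul_dotProduct, dotProduct_smul, e_dot, e_same] at hxx
    simpa using hxx
  have hgl : g.1 (e l) = cl • r := by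
    rw [← hgx, hl, map_smul, smul_smul, hcl, one_smul]
  obtain ⟨m, hm⟩ := exists_avoid ({p, l} : Finset (Fin n))
    (by have : ({p, l} : Finset (Fin n)).card ≤ 2 := Finset.card_le_two; omega)
  simp only [Finset.mem_insert, Finset.mem_singleton, not_or] at hm
  set v := g.1 (e m) with hv
  have hvv : v ⬝ᵥ v = 1 := by rw [hv, std_map, e_dot, e_same]
  obtain ⟨hva, hvb⟩ := hperp (e m) (e_ne (Ne.symm hm.1)) (by rw [hl, smul_dotProduct, e_dot, e_ne (Ne.symm hm.2)]; simp)
  rw [← hv] at hva hvb
  by_cases hzero : ∃ z, z ≠ a ∧ z ≠ b ∧ v z = 0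
  · obtain ⟨z, hza, hzb, hz⟩ := hzero
    set Y : O F n := g * permO (cyc p l m) * g⁻¹ with hY
    have hYfix : Y.1 (e z) = e z := by
      rw [hY, mul_apply', mul_apply', fix_of_fix_e (permO (cyc p l m)), apply_inv']
      intro c
      by_cases hcp : c = p
      · subst hcp; left; rw [inv_coord h2, ← hu]; exact hsupp z hza hzb
      by_cases hcl' : c = l
      · subst hcl'; left; rw [inv_coord h2, hgl]; simp [hro z hza hzb]
      by_cases hcm : c = m
      · subst hcm; left; rw [inv_coord h2, ← hv]; exact hz
      right; rw [permO_e, cyc_of_ne hcp hcl' hcm]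
    have hYm : Y ∈ (Mon : Subgroup (O F n)) :=
      hL _ (M.mul_mem (M.mul_mem hg (hO.perm_mem (sign_cyc (Ne.symm hlp) (Ne.symm hm.2)))) (M.inv_mem hg)) z hYfix
    have hYu : Y.1 u = cl • r := by
      rw [hY, mul_apply', mul_apply', hu, inv_apply', permO_e, cyc_left (Ne.symm hlp) (Ne.symm hm.1), hgl]
    have hYr : Y.1 r = cl • v := by
      rw [hY, mul_apply', mul_apply', ← hgx, inv_apply', hl, map_smul, permO_e,
        cyc_mid (Ne.symm hm.1) (Ne.symm hm.2), map_smul]
    have h2a : (2 * u a) • e a = u + r := by
      funext i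
      simp only [Pi.add_apply, Pi.smul_apply, smul_eq_mul]
      rcases eq_or_ne i a with rfl | hia
      · rw [hra, e_same]; ring
      rcases eq_or_ne i b with rfl | hib
      · rw [hrb, e_ne hia]; ring
      · rw [hsupp i hia hib, hro i hia hib, e_ne hia]; ring
    have hline : IsLine ((2 * u a) • Y.1 (e a)) := by
      obtain ⟨j, c, hj⟩ := hYm a
      exact ⟨j, 2 * u a * c, by rw [hj, smul_smul]⟩
    rw [← map_smul, h2a, map_add, hYu, hYr] at hline
    have hcl0 : cl ≠ 0 := fun h => by rw [h, mul_zero] at hcl; exact zero_ne_one hcl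
    have := line_coord hline hab (by simp [hra, hva, hcl0, ha0])
    simp [hrb, hvb, hcl0, hb0] at this
  push Not at hzero
  -- every other coordinate has square one half
  have hhalf : ∀ c, c ≠ a → c ≠ b → 2 * (v c * v c) = 1 := by
    intro c hca hcb
    obtain ⟨π, hπ, hπa, hπb⟩ := exists_even_perm h4n hab (Ne.symm hlp)
    have hw1 := hO.perm_mem hπ
    have hπcp : π c ≠ p := fun h => hca (π.injective (h.trans hπa.symm))
    have hπcl : π c ≠ l := fun h => hcb (π.injective (h.trans hπb.symm))
    have hgw : ∀ (w : O F n) (ε : F), w ∈ M → ε * ε = 1 → w.1 (e a) = ε • e p → w.1 (e b) = e l →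
        IsLine (g.1 (w.1 v)) := by
      intro w ε hwM hε hwa hwb
      have hline : IsLine (g.1 (w.1 (g.1 (e p)))) := by
        rw [← hu, eq_two hab hsupp, map_add, map_smul, map_smul, hwa, hwb, map_add, map_smul, map_smul, map_smul,
          ← hu, hgl]
        have hxy : (ε * u a) * (ε * u a) = (cl * u b) * (cl * u b) := by
          linear_combination hsq + (u a * u a) * hε - (u b * u b) * hcl
        rcases mul_self_eq_mul_self_iff.1 hxy with h | h
        · refine isLine_of_zero (a := a) fun i hi => ?_
          simp only [Pi.add_apply, Pi.smul_apply, smul_eq_mul]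
          rcases eq_or_ne i b with rfl | hib
          · rw [hrb]; linear_combination (u i) * h
          · rw [hsupp i hi hib, hro i hi hib]; ring
        · refine isLine_of_zero (a := b) fun i hi => ?_
          simp only [Pi.add_apply, Pi.smul_apply, smul_eq_mul]
          rcases eq_or_ne i a with rfl | hia
          · rw [hra]; linear_combination (u i) * h
          · rw [hsupp i hia hi, hro i hia hi]; ring
      have := (sandwich_mon hO h4n hL hg hwM hline) m
      rwa [mul_apply', mul_apply', ← hv] at this
    have hl1 := hgw (permO π) 1 hw1 (one_mul 1) (by rw [permO_e, hπa, one_smul]) (by rw [permO_e, hπb])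
    have hl2 := hgw (flips {p, π c} * permO π) (-1) (M.mul_mem (hO.pair_mem (Ne.symm hπcp)) hw1) (by ring)
      (by rw [mul_apply', permO_e, hπa, flips_e, if_pos (Finset.mem_insert_self _ _)])
      (by rw [mul_apply', permO_e, hπb, flips_e, if_neg (by simp [hlp, Ne.symm hπcl]), one_smul])
    set X := (permO π : O F n).1 v with hX
    have hXp : X p = 0 := by rw [hX, permO_apply, ← hπa, Equiv.symm_apply_apply, hva]
    have hXc : X (π c) = v c := by rw [hX, permO_apply, Equiv.symm_apply_apply]
    have hY : (flips {p, π c} * permO π : O F n).1 v = (flips {π c}).1 X := by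
      rw [mul_apply', ← hX]
      funext i
      rw [flips_apply, flips_apply]
      by_cases hip : i = p
      · subst hip; simp [hXp]
      · simp [hip]
    rw [hY] at hl2
    have hXX : X ⬝ᵥ X = 1 := by rw [hX, std_map, hvv]
    rcases two_point h2 g hl1 hl2 (std_map _ _).symm with h | h | h
    · rw [dot_flips_one, hXX, hXc] at h
      linear_combination -h
    · have := congrFun h (π c)
      rw [flips_apply, if_pos (Finset.mem_singleton_self _), hXc] at this
      exact absurd ((mul_eq_zero.1 (show 2 * v c = 0 by linear_combination -this)).resolve_left h2) (hzero c hca hcb)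
    · obtain ⟨z, hz⟩ := exists_avoid ({a, b, c} : Finset (Fin n))
        (by have : ({a, b, c} : Finset (Fin n)).card ≤ 3 := Finset.card_le_three; omega)
      simp only [Finset.mem_insert, Finset.mem_singleton, not_or] at hz
      have := congrFun h (π z)
      rw [flips_apply, if_neg (by simp [hz.2.2]), Pi.neg_apply, hX, permO_apply, Equiv.symm_apply_apply] at this
      exact absurd ((mul_eq_zero.1 (show 2 * v z = 0 by linear_combination this)).resolve_left h2)
        (hzero z hz.1 hz.2.1)
  have hsum : ∑ i ∈ ({a, b} : Finset (Fin n))ᶜ, 2 * (v i * v i) = 2 := by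
    rw [← Finset.mul_sum]
    have : ∑ i ∈ ({a, b} : Finset (Fin n))ᶜ, v i * v i = 1 := by
      rw [← hvv, dotProduct]
      refine Finset.sum_subset (Finset.subset_univ _) fun i _ hi => ?_
      simp only [Finset.mem_compl, not_not, Finset.mem_insert, Finset.mem_singleton] at hi
      rcases hi with rfl | rfl <;> simp [hva, hvb]
    rw [this, mul_one]
  rw [Finset.sum_congr rfl (g := fun _ => (1 : F)) fun i hi => by
    simp only [Finset.mem_compl, Finset.mem_insert, Finset.mem_singleton, not_or] at hi
    exact hhalf i hi.1 hi.2, Finset.sum_const, Finset.card_compl, Fintype.card_fin, Finset.card_pair hab,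
    nsmul_one] at hsum
  rcases hn with rfl | rfl
  · exact one_ne_zero (show (1 : F) = 0 by push_cast at hsum; linear_combination hsum)
  · exact h2 (by push_cast at hsum; linear_combination hsum)

/-- An element of `M` preserving the span of two frame vectors is monomial. -/
theorem mon_of_pair {g : O F n} (hg : g ∈ M) {a b : Fin n} (hab : a ≠ b)
    (ha : ∀ i, i ≠ a → i ≠ b → g.1 (e a) i = 0) (hb : ∀ i, i ≠ a → i ≠ b → g.1 (e b) i = 0) :
    g ∈ (Mon : Subgroup (O F n)) := by
  classical
  have h2 := hO.two
  have h4n : 4 ≤ n := by omega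
  -- a rotation of the two coordinates
  have key : ∀ (g : O F n) (α β : F), g ∈ M → α ≠ 0 → β ≠ 0 → g.1 (e a) = α • e a + β • e b →
      g.1 (e b) = (-β) • e a + α • e b → g ∈ (Mon : Subgroup (O F n)) := by
    intro g α β hg hα hβ hga hgb
    have hab1 : α * α + β * β = 1 := by
      have := std_map g (e a)
      rw [hga, e_dot, e_same] at this
      simp [add_dotProduct, dotProduct_add, smul_dotProduct, dotProduct_smul, e_dot_e, hab, hab.symm] at this
      linear_combination this
    obtain ⟨c, hc⟩ := exists_avoid ({a, b} : Finset (Fin n))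
      (by have : ({a, b} : Finset (Fin n)).card ≤ 2 := Finset.card_le_two; omega)
    simp only [Finset.mem_insert, Finset.mem_singleton, not_or] at hc
    set v := g.1 (e c) with hv
    have hvv : v ⬝ᵥ v = 1 := by rw [hv, std_map, e_dot, e_same]
    have e1 : α * v a + β * v b = 0 := by
      have h := dot_isom h2 g (e a) (e c)
      rw [e_dot_e, if_neg (Ne.symm hc.1), hga, ← hv] at h
      simp [add_dotProduct, smul_dotProduct, e_dot] at h
      linear_combination h
    have e2 : -β * v a + α * v b = 0 := by
      have h := dot_isom h2 g (e b) (e c)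
      rw [e_dot_e, if_neg (Ne.symm hc.2), hgb, ← hv] at h
      simp [add_dotProduct, smul_dotProduct, e_dot] at h
      linear_combination h
    have hva : v a = 0 := by linear_combination α * e1 - β * e2 - v a * hab1
    have hvb : v b = 0 := by linear_combination β * e1 + α * e2 - v b * hab1
    by_contra hgn
    have hsand : ∀ σ : O F n, σ ∈ M → IsLine (g.1 (σ.1 (g.1 (e a)))) → IsLine (g.1 (σ.1 v)) := by
      intro σ hσ hl
      have := (sandwich_mon hO h4n hL hg hσ hl) c
      rwa [mul_apply', mul_apply', ← hv] at this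
    have hw : ∀ m, m ≠ a → m ≠ b → IsLine (g.1 ((flips {m}).1 v)) := by
      intro m hma hmb
      have hl := hsand (flips {a, m}) (hO.pair_mem (Ne.symm hma)) (by
        rw [hga, map_add, map_smul, map_smul, flips_e, flips_e, if_pos (Finset.mem_insert_self _ _),
          if_neg (by simp [hab.symm, Ne.symm hmb]), one_smul, smul_smul, map_add, map_smul, map_smul, hga, hgb]
        refine isLine_of_zero (a := a) fun i hi => ?_
        simp only [Pi.add_apply, Pi.smul_apply, smul_eq_mul, e_ne hi]
        ring)
      have he : (flips {m} : O F n).1 v = (flips {a, m}).1 v := by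
        funext i
        rw [flips_apply, flips_apply]
        rcases eq_or_ne i a with rfl | hia
        · simp [Ne.symm hma, hva]
        · simp [hia]
      rwa [he]
    by_cases hline : IsLine v
    · exact hgn (mon_of_line hO h4n hL hg (k := c) hline)
    obtain ⟨c₁, hc₁⟩ : ∃ i, v i ≠ 0 := by
      by_contra h
      push Not at h
      exact hline (isLine_of_zero (a := a) fun i _ => h i)
    obtain ⟨c₂, h12, hc₂⟩ : ∃ i, i ≠ c₁ ∧ v i ≠ 0 := by
      by_contra h
      push Not at h
      exact hline (isLine_of_zero h)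
    have hout : ∀ {m}, v m ≠ 0 → m ≠ a ∧ m ≠ b := fun hm => ⟨fun h => hm (h ▸ hva), fun h => hm (h ▸ hvb)⟩
    have hfm : ∀ m, (flips {m} : O F n).1 v ⬝ᵥ (flips {m}).1 v = v ⬝ᵥ v := fun m => std_map _ _
    have hfz : ∀ m, v m = 0 → (flips {m} : O F n).1 v = v := fun m hm => by
      funext i
      rw [flips_apply]
      by_cases him : i = m
      · subst him; simp [hm]
      · simp [him]
    have hdot2 : ∀ m m', m ≠ m' → (flips {m} : O F n).1 v ⬝ᵥ (flips {m'}).1 v =
        1 - 2 * (v m * v m) - 2 * (v m' * v m') := by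
      intro m m' hmm
      set w := (flips {m} : O F n).1 v with hw'
      have hw'm : w m' = v m' := by rw [hw', flips_apply, if_neg (by simpa using hmm.symm)]
      have hsub : (flips {m'} : O F n).1 v = v - (2 * v m') • e m' := by
        funext i
        rw [flips_apply]
        by_cases him : i = m'
        · subst him; simp [e_same]; ring
        · simp [him, e_ne him]
      rw [hsub, dotProduct_sub, dotProduct_smul, dot_e, hw'm, dotProduct_comm, hw', dot_flips_one, hvv, smul_eq_mul]
      ring
    by_cases h3 : ∃ c₃, c₃ ≠ c₁ ∧ c₃ ≠ c₂ ∧ v c₃ ≠ 0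
    · obtain ⟨c₃, h31, h32, hc₃⟩ := h3
      -- translates are independent
      have hnp : ∀ m m', m ≠ m' → v m ≠ 0 → (flips {m'} : O F n).1 v ≠ (flips {m}).1 v ∧
          (flips {m'} : O F n).1 v ≠ -(flips {m}).1 v := by
        intro m m' hmm hm
        refine ⟨fun h => ?_, fun h => ?_⟩
        · have := congrFun h m
          rw [flips_apply, flips_apply, if_neg (by simpa using hmm), if_pos (Finset.mem_singleton_self m)] at this
          exact hm ((mul_eq_zero.1 (show 2 * v m = 0 by linear_combination this)).resolve_left h2)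
        · obtain ⟨z, hz, hzm, hzm'⟩ : ∃ z, v z ≠ 0 ∧ z ≠ m ∧ z ≠ m' := by
            by_cases h1m : c₁ = m ∨ c₁ = m'
            · by_cases h2m : c₂ = m ∨ c₂ = m'
              · refine ⟨c₃, hc₃, ?_, ?_⟩
                · rintro rfl
                  rcases h1m with rfl | rfl <;> rcases h2m with rfl | rfl <;> simp_all
                · rintro rfl
                  rcases h1m with rfl | rfl <;> rcases h2m with rfl | rfl <;> simp_all
              · exact ⟨c₂, hc₂, fun h => h2m (Or.inl h), fun h => h2m (Or.inr h)⟩
            · exact ⟨c₁, hc₁, fun h => h1m (Or.inl h), fun h => h1m (Or.inr h)⟩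
          have := congrFun h z
          rw [Pi.neg_apply, flips_apply, flips_apply, if_neg (by simpa using hzm'), if_neg (by simpa using hzm)] at this
          exact hz ((mul_eq_zero.1 (show 2 * v z = 0 by linear_combination this)).resolve_left h2)
      have hrel : ∀ m m', m ≠ m' → v m ≠ 0 → m' ≠ a → m' ≠ b →
          2 * (v m * v m) + 2 * (v m' * v m') = 1 := by
        intro m m' hmm hm hma' hmb'
        obtain ⟨n1, n2⟩ := hnp m m' hmm hm
        rcases two_point h2 g (hw m (hout hm).1 (hout hm).2) (hw m' hma' hmb') ((hfm m).trans (hfm m').symm) with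
          h | h | h
        · rw [hdot2 m m' hmm] at h; linear_combination -h
        · exact absurd h n1
        · exact absurd h n2
      have h12' := hrel c₁ c₂ (Ne.symm h12) hc₁ (hout hc₂).1 (hout hc₂).2
      have h13 := hrel c₁ c₃ (Ne.symm h31) hc₁ (hout hc₃).1 (hout hc₃).2
      have h23 := hrel c₂ c₃ (Ne.symm h32) hc₂ (hout hc₃).1 (hout hc₃).2
      have hx1 : 4 * (v c₁ * v c₁) = 1 := by linear_combination h12' + h13 - h23
      have hx3 : 4 * (v c₃ * v c₃) = 1 := by linear_combination h13 + h23 - h12'
      have hquart : ∀ m, m ≠ a → m ≠ b → 4 * (v m * v m) = 1 := by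
        intro m hma hmb
        by_cases hm1 : m = c₁
        · rwa [hm1]
        have h := hrel c₁ m (Ne.symm hm1) hc₁ hma hmb
        linear_combination 2 * h - hx1
      have hsum : ∑ i ∈ ({a, b} : Finset (Fin n))ᶜ, 4 * (v i * v i) = 4 := by
        rw [← Finset.mul_sum]
        have : ∑ i ∈ ({a, b} : Finset (Fin n))ᶜ, v i * v i = 1 := by
          rw [← hvv, dotProduct]
          refine Finset.sum_subset (Finset.subset_univ _) fun i _ hi => ?_
          simp only [Finset.mem_compl, not_not, Finset.mem_insert, Finset.mem_singleton] at hi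
          rcases hi with rfl | rfl <;> simp [hva, hvb]
        rw [this, mul_one]
      rw [Finset.sum_congr rfl (g := fun _ => (1 : F)) fun i hi => by
        simp only [Finset.mem_compl, Finset.mem_insert, Finset.mem_singleton, not_or] at hi
        exact hquart i hi.1 hi.2, Finset.sum_const, Finset.card_compl, Fintype.card_fin, Finset.card_pair hab,
        nsmul_one] at hsum
      rcases hn with rfl | rfl
      · exact one_ne_zero (show (1 : F) = 0 by push_cast at hsum; linear_combination -hsum)
      -- six coordinates: an equal pair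
      obtain ⟨x, y, hxy, hxa, hxb, hya, hyb, hvxy⟩ : ∃ x y, x ≠ y ∧ x ≠ a ∧ x ≠ b ∧ y ≠ a ∧ y ≠ b ∧ v x = v y := by
        have hs : ∀ m, v m ≠ 0 → v m = v c₁ ∨ v m = -v c₁ := fun m hm => mul_self_eq_mul_self_iff.1
          (mul_left_cancel₀ (show (4 : F) ≠ 0 from fun h => mul_ne_zero h2 h2 (by linear_combination h))
            ((hquart m (hout hm).1 (hout hm).2).trans hx1.symm))
        rcases hs c₂ hc₂ with e | e
        · exact ⟨c₂, c₁, h12, (hout hc₂).1, (hout hc₂).2, (hout hc₁).1, (hout hc₁).2, e⟩
        rcases hs c₃ hc₃ with e' | e'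
        · exact ⟨c₃, c₁, h31, (hout hc₃).1, (hout hc₃).2, (hout hc₁).1, (hout hc₁).2, e'⟩
        · exact ⟨c₃, c₂, h32, (hout hc₃).1, (hout hc₃).2, (hout hc₂).1, (hout hc₂).2, e'.trans e.symm⟩
      let π : Equiv.Perm (Fin 6) := Equiv.swap a b * Equiv.swap x y
      have hπ : Equiv.Perm.sign π = 1 := by
        rw [map_mul, Equiv.Perm.sign_swap hab, Equiv.Perm.sign_swap hxy]; rfl
      have hπa : π a = b := by
        simp [π, Equiv.swap_apply_of_ne_of_ne (Ne.symm hxa) (Ne.symm hya)]
      have hπb : π b = a := by
        simp [π, Equiv.swap_apply_of_ne_of_ne (Ne.symm hxb) (Ne.symm hyb)]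
      have hl := hsand (permO π) (hO.perm_mem hπ) (by
        rw [hga, map_add, map_smul, map_smul, permO_e, permO_e, hπa, hπb, map_add, map_smul, map_smul, hga, hgb]
        refine isLine_of_zero (a := b) fun i hi => ?_
        simp only [Pi.add_apply, Pi.smul_apply, smul_eq_mul, e_ne hi]
        ring)
      have hπv : (permO π : O F 6).1 v = v := by
        funext i
        rw [permO_apply]
        have hsymm : π.symm i = Equiv.swap x y (Equiv.swap a b i) := rfl
        rw [hsymm]
        rcases eq_or_ne i a with rfl | hia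
        · rw [Equiv.swap_apply_left, Equiv.swap_apply_of_ne_of_ne (Ne.symm hxb) (Ne.symm hyb), hvb, hva]
        rcases eq_or_ne i b with rfl | hib
        · rw [Equiv.swap_apply_right, Equiv.swap_apply_of_ne_of_ne (Ne.symm hxa) (Ne.symm hya), hvb, hva]
        rw [Equiv.swap_apply_of_ne_of_ne hia hib]
        rcases eq_or_ne i x with rfl | hix
        · rw [Equiv.swap_apply_left, hvxy]
        rcases eq_or_ne i y with rfl | hiy
        · rw [Equiv.swap_apply_right, hvxy]
        rw [Equiv.swap_apply_of_ne_of_ne hix hiy]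
      rw [hπv] at hl
      rcases two_point h2 g hl (hw c₁ (hout hc₁).1 (hout hc₁).2) (hfm c₁).symm with h | h | h
      · rw [dot_flips_one, hvv] at h
        exact one_ne_zero (show (1 : F) = 0 by linear_combination 2 * h + hx1)
      · have := congrFun h c₁
        rw [flips_apply, if_pos (Finset.mem_singleton_self _)] at this
        exact hc₁ ((mul_eq_zero.1 (show 2 * v c₁ = 0 by linear_combination -this)).resolve_left h2)
      · have := congrFun h c₂
        rw [flips_apply, if_neg (by simpa using h12), Pi.neg_apply] at this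
        exact hc₂ ((mul_eq_zero.1 (show 2 * v c₂ = 0 by linear_combination this)).resolve_left h2)
    -- two coordinates: a root
    push Not at h3
    obtain ⟨m₀, hm₀⟩ := exists_avoid ({a, b, c₁, c₂} : Finset (Fin n))
      (by have : ({a, b, c₁, c₂} : Finset (Fin n)).card ≤ 4 := Finset.card_le_four; omega)
    simp only [Finset.mem_insert, Finset.mem_singleton, not_or] at hm₀
    have hm₀v : v m₀ = 0 := h3 m₀ hm₀.2.2.1 hm₀.2.2.2
    have hl0 := hw m₀ hm₀.1 hm₀.2.1
    rw [hfz m₀ hm₀v] at hl0
    rcases two_point h2 g hl0 (hw c₁ (hout hc₁).1 (hout hc₁).2) (hfm c₁).symm with h | h | h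
    · rw [dot_flips_one, hvv] at h
      have hsupp : ∀ i, i ≠ c₁ → i ≠ c₂ → v i = 0 := h3
      refine no_root hO hn hL hg (p := c) (Ne.symm h12) hsupp ?_
      rw [← hv]
      have := hvv
      rw [dot_two (Ne.symm h12) hsupp] at this
      linear_combination -this - h
    · have := congrFun h c₁
      rw [flips_apply, if_pos (Finset.mem_singleton_self _)] at this
      exact hc₁ ((mul_eq_zero.1 (show 2 * v c₁ = 0 by linear_combination -this)).resolve_left h2)
    · have := congrFun h c₂
      rw [flips_apply, if_neg (by simpa using h12), Pi.neg_apply] at this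
      exact hc₂ ((mul_eq_zero.1 (show 2 * v c₂ = 0 by linear_combination this)).resolve_left h2)
  set α := g.1 (e a) a with hα
  set β := g.1 (e a) b with hβ
  set γ := g.1 (e b) a with hγ
  set δ := g.1 (e b) b with hδ
  by_cases hα0 : α = 0
  · refine mon_of_line hO h4n hL hg (k := a) (isLine_of_zero (a := b) fun i hi => ?_)
    rcases eq_or_ne i a with rfl | hia
    exacts [hα0, ha i hia hi]
  by_cases hβ0 : β = 0
  · refine mon_of_line hO h4n hL hg (k := a) (isLine_of_zero (a := a) fun i hi => ?_)
    rcases eq_or_ne i b with rfl | hib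
    exacts [hβ0, ha i hi hib]
  have hga : g.1 (e a) = α • e a + β • e b := eq_two hab ha
  have hgb : g.1 (e b) = γ • e a + δ • e b := eq_two hab hb
  have o1 : α * α + β * β = 1 := by
    have := std_map g (e a)
    rw [dot_two hab ha, e_dot, e_same] at this
    exact this
  have o2 : γ * γ + δ * δ = 1 := by
    have := std_map g (e b)
    rw [dot_two hab hb, e_dot, e_same] at this
    exact this
  have o3 : α * γ + β * δ = 0 := by
    have := dot_isom h2 g (e a) (e b)
    rw [dot_two hab ha, e_dot_e, if_neg hab] at this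
    exact this
  have hε : (α * δ - β * γ) * (α * δ - β * γ) = 1 := by
    linear_combination (γ * γ + δ * δ) * o1 + o2 - (α * γ + β * δ) * o3
  have hγ' : γ = -(α * δ - β * γ) * β := by linear_combination α * o3 - γ * o1
  have hδ' : δ = (α * δ - β * γ) * α := by linear_combination β * o3 - δ * o1
  rcases mul_self_eq_one_iff.1 hε with h | h
  · rw [h] at hγ' hδ'
    refine key g α β hg hα0 hβ0 hga ?_
    rw [hgb, hγ', hδ']
    simp
  · rw [h] at hγ' hδ'
    obtain ⟨c, hc⟩ := exists_avoid ({a, b} : Finset (Fin n))
      (by have : ({a, b} : Finset (Fin n)).card ≤ 2 := Finset.card_le_two; omega)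
    simp only [Finset.mem_insert, Finset.mem_singleton, not_or] at hc
    have hfM := hO.pair_mem (Ne.symm hc.1)
    have := key (g * flips {a, c}) (-α) (-β) (M.mul_mem hg hfM) (neg_ne_zero.2 hα0) (neg_ne_zero.2 hβ0) (by
      rw [mul_apply', flips_e, if_pos (Finset.mem_insert_self _ _), map_smul, hga]
      module) (by
      rw [mul_apply', flips_e, if_neg (by simp [hab.symm, Ne.symm hc.2]), one_smul, hgb, hγ', hδ']
      simp)
    have h' := mul_mem this (inv_mem (diag_le_mon (flips_mem_diag (F := F) ({a, c} : Finset (Fin n)))))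
    rwa [mul_inv_cancel_right] at h'

/-- An element commuting with a sign change of one or two coordinates, or of all but one or two, is monomial. -/
theorem mon_of_comm_flips {g : O F n} (hg : g ∈ M) {S : Finset (Fin n)}
    (hS : S.card = 1 ∨ S.card = 2 ∨ Sᶜ.card = 1 ∨ Sᶜ.card = 2) (hc : g * flips S = flips S * g) :
    g ∈ (Mon : Subgroup (O F n)) := by
  classical
  have h2 := hO.two
  have h4n : 4 ≤ n := by omega
  have hz : ∀ x i, ¬(x ∈ S ↔ i ∈ S) → g.1 (e x) i = 0 := by
    intro x i hne
    have := congrArg (fun q : O F n => q.1 (e x) i) hc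
    simp only [mul_apply', flips_e, map_smul, Pi.smul_apply, smul_eq_mul, flips_apply] at this
    by_contra h0
    by_cases h1 : x ∈ S <;> by_cases h3 : i ∈ S <;> simp [h1, h3] at hne this
    · exact h0 ((mul_eq_zero.1 (show 2 * g.1 (e x) i = 0 by linear_combination -this)).resolve_left h2)
    · exact h0 ((mul_eq_zero.1 (show 2 * g.1 (e x) i = 0 by linear_combination this)).resolve_left h2)
  have main : ∀ K : Finset (Fin n), K.card = 1 ∨ K.card = 2 → (∀ x ∈ K, ∀ i, i ∉ K → g.1 (e x) i = 0) →
      g ∈ (Mon : Subgroup (O F n)) := by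
    rintro K (hK | hK) hK'
    · obtain ⟨x, rfl⟩ := Finset.card_eq_one.1 hK
      exact mon_of_line hO h4n hL hg (k := x) (isLine_of_zero (a := x) fun i hi =>
        hK' x (Finset.mem_singleton_self x) i (by simpa using hi))
    · obtain ⟨x, y, hxy, rfl⟩ := Finset.card_eq_two.1 hK
      exact mon_of_pair hO hn hL hg hxy (fun i h h' => hK' x (by simp) i (by simp [h, h']))
        (fun i h h' => hK' y (by simp) i (by simp [h, h']))
  rcases hS with h | h | h | h
  · exact main S (Or.inl h) fun x hx i hi => hz x i fun e' => hi (e'.1 hx)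
  · exact main S (Or.inr h) fun x hx i hi => hz x i fun e' => hi (e'.1 hx)
  · exact main Sᶜ (Or.inl h) fun x hx i hi => hz x i fun e' => (Finset.mem_compl.1 hx) (e'.2 (by simpa using hi))
  · exact main Sᶜ (Or.inr h) fun x hx i hi => hz x i fun e' => (Finset.mem_compl.1 hx) (e'.2 (by simpa using hi))

end Step

end CfsgLib.Classical.FrameMax
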