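import Cfsg.Agent.Lib.Classical.FrameMax.Basic

/-!
# Unit vectors closed under their reflections; transitivity on spheres of a three-space
-/

set_option autoImplicit false
set_option linter.unusedSectionVars false
set_option linter.style.haveILetI false

namespace CfsgLib.Classical.FrameMax

open Module QuadraticMap Matrix CfsgLib.Orth

noncomputable section

variable {F : Type*} [Field F] [Fintype F] {n : ℕ}

theorem exists_natCast_eq (hp : (Fintype.card F).Prime) (x : F) : ∃ k : ℕ, (k : F) = x := by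
  haveI : Fact (Fintype.card F).Prime := ⟨hp⟩
  haveI : CharP F (Fintype.card F) := charP_of_card_eq_prime rfl
  have hb : Function.Bijective (ZMod.castHom (dvd_refl (Fintype.card F)) F) := by
    rw [Fintype.bijective_iff_injective_and_card, ZMod.card]
    exact ⟨RingHom.injective _, rfl⟩
  obtain ⟨z, hz⟩ := hb.2 x
  refine ⟨z.val, ?_⟩
  rw [← hz, ← map_natCast (ZMod.castHom (dvd_refl (Fintype.card F)) F), ZMod.natCast_zmod_val]

/-- A set of unit vectors with the properties used in the argument. -/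
structure RSet (R : Set (Fin n → F)) : Prop where
  unit : ∀ v ∈ R, v ⬝ᵥ v = 1
  frame : ∀ i, e i ∈ R
  closed : ∀ u ∈ R, ∀ w ∈ R, (refl (std F n) u).1 w ∈ R
  perm : ∀ π : Equiv.Perm (Fin n), Equiv.Perm.sign π = 1 → ∀ v ∈ R, (permO π).1 v ∈ R

theorem RSet.neg {R : Set (Fin n → F)} (hR : RSet R) {v : Fin n → F} (h : v ∈ R) : -v ∈ R := by
  have := hR.closed v h v h
  rwa [refl_self (std F n) (by rw [std_apply, hR.unit v h]; exact one_ne_zero)] at this

theorem RSet.flip (h2 : (2 : F) ≠ 0) {R : Set (Fin n → F)} (hR : RSet R) (S : Finset (Fin n))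
    {v : Fin n → F} (h : v ∈ R) : (flips S).1 v ∈ R := by
  classical
  induction S using Finset.induction with
  | empty =>
    convert h
    funext i; simp [flips_apply]
  | insert a S ha ih =>
    have := hR.closed (e a) (hR.frame a) _ ih
    rw [refl_e h2] at this
    convert this using 1
    funext i
    simp only [flips_apply, Finset.mem_insert, Finset.mem_singleton]
    rcases eq_or_ne i a with rfl | hia
    · simp [ha]
    · simp [hia]

/-- The group generated by the reflections of the vectors of `R` inside `U`. -/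
def Ks (R : Set (Fin n → F)) (U : Submodule F (Fin n → F)) : Subgroup (O F n) :=
  Subgroup.closure (refl (std F n) '' {v | v ∈ R ∧ v ∈ U})

theorem refl_mem_Ks {R : Set (Fin n → F)} {U : Submodule F (Fin n → F)} {v : Fin n → F} (hv : v ∈ R)
    (hvU : v ∈ U) : refl (std F n) v ∈ Ks R U :=
  Subgroup.subset_closure ⟨v, ⟨hv, hvU⟩, rfl⟩

theorem Ks_mono {R : Set (Fin n → F)} {U W : Submodule F (Fin n → F)} (h : U ≤ W) : Ks R U ≤ Ks R W :=
  Subgroup.closure_mono (Set.image_mono fun _ hv => ⟨hv.1, h hv.2⟩)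

theorem Ks_spec {R : Set (Fin n → F)} (hR : RSet R) {U : Submodule F (Fin n → F)} {h : O F n}
    (hh : h ∈ Ks R U) :
    (∀ v ∈ R, h.1 v ∈ R) ∧ (∀ v ∈ U, h.1 v ∈ U) ∧
      ∀ y : Fin n → F, (∀ v ∈ U, v ⬝ᵥ y = 0) → h.1 y = y := by
  let P : Submonoid (O F n) :=
  { carrier := {h | (∀ v ∈ R, h.1 v ∈ R) ∧ (∀ v ∈ U, h.1 v ∈ U) ∧
      ∀ y : Fin n → F, (∀ v ∈ U, v ⬝ᵥ y = 0) → h.1 y = y}
    one_mem' := ⟨fun _ h => h, fun _ h => h, fun _ _ => rfl⟩
    mul_mem' := fun {a b} ha hb => ⟨fun v hv => ha.1 _ (hb.1 v hv), fun v hv => ha.2.1 _ (hb.2.1 v hv),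
      fun y hy => by rw [mul_apply', hb.2.2 y hy, ha.2.2 y hy]⟩ }
  have hle : Submonoid.closure (refl (std F n) '' {v | v ∈ R ∧ v ∈ U}) ≤ P := by
    rw [Submonoid.closure_le]
    rintro _ ⟨v, ⟨hv, hvU⟩, rfl⟩
    refine ⟨fun w hw => hR.closed v hv w hw, fun w hw => ?_, fun y hy => refl_fix _ ?_⟩
    · rw [refl_apply]; exact U.sub_mem hw (U.smul_mem _ hvU)
    · rw [polar_std, hy v hvU, mul_zero]
  refine hle ?_
  rw [← Subgroup.closure_toSubmonoid_of_finite]
  exact hh

/-- `U` is a non-degenerate space of dimension at least three whose spheres are orbits of `Ks R U`. -/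
structure Full (R : Set (Fin n → F)) (U : Submodule F (Fin n → F)) : Prop where
  nondeg : ∀ u ∈ U, (∀ w ∈ U, u ⬝ᵥ w = 0) → u = 0
  dim : 3 ≤ finrank F U
  base : ∃ w ∈ R, w ∈ U
  trans : ∀ x ∈ U, ∀ y ∈ U, x ⬝ᵥ x = y ⬝ᵥ y → x ⬝ᵥ x ≠ 0 → ∃ h ∈ Ks R U, h.1 x = y

theorem Full.unit_mem {R : Set (Fin n → F)} (hR : RSet R) {U : Submodule F (Fin n → F)} (hU : Full R U)
    {x : Fin n → F} (hx : x ∈ U) (h1 : x ⬝ᵥ x = 1) : x ∈ R := by
  obtain ⟨w, hw, hwU⟩ := hU.base
  obtain ⟨h, hh, rfl⟩ := hU.trans w hwU x hx (by rw [h1, hR.unit w hw]) (by rw [hR.unit w hw]; exact one_ne_zero)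
  exact (Ks_spec hR hh).1 w hw

/-- A nonsquare is `a² - c b²` with `b ≠ 0`. -/
theorem exists_rep_nonsquare (h2 : (2 : F) ≠ 0) {c r : F} (hc : c ≠ 0) (hr : ¬IsSquare r) :
    ∃ a b : F, b ≠ 0 ∧ a * a - c * (b * b) = r := by
  classical
  have hodd : Fintype.card F % 2 = 1 := by
    rw [← Nat.odd_iff]
    by_contra hev
    rw [Nat.not_odd_iff_even] at hev
    have hchar : ringChar F = 2 :=
      FiniteField.even_card_iff_char_two.2 (Nat.even_iff.1 hev)
    haveI := ringChar.of_eq hchar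
    exact h2 (CharP.cast_eq_zero F 2)
  obtain ⟨a, b, hab⟩ := FiniteField.exists_root_sum_quadratic (f := (Polynomial.X ^ 2 : Polynomial F))
    (g := Polynomial.C (-c) * Polynomial.X ^ 2 - Polynomial.C r)
    (by simp) (by
      rw [Polynomial.degree_sub_eq_left_of_degree_lt, Polynomial.degree_C_mul_X_pow _ (neg_ne_zero.2 hc)]
      · rfl
      · rw [Polynomial.degree_C_mul_X_pow _ (neg_ne_zero.2 hc)]
        exact lt_of_le_of_lt Polynomial.degree_C_le (by norm_num)) hodd
  simp at hab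
  refine ⟨a, b, fun hb => hr ⟨a, ?_⟩, by linear_combination hab⟩
  rw [hb] at hab
  linear_combination -hab

section Three

variable {d d' w : Fin n → F} {ω : F}

/-- The vector with the given coordinates. -/
def vec (d d' w : Fin n → F) : (Fin 3 → F) →ₗ[F] (Fin n → F) :=
  Fintype.linearCombination F ![d, d', w]

theorem vec_apply (x : Fin 3 → F) : vec d d' w x = x 0 • d + x 1 • d' + x 2 • w := by
  simp [vec, Fintype.linearCombination_apply, Fin.sum_univ_three]

theorem vec_mk (α β γ : F) : vec d d' w ![α, β, γ] = α • d + β • d' + γ • w := by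
  simp [vec_apply]

variable (hdd : d ⬝ᵥ d = 0) (hdd' : d' ⬝ᵥ d' = 0) (h1 : d ⬝ᵥ d' = 1)
  (hdw : d ⬝ᵥ w = 0) (hd'w : d' ⬝ᵥ w = 0) (hww : w ⬝ᵥ w = ω) (hω : ω ≠ 0)

include hdd hdd' h1 hdw hd'w hww

theorem vec_dot (α β γ α' β' γ' : F) :
    (α • d + β • d' + γ • w) ⬝ᵥ (α' • d + β' • d' + γ' • w) = α * β' + β * α' + ω * (γ * γ') := by
  simp only [add_dotProduct, smul_dotProduct, dotProduct_add, dotProduct_smul, smul_eq_mul, hdd, hdd', h1,
    hdw, hd'w, hww, dotProduct_comm d' d, dotProduct_comm w d, dotProduct_comm w d']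
  ring

include hω in
theorem vec_injective : Function.Injective (vec d d' w) := by
  rw [injective_iff_map_eq_zero]
  intro x hx
  rw [vec_apply] at hx
  have e0 := vec_dot hdd hdd' h1 hdw hd'w hww (x 0) (x 1) (x 2) 0 1 0
  have e1 := vec_dot hdd hdd' h1 hdw hd'w hww (x 0) (x 1) (x 2) 1 0 0
  have e2 := vec_dot hdd hdd' h1 hdw hd'w hww (x 0) (x 1) (x 2) 0 0 1
  rw [hx, zero_dotProduct] at e0 e1 e2
  funext i
  fin_cases i
  · show x 0 = 0; linear_combination -e0
  · show x 1 = 0; linear_combination -e1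
  · show x 2 = 0
    exact (mul_eq_zero.1 (show ω * x 2 = 0 by linear_combination -e2)).resolve_left hω

include hω in
/-- The shape of an isometry of the three-space fixing `d` and moving `w` along `d`. -/
theorem unipotent_apply (h2 : (2 : F) ≠ 0) {g : O F n}
    (hgU : g.1 d' ∈ LinearMap.range (vec d d' w))
    (hgd : g.1 d = d) {s : F} (hgw : g.1 w = w + s • d) :
    ∀ k : ℕ, ∀ α β γ : F, (g ^ k).1 (α • d + β • d' + γ • w) =
      (α - (k * (-s / ω)) * ω * γ - (k * (-s / ω)) * (k * (-s / ω)) * ω * β / 2) • d + β • d' +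
        (γ + k * (-s / ω) * β) • w := by
  obtain ⟨x, hx⟩ := hgU
  rw [vec_apply] at hx
  have e1 : x 1 = 1 := by
    have h := dot_isom h2 g d d'
    rw [hgd, ← hx, h1] at h
    have := vec_dot hdd hdd' h1 hdw hd'w hww 1 0 0 (x 0) (x 1) (x 2)
    simp only [one_smul, zero_smul, add_zero, h] at this
    linear_combination -this
  have e2 : s + ω * x 2 = 0 := by
    have h := dot_isom h2 g w d'
    rw [hgw, ← hx, dotProduct_comm w d', hd'w] at h
    have := vec_dot hdd hdd' h1 hdw hd'w hww s 0 1 (x 0) (x 1) (x 2)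
    rw [show s • d + (0 : F) • d' + (1 : F) • w = w + s • d by simp [add_comm], h, e1] at this
    linear_combination -this
  have e3 : 2 * x 0 + ω * (x 2 * x 2) = 0 := by
    have h := dot_isom h2 g d' d'
    rw [← hx, hdd', vec_dot hdd hdd' h1 hdw hd'w hww, e1] at h
    linear_combination h
  have ex2 : x 2 = -s / ω := by field_simp; linear_combination e2
  have ex0 : x 0 = -((-s / ω) * (-s / ω) * ω) / 2 := by
    rw [← ex2]; field_simp; linear_combination e3
  intro k
  induction k with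
  | zero => intro α β γ; simp [one_apply']
  | succ k ih =>
    intro α β γ
    have hgv : g.1 (α • d + β • d' + γ • w) = α • d + β • (x 0 • d + x 1 • d' + x 2 • w) + γ • (w + s • d) := by
      simp only [map_add, map_smul, hgd, hgw, ← hx]
    rw [pow_succ, mul_apply', hgv, e1, ex0, ex2]
    set t := -s / ω with ht
    have hs : s = -(t * ω) := by rw [ht]; field_simp
    rw [hs]
    have key := ih (α + β * (-(t * t * ω) / 2) + γ * -(t * ω)) β (γ + β * t)
    have hrw : α • d + β • ((-(t * t * ω) / 2) • d + (1 : F) • d' + t • w) + γ • (w + -(t * ω) • d) =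
        (α + β * (-(t * t * ω) / 2) + γ * -(t * ω)) • d + β • d' + (γ + β * t) • w := by
      module
    rw [hrw, key]
    push_cast
    congr 1
    · congr 1
      congr 1
      field_simp
      ring
    · congr 1
      ring

include hω in
/-- Two opposite unipotent elements give a full three-space. -/
theorem full_of_unipotents (hp : (Fintype.card F).Prime) (h2 : (2 : F) ≠ 0) {R : Set (Fin n → F)}
    (hR : RSet R) {g g' : O F n} (hg : g ∈ Ks R (LinearMap.range (vec d d' w)))
    (hg' : g' ∈ Ks R (LinearMap.range (vec d d' w)))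
    (hgd : g.1 d = d) {s : F} (hs : s ≠ 0) (hgw : g.1 w = w + s • d)
    (hgd' : g'.1 d' = d') {s' : F} (hs' : s' ≠ 0) (hgw' : g'.1 w = w + s' • d')
    {b : Fin n → F} (hb : b ∈ R) (hbU : b ∈ LinearMap.range (vec d d' w)) :
    Full R (LinearMap.range (vec d d' w)) := by
  classical
  set U := LinearMap.range (vec d d' w) with hU
  have hmem : ∀ α β γ : F, α • d + β • d' + γ • w ∈ U := fun α β γ => ⟨![α, β, γ], vec_mk α β γ⟩
  have hrep : ∀ x ∈ U, ∃ α β γ : F, x = α • d + β • d' + γ • w := by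
    rintro x ⟨c, rfl⟩; exact ⟨c 0, c 1, c 2, vec_apply c⟩
  have hdU : d ∈ U := by simpa using hmem 1 0 0
  have hd'U : d' ∈ U := by simpa using hmem 0 1 0
  have hdot := vec_dot hdd hdd' h1 hdw hd'w hww
  let Rel : (Fin n → F) → (Fin n → F) → Prop := fun x y => ∃ h ∈ Ks R U, h.1 x = y
  have hrefl : ∀ x, Rel x x := fun x => ⟨1, one_mem _, rfl⟩
  have hsymm : ∀ {x y}, Rel x y → Rel y x := fun {x y} ⟨h, hh, e'⟩ =>
    ⟨h⁻¹, inv_mem hh, by rw [← e', inv_apply']⟩
  have htr : ∀ {x y z}, Rel x y → Rel y z → Rel x z := fun {x y z} ⟨h, hh, e'⟩ ⟨k, hk, e''⟩ =>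
    ⟨k * h, mul_mem hk hh, by rw [mul_apply', e', e'']⟩
  have hT : ∀ t α β γ : F, Rel (α • d + β • d' + γ • w)
      ((α - t * ω * γ - t * t * ω * β / 2) • d + β • d' + (γ + t * β) • w) := by
    intro t α β γ
    have hs0 : -s / ω ≠ 0 := div_ne_zero (neg_ne_zero.2 hs) hω
    obtain ⟨k, hk⟩ := exists_natCast_eq hp (t / (-s / ω))
    refine ⟨g ^ k, pow_mem hg k, ?_⟩
    rw [unipotent_apply hdd hdd' h1 hdw hd'w hww hω h2 ((Ks_spec hR hg).2.1 d' hd'U) hgd hgw, hk,
      div_mul_cancel₀ t hs0]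
  have hT' : ∀ t α β γ : F, Rel (α • d + β • d' + γ • w)
      (α • d + (β - t * ω * γ - t * t * ω * α / 2) • d' + (γ + t * α) • w) := by
    intro t α β γ
    have hs0 : -s' / ω ≠ 0 := div_ne_zero (neg_ne_zero.2 hs') hω
    obtain ⟨k, hk⟩ := exists_natCast_eq hp (t / (-s' / ω))
    refine ⟨g' ^ k, pow_mem hg' k, ?_⟩
    have hswap : g'.1 d ∈ LinearMap.range (vec d' d w) := by
      obtain ⟨a, b', c, he⟩ := hrep _ ((Ks_spec hR hg').2.1 d hdU)
      exact ⟨![b', a, c], by rw [vec_mk, he, add_comm (b' • d') (a • d)]⟩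
    have := unipotent_apply hdd' hdd ((dotProduct_comm d' d).trans h1) hd'w hdw hww hω h2 hswap hgd' hgw' k β α γ
    rw [hk, div_mul_cancel₀ t hs0, add_comm (β • d') (α • d)] at this
    rw [this]
    abel
  -- normal form
  have hnorm : ∀ α β γ : F, 2 * (α * β) + ω * (γ * γ) ≠ 0 → ∃ f, f ≠ 0 ∧
      Rel (α • d + β • d' + γ • w) (((2 * (α * β) + ω * (γ * γ)) / (2 * f)) • d + f • d' + (0 : F) • w) := by
    intro α β γ hν
    have step : ∀ α β γ : F, 2 * (α * β) + ω * (γ * γ) ≠ 0 → β ≠ 0 → ∃ f, f ≠ 0 ∧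
        Rel (α • d + β • d' + γ • w) (((2 * (α * β) + ω * (γ * γ)) / (2 * f)) • d + f • d' + (0 : F) • w) := by
      intro α β γ _ hβ
      refine ⟨β, hβ, ?_⟩
      convert hT (-γ / β) α β γ using 3
      · field_simp; ring
      · field_simp; ring
    by_cases hβ : β = 0
    · obtain ⟨t, ht⟩ : ∃ t : F, β - t * ω * γ - t * t * ω * α / 2 ≠ 0 := by
        by_contra h
        push Not at h
        have ha := h 1
        have hb' := h (-1)
        rw [hβ] at ha hb'
        have hg0 : γ = 0 := (mul_eq_zero.1 (show (2 * ω) * γ = 0 by linear_combination hb' - ha)).resolve_left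
          (mul_ne_zero h2 hω)
        exact hν (by rw [hβ, hg0]; ring)
      have hr := hT' t α β γ
      have hν' : 2 * (α * (β - t * ω * γ - t * t * ω * α / 2)) + ω * ((γ + t * α) * (γ + t * α)) =
          2 * (α * β) + ω * (γ * γ) := by field_simp; ring
      obtain ⟨f, hf, hr'⟩ := step _ _ _ (by rw [hν']; exact hν) ht
      rw [hν'] at hr'
      exact ⟨f, hf, htr hr hr'⟩
    · exact step α β γ hν hβ
  have hlink : ∀ ν r f : F, ν ≠ 0 → f ≠ 0 → ¬IsSquare r →
      Rel ((ν / (2 * f)) • d + f • d' + (0 : F) • w) ((ν / (2 * (r * f))) • d + (r * f) • d' + (0 : F) • w) := by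
    intro ν r f hν hf hr
    obtain ⟨a, b', hb', hab⟩ := exists_rep_nonsquare h2 (c := ω * ν / 4)
      (div_ne_zero (mul_ne_zero hω hν) (by intro h; exact mul_ne_zero h2 h2 (by linear_combination h))) hr
    have hr0 : r ≠ 0 := fun h => hr (h ▸ IsSquare.zero)
    set s₁ := b' * f
    have hs1 : s₁ ≠ 0 := mul_ne_zero hb' hf
    set t := 2 * (1 - a) / (s₁ * ω) with ht
    have r1 := hT t (ν / (2 * f)) f 0
    have r2 := hT' s₁ (ν / (2 * f) - t * ω * 0 - t * t * ω * f / 2) f (0 + t * f)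
    have hβ : f - s₁ * ω * (0 + t * f) - s₁ * s₁ * ω * (ν / (2 * f) - t * ω * 0 - t * t * ω * f / 2) / 2 = r * f := by
      have hta : t * (s₁ * ω) = 2 * (1 - a) := by rw [ht]; field_simp
      have h4 : (4 : F) ≠ 0 := by intro h; exact mul_ne_zero h2 h2 (by linear_combination h)
      clear_value t
      clear ht
      have ha' : a = 1 - t * (s₁ * ω) / 2 := by field_simp; linear_combination hta
      rw [← hab, ha']
      simp only [s₁]
      field_simp
      ring
    rw [hβ] at r2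
    set α' := ν / (2 * f) - t * ω * 0 - t * t * ω * f / 2
    set γ' := 0 + t * f + s₁ * α'
    have r3 := hT (-γ' / (r * f)) α' (r * f) γ'
    refine htr r1 (htr r2 ?_)
    have hν' : 2 * (α' * (r * f)) + ω * (γ' * γ') = ν := by
      have h0 := hdot α' (r * f) γ' α' (r * f) γ'
      obtain ⟨h, hh, he⟩ := htr r1 r2
      rw [← he, dot_isom h2, hdot] at h0
      have : ν / (2 * f) * f + f * (ν / (2 * f)) = ν := by field_simp; ring
      linear_combination this - h0
    convert r3 using 3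
    · congr 1
      rw [← hν']; field_simp; ring
    · field_simp; ring
  refine ⟨fun u hu h0 => ?_, ?_, ⟨b, hb, hbU⟩, ?_⟩
  · obtain ⟨α, β, γ, rfl⟩ := hrep u hu
    have a1 := h0 _ (hmem 0 1 0)
    have a2 := h0 _ (hmem 1 0 0)
    have a3 := h0 _ (hmem 0 0 1)
    rw [hdot] at a1 a2 a3
    rw [show α = 0 by linear_combination a1, show β = 0 by linear_combination a2,
      show γ = 0 from (mul_eq_zero.1 (show ω * γ = 0 by linear_combination a3)).resolve_left hω]
    simp
  · rw [hU, LinearMap.finrank_range_of_inj (vec_injective hdd hdd' h1 hdw hd'w hww hω), Module.finrank_fin_fun]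
  · intro x hx y hy hxy hx0
    obtain ⟨α, β, γ, rfl⟩ := hrep x hx
    obtain ⟨α', β', γ', rfl⟩ := hrep y hy
    rw [hdot] at hx0 hxy
    rw [hdot] at hxy
    set ν := 2 * (α * β) + ω * (γ * γ) with hνdef
    have hν : ν ≠ 0 := fun h => hx0 (by linear_combination h)
    have hν' : 2 * (α' * β') + ω * (γ' * γ') = ν := by rw [hνdef]; linear_combination -hxy
    obtain ⟨f, hf, r1⟩ := hnorm α β γ hν
    obtain ⟨f', hf', r2⟩ := hnorm α' β' γ' (by rw [hν']; exact hν)
    rw [hν'] at r2
    refine htr r1 (htr ?_ (hsymm r2))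
    have hff : f' / f ≠ 0 := div_ne_zero hf' hf
    by_cases hsq : IsSquare (f' / f)
    · obtain ⟨r, hr⟩ := FiniteField.exists_nonsquare (F := F)
        (by intro h; haveI := ringChar.of_eq h; exact h2 (CharP.cast_eq_zero F 2))
      have hr0 : r ≠ 0 := fun h => hr (h ▸ IsSquare.zero)
      have hr' : ¬IsSquare (f' / f / r) := fun h => hr (by
        have := hsq.div h
        rwa [div_div_cancel₀ hff] at this)
      have r3 := hlink ν r f hν hf hr
      have r4 := hlink ν (f' / f / r) (r * f) hν (mul_ne_zero hr0 hf) hr'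
      rw [show f' / f / r * (r * f) = f' by field_simp] at r4
      exact htr r3 r4
    · have r3 := hlink ν (f' / f) f hν hf hsq
      rwa [div_mul_cancel₀ f' hf] at r3

end Three

end

end CfsgLib.Classical.FrameMax
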